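import Cfsg.Agent.KM.E2.Tool
import Cfsg.Agent.KM.Ev.Q2

/-!
# KM, `l = 2`, types `E₇`, `E₈` : a frame adapted to the involutions of root type (helper13)
-/

set_option autoImplicit false
set_option linter.unusedSectionVars false

namespace Cfsg.Agent.KM.E2

open Cfsg Subgroup Cfsg.Agent.DL Cfsg.Agent.Nodes.Reps Cfsg.Agent.Nodes.BNOf Cfsg.Agent.Nodes.Coroot Cfsg.Agent.BpExc.Zc
  Cfsg.Agent.TO.X5 Cfsg.Agent.ChevalleyStructure.CoxeterGeom Cfsg.Agent.Tits.Roots Cfsg.Agent.KM.Tor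
open Cfsg.Agent.KM.Ev (KC KP KP.conj KP.cj KP.of_cj cen_cj Rk Pe Lp conj_comm conj_pow' Lp_comm Lp_le_G mem_Lp neg_Kr sz_neg)

namespace A1x

section Grp

variable {Y : Type} [Group Y] {K H Z D C Γ : Subgroup Y}

theorem pg (h : Lz H Z D C Γ) (d : Y) (hd : d ∈ D) : ∃ j : ℕ, d ^ 2 ^ j = 1 :=
  (h.pg ⟨d, hd⟩).imp fun _ e => congrArg Subtype.val e

theorem le (h : Lz H Z D C Γ) : D ≤ H := h.DC.trans (h.CΓ.trans h.le)

/-- the components commute -/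
theorem a1_abs {F : MulAut Y} {G : Subgroup Y} {t : Y} (H : Lz (GF F G) Z D C Γ) (hK : K ≤ G) (hF : ∀ x, F x ∈ K ↔ x ∈ K)
    (ht : t * t = 1) (hZ : ∀ z ∈ K, z ∈ centralizer (K : Set Y) → z = 1 ∨ z = t) (hC : C ≤ KP K)
    (hz : ∀ z ∈ Z, z ∈ K → z = 1) :
    (∀ x ∈ KC K D, ∃ j : ℕ, x ^ 2 ^ j = 1) ∧ ∀ x ∈ KC K D, ∀ y ∈ KC K D, x * y = y * x := by
  have h1 : ∀ x ∈ KC K D, ∃ j : ℕ, x ^ 2 ^ j = 1 := fun x ⟨hx, d, hd, h⟩ => by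
    obtain ⟨j, hj⟩ := pg H d hd
    rw [← mul_inv_cancel_left x d, (show Commute x _ from h x hx).mul_pow] at hj
    refine ⟨j + 1, ?_⟩
    rw [pow_succ, pow_mul, sq]
    rcases hZ _ (pow_mem hx _) (eq_inv_of_mul_eq_one_left hj ▸ inv_mem (pow_mem h _)) with e | e <;> rw [e]
    exacts [mul_one _, ht]
  have h2 : KC K D ⊓ fix F ≤ D := H.core _ (fun x hx => ⟨hK hx.1.1, hx.2⟩)
    (fun x => (h1 x x.2.1).imp fun _ e => Subtype.ext e) fun y hy u ⟨⟨hu, d, hd, h⟩, h3⟩ => by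
      have h4 := hC hy
      refine ⟨⟨KP.conj h4 hu, _, H.iv y (H.CΓ hy) d hd, ?_⟩,
        mem_fix.2 (by rw [map_mul, map_mul, map_inv, (mem_GF.1 (H.le (H.CΓ hy))).2, mem_fix.1 h3])⟩
      rw [← KP.cj h4, cen_cj, show y⁻¹ * ((y * u * y⁻¹)⁻¹ * (y * d * y⁻¹)) * y = u⁻¹ * d by group]
      exact h
  have h3 : ∀ x ∈ KC K D, ∀ u ∈ KC K D, F u = u → x * u = u * x := fun x ⟨hx, d, hd, h⟩ u hu e => by
    have h4 := ((H.mem d).1 (H.DC hd)).2 u (h2 ⟨hu, e⟩)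
    rw [show d * u * d⁻¹ * u⁻¹ = x * (x⁻¹ * d * u) * d⁻¹ * u⁻¹ by group, ← h u hu.1,
      show x * (u * (x⁻¹ * d)) * d⁻¹ = x * u * x⁻¹ by group] at h4
    exact mul_inv_eq_iff_eq_mul.1 (mul_inv_eq_one.1
      (hz _ h4 (mul_mem (mul_mem (mul_mem hx hu.1) (inv_mem hx)) (inv_mem hu.1))))
  have h4 : ∀ x ∈ KC K D, F x = x ∨ (F x = x * t ∧ t ∈ centralizer (K : Set Y)) := fun x ⟨hx, d, hd, h⟩ => by
    have h5 : x⁻¹ * F x ∈ centralizer (K : Set Y) := by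
      rw [show x⁻¹ * F x = x⁻¹ * d * (F (x⁻¹ * d))⁻¹ by rw [map_mul, map_inv, (mem_GF.1 (le H hd)).2]; group]
      refine mul_mem h (inv_mem fun z hz => ?_)
      obtain ⟨z, rfl⟩ := F.surjective z
      rw [← map_mul, h z ((hF z).1 hz), map_mul]
    exact (hZ _ (mul_mem (inv_mem hx) ((hF x).2 hx)) h5).imp (fun e => (inv_mul_eq_one.1 e).symm)
      fun e => ⟨inv_mul_eq_iff_eq_mul.1 e, e ▸ h5⟩
  refine ⟨h1, fun x hx y hy => ?_⟩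
  rcases h4 y hy with e | ⟨e, h5⟩
  · exact h3 x hx y hy e
  rcases h4 x hx with e' | ⟨e', -⟩
  · exact (h3 y hy x hx e').symm
  have h6 := h3 x hx _ (mul_mem hx hy) (by
    rw [map_mul, e, e', mul_assoc, ← mul_assoc t, ← h5 y hy.1, mul_assoc, ht, mul_one])
  rw [mul_assoc] at h6
  exact mul_left_cancel h6

end Grp

variable {p : ℕ} [Fact p.Prime] {k : Type} [Field k] [CharP k p] {Y : Type} [Group Y] {N : Type} [Fintype N]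
  [DecidableEq N] {ρ : Y →* GL N k} {F : MulAut Y} {G : Subgroup Y} [IsAlgClosed k] {X : Datum p ρ F G}
  {a b : X.I → ℤ} {Z D C Γ K : Subgroup Y} {t g y : Y}

variable (hp : p ≠ 2) (hL : LS X)
include hp hL

theorem stable (ht : F t = t) (hK : Rk X t K) : ∀ y ∈ K, F y ∈ K := by
  intro y hy
  obtain ⟨g, hg, a, ha, e, e'⟩ := id hK
  have h1 : (F g)⁻¹ * t * F g = ct X (X.g a) (-1) := by
    rw [← ht, ← map_inv, ← map_mul, ← map_mul, e, F_ct ha.1, (((Fact.out : p.Prime).odd_of_ne_two hp).pow).neg_one_pow]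
  obtain ⟨b, hb, h2, h3⟩ := hK.move hL.cz hp (X.F_mem_G hg) (h1 ▸ ct_mem _ _)
  have h4 := hL.ct_inj hp hb.1 (X.g_root a ha.1) (by rw [← h1, h2, Ev.ct_sq]; exact one_mem _)
  rw [h3, mem_cj, ← map_inv, ← map_mul, ← map_mul]
  refine X.F_mem_S (TO.G2D.rt_pair ha.1) ?_ (mem_cj.1 (e' ▸ hy))
  rintro _ (rfl | rfl)
  · exact h4
  · rw [X.g_neg ha.1]
    exact h4.symm.imp (fun e => by rw [e, neg_neg]) fun e => congrArg _ e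

variable (H : Lz (GF F G) Z D C Γ) (hZ : Z ≤ ZG X)
include H hZ

/-- `C` centralises the involutions of root type -/
theorem comm (ht : t ∈ D) (h : RT X t) (hy : y ∈ C) : y * t = t * y := by
  obtain ⟨g, hg, a, ha, e⟩ := id h
  have h1 := hZ (((H.mem y).1 hy).2 t ht)
  have h2 : g⁻¹ * (y * t * y⁻¹) * g = y * t * y⁻¹ * t⁻¹ * ct X a (-1) := by
    rw [← e, ← mul_assoc _ (g⁻¹ * t), ← mul_assoc _ g⁻¹, ← ZG_comm h1 (inv_mem hg)]; group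
  obtain ⟨b, hb, h3⟩ := ((h.conj (inv_mem (H.le (H.CΓ hy)).1)).conj hg).eq
    (by rw [inv_inv, h2]; exact mul_mem h1.1 (ct_mem _ _))
  rw [inv_inv, h2] at h3
  have h4 : ct X b (-1) * ct X a (-1) = y * t * y⁻¹ * t⁻¹ := by rw [← h3, mul_assoc, Ev.ct_sq, mul_one]
  refine mul_inv_eq_iff_eq_mul.1 (mul_inv_eq_one.1 (h4.symm.trans ?_))
  rcases hL.ct_inj hp hb ha (h4 ▸ h1) with rfl | rfl
  exacts [Ev.ct_sq _, by rw [ct_neg' hb, Ev.ct_sq]]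

theorem cen (ht : t ∈ D) (hg : g ∈ G) (ha : X.Rt a) (e : g⁻¹ * t * g = ct X a (-1)) (hy : y ∈ C) :
    g⁻¹ * y * g ∈ X.cen {g⁻¹ * t * g} :=
  have h : RT X t := ⟨g, hg, a, ha, e⟩
  Ev.mc_of hL.pi1 (Nat.coprime_one_right 2) t (le H ht) h.sq y (H.le (H.CΓ hy)) (comm hp hL H hZ ht h hy) g hg (e ▸ ct_mem _ _)

theorem a1 (hg : g ∈ G) (ha : Lg X a) (ht : t ∈ D) (e : g⁻¹ * t * g = ct X a (-1)) :
    ∃ h ∈ X.S {a, -a}, ∀ d ∈ D, ∀ s, ct X a s * ((g * h)⁻¹ * d * (g * h)) = (g * h)⁻¹ * d * (g * h) * ct X a s := by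
  have hr := TO.G2D.rt_pair ha.1
  have h3 : C ≤ KP (cj g (X.S {a, -a})) := fun y hy =>
    KP.of_cj (Ev.cen_le_KP hL.cz ha (fun _ => sz_neg hp ha) (e ▸ cen hp hL H hZ ht hg ha.1 e hy))
  have h0 : ∀ x ∈ cj g (X.S {a, -a}), x ∈ G := fun x hx => by
    simpa [mul_assoc] using mul_mem (mul_mem hg (X.S_le_G hr (mem_cj.1 hx))) (inv_mem hg)
  have h1 : ∀ z ∈ cj g (X.S {a, -a}), z ∈ centralizer (cj g (X.S {a, -a}) : Set Y) → z = 1 ∨ z = t := fun z hz h =>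
    (Ev.cen_K ha.1 (mem_cj.1 hz) (cen_cj.1 h)).imp (fun e => by
      rwa [← inv_inv g, inv_inv g⁻¹, conj_eq_one_iff] at e) fun e' => by simpa using e'.trans e.symm
  obtain ⟨h4, h5⟩ := a1_abs H h0 (X.amb.mem_iff (stable hp hL (mem_GF.1 (le H ht)).2 ⟨g, hg, a, ha, e, rfl⟩))
    (RT.sq ⟨g, hg, a, ha.1, e⟩) h1 h3 fun z hz h => (h1 z h fun x hx => ZG_comm (hZ hz) (h0 x hx)).resolve_right fun e' =>
      hL.ct_not hp ha.1 (by rw [← e, ← e', ZG_comm (hZ hz) (inv_mem hg), inv_mul_cancel_right]; exact hZ hz)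
  have h6 : ∀ d ∈ D, ∃ x ∈ KC (cj g (X.S {a, -a})) D, g⁻¹ * (x⁻¹ * d) * g ∈ centralizer (X.S {a, -a} : Set Y) := fun d hd =>
    let ⟨x, hx, h⟩ := h3 (H.DC hd)
    ⟨x, ⟨hx, d, hd, h⟩, cen_cj.1 h⟩
  by_cases h7 : ∀ x ∈ KC (cj g (X.S {a, -a})) D, g⁻¹ * x * g ∈ centralizer (X.S {a, -a} : Set Y)
  · refine ⟨1, one_mem _, fun d hd s => ?_⟩
    obtain ⟨x, hx, h⟩ := h6 d hd
    rw [mul_one, show g⁻¹ * d * g = g⁻¹ * x * g * (g⁻¹ * (x⁻¹ * d) * g) by group]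
    exact mul_mem (h7 x hx) h _ (ct_S ha.1 s)
  push Not at h7
  obtain ⟨z, hz, h7⟩ := h7
  obtain ⟨j, hj⟩ := h4 z hz
  have h8 := mem_cj.1 hz.1
  obtain ⟨h, hh, c, hc⟩ := Ev.toral_K ha.1 h8 (Tor.not_dvd_ord Nat.prime_two hp.symm (conj_pow' hj))
  refine ⟨h, hh, fun d hd s => ?_⟩
  obtain ⟨x, hx, h12⟩ := h6 d hd
  have h13 := Ev.comm_ct ha.1 (fun e' => hL.ct_not hp ha.1 (e' ▸ one_mem _)) (c := c)
    (fun e' => h7 fun v hv => by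
      have h13 := conj_comm (g := h⁻¹) (hc ▸ comm_Kr ha.1 (mul_mem (mul_mem (inv_mem hh) hv) hh) ⟨ct_mem a c, e'⟩)
      simpa only [inv_inv, mul_assoc, mul_inv_cancel_left, mul_inv_cancel, mul_one] using h13.symm)
    (mul_mem (mul_mem (inv_mem hh) (mem_cj.1 hx.1)) hh) (hc ▸ conj_comm (conj_comm (h5 z hz x hx))) s
  rw [show (g * h)⁻¹ * d * (g * h) = h⁻¹ * (g⁻¹ * x * g) * h * (h⁻¹ * (g⁻¹ * (x⁻¹ * d) * g) * h) by group, ← mul_assoc, h13,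
    mul_assoc h⁻¹ (g⁻¹ * (x⁻¹ * d) * g) h, ← h12 h hh, inv_mul_cancel_left, mul_assoc, h12 _ (ct_S ha.1 s), ← mul_assoc]

theorem tor_all {R : Set Y} (hR : R.Finite) (h : ∀ t ∈ R, t ∈ D ∧ RT X t) :
    ∃ g ∈ G, ∃ P : Set (X.I → ℤ), (∀ a ∈ P, Lg X a) ∧ (∀ t ∈ R, ∃ a ∈ P, g⁻¹ * t * g = ct X a (-1)) ∧
      ∀ d ∈ D, g⁻¹ * d * g ∈ Lp X P := by
  have hD : ∀ d ∈ D, ∀ g ∈ G, g⁻¹ * d * g ∈ G ∧ ∃ j : ℕ, (g⁻¹ * d * g) ^ 2 ^ j = 1 := fun d hd g hg =>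
    ⟨mul_mem (mul_mem (inv_mem hg) (le H hd).1) hg, (pg H d hd).imp fun _ => conj_pow'⟩
  have e1 : ∀ g c d : Y, (g * c)⁻¹ * d * (g * c) = c⁻¹ * (g⁻¹ * d * g) * c := fun _ _ _ => by group
  induction R, hR using Set.Finite.induction_on with
  | empty => exact ⟨1, one_mem _, ∅, fun _ h => h.elim, fun _ h => h.elim, fun d hd =>
      let ⟨h1, _, h2⟩ := hD d hd 1 (one_mem _)
      mem_Lp hp (fun _ h => h.elim) h1 h2 fun _ h => h.elim⟩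
  | @insert t R _ _ ih =>
    obtain ⟨g, hg, P, h1, h2, h3⟩ := ih fun t ht => h t (.inr ht)
    obtain ⟨t1, t3⟩ := h t (.inl rfl)
    have key : ∀ g ∈ G, (∀ t ∈ R, ∃ a ∈ P, g⁻¹ * t * g = ct X a (-1)) → (∀ d ∈ D, g⁻¹ * d * g ∈ Lp X P) → ∀ c ∈ Lp X P,
        g * c ∈ G ∧ (∀ t ∈ R, ∃ a ∈ P, (g * c)⁻¹ * t * (g * c) = ct X a (-1)) ∧ ∀ d ∈ D, (g * c)⁻¹ * d * (g * c) ∈ Lp X P :=
      fun g hg h2 h3 c hc => ⟨mul_mem hg (Lp_le_G hc), fun t ht => (h2 t ht).imp fun a ha => ⟨ha.1, by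
        rw [e1, ha.2, mul_assoc, Lp_comm (h1 a ha.1).1 ha.1 hc, inv_mul_cancel_left]⟩,
        fun d hd => e1 g c d ▸ mul_mem (mul_mem (inv_mem hc) (h3 d hd)) hc⟩
    obtain ⟨j, hj⟩ := (hD t t1 g hg).2
    obtain ⟨c, hc, h4⟩ := Ev.toral_Lp hp h1 (h3 t t1) (Tor.not_dvd_ord Nat.prime_two hp.symm hj)
    obtain ⟨hg, h2, h3⟩ := key g hg h2 h3 c hc
    rw [← e1] at h4
    generalize g * c = g at hg h2 h3 h4
    obtain ⟨b, hb, h5⟩ := (t3.conj hg).eq h4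
    replace hb := hL.lg hb
    have h6 : ∀ a ∈ insert b P, Lg X a := by
      rintro a (rfl | ha)
      exacts [hb, h1 a ha]
    have fin : ∀ g ∈ G, (∀ t ∈ R, ∃ a ∈ P, g⁻¹ * t * g = ct X a (-1)) → g⁻¹ * t * g = ct X b (-1) →
        (∀ d ∈ D, g⁻¹ * d * g ∈ Lp X (insert b P)) → ∃ g ∈ G, ∃ P : Set (X.I → ℤ), (∀ a ∈ P, Lg X a) ∧
        (∀ s ∈ insert t R, ∃ a ∈ P, g⁻¹ * s * g = ct X a (-1)) ∧ ∀ d ∈ D, g⁻¹ * d * g ∈ Lp X P :=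
      fun g hg k1 k2 k3 => ⟨g, hg, _, h6, by
        rintro s (rfl | hs)
        exacts [⟨b, .inl rfl, k2⟩, (k1 s hs).imp fun a ha => ⟨.inr ha.1, ha.2⟩], k3⟩
    by_cases h7 : ∀ a ∈ P, cpr X.cs X.h b a = 0
    · obtain ⟨c, hc, h8⟩ := a1 hp hL H hZ hg hb t1 h5
      obtain ⟨hg', k1, k2⟩ := key g hg h2 h3 c (le_sup_right (a := X.T) (RGD.Sup_mono (S := {b, -b}) (by
        rintro _ (rfl | rfl)
        exacts [⟨hb.1, h7⟩, ⟨hb.1.neg, fun a ha => by rw [cpr_neg _ _ _ (h1 a ha).1, h7 a ha, neg_zero]⟩]) hc))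
      refine fin _ hg' k1 (by rw [e1, h5, mul_assoc, comm_Kr hb.1 hc (neg_Kr hb.1), inv_mul_cancel_left]) fun d hd => ?_
      obtain ⟨k3, i, k4⟩ := hD d hd _ hg'
      refine mem_Lp hp h6 k3 k4 ?_
      rintro a (rfl | ha) s
      exacts [h8 d hd s, Lp_comm (h1 a ha).1 ha (k2 d hd) s]
    · refine fin g hg h2 h5 fun d hd => ?_
      obtain ⟨i, k4⟩ := (hD d hd g hg).2
      refine sup_le_sup_left (RGD.Sup_mono (S' := Pe X (insert b P)) fun c hc => ⟨hc.1.1, ?_⟩) _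
        (Ev.mem_cen_Lp hp h1 h4 (cen hp hL H hZ t1 hg hb.1 h5 (H.DC hd)) k4 (h3 d hd))
      rintro a (rfl | ha)
      · rcases sz_neg hp hb (h5 ▸ hc.2) with rfl | rfl | e
        · exact (h7 hc.1.2).elim
        · exact (h7 fun a ha => by simpa only [cpr_neg _ _ _ (h1 a ha).1, neg_eq_zero] using hc.1.2 a ha).elim
        · exact e
      · exact hc.1.2 a ha

end A1x

/-- **[A1]** -/
theorem boxA1x : BoxA1 := by
  intro p _ k _ _ Y _ N _ _ ρ F G _ X hp hL Z D C Γ H hZ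
  have := H.fin
  obtain ⟨g, hg, P, h1, h2, h3⟩ := A1x.tor_all hp hL H hZ (R := {t | t ∈ D ∧ RT X t})
    ((Set.toFinite (GF F G : Set Y)).subset fun t ht => A1x.le H ht.1) fun _ h => h
  obtain ⟨y, hy, hN, -, h4⟩ := SB.Exc.Max.exists_conj_le_T X (Z := {t | t ∈ D ∧ RT X t})
    (fun z hz => (mem_GF.1 (A1x.le H hz.1)).2.symm ▸ hz) hg fun z hz => let ⟨_, _, e⟩ := h2 z hz; e ▸ ct_mem _ _
  have h5 : ∀ t ∈ D, RT (X.conj hy hN) t → (∃ a ∈ P, t = ct (X.conj hy hN) a (-1)) ∧ g * y⁻¹ * t = t * (g * y⁻¹) :=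
    fun t ht e => by
      have h6 := h4 t ⟨ht, (RT_conj hy hN).1 e⟩
      refine ⟨(h2 t ⟨ht, (RT_conj hy hN).1 e⟩).imp fun a ha => ⟨ha.1, by rw [ct_conj, ← ha.2, ← h6]; group⟩, ?_⟩
      calc _ = g * (y⁻¹ * t * y) * y⁻¹ := by group
        _ = _ := by rw [h6]; group
  refine ⟨y, hy, hN, fun t ht e => ((h5 t ht e).1).imp fun a ha => ⟨(h1 a ha.1).1, ha.2⟩, g * y⁻¹, mul_mem hg (inv_mem hy),
    fun a ha => (h5 _ ha.2 (rt_ct ha.1)).2, fun d hd => ?_⟩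
  rw [Lp_conj, mem_cj, show y⁻¹ * ((g * y⁻¹)⁻¹ * d * (g * y⁻¹)) * y = g⁻¹ * d * g by group]
  refine sup_le_sup_left (RGD.Sup_mono (S := Pe X P) (S' := Pe X (Ps (X.conj hy hN) D)) fun b hb => ⟨hb.1, fun a ha => ?_⟩) _
    (h3 d hd)
  obtain ⟨c, hc, e⟩ := (h5 _ ha.2 (rt_ct ha.1)).1
  rcases (hL.conj hy hN).ct_inj hp (h1 c hc).1 ha.1 (by rw [e, Ev.ct_sq]; exact one_mem _) with rfl | rfl
  exacts [hb.2 _ hc, by rw [cpr_neg_right _ _ _ (h1 c hc).1, hb.2 c hc, neg_zero]]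

end Cfsg.Agent.KM.E2
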