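import Cfsg.Agent.KM.E2.Defs
import Cfsg.Agent.KM.Tor.Kill

/-!
# KM, `l = 2`, types `E₇`, `E₈` : tools (helper28)

Change of the frame; the involutions of the torus.
-/

set_option autoImplicit false
set_option linter.unusedSectionVars false

namespace Cfsg.Agent.KM.E2

open Cfsg Cfsg.Lie Cfsg.Agent.DL Cfsg.Agent.Nodes.Reps Cfsg.Agent.Nodes.BNOf Matrix Subgroup Cfsg.Agent.KM.Ht
open Cfsg.Agent.KM.Tor Cfsg.Agent.BpExc.Zc Cfsg.Agent.Nodes.Coroot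
open Cfsg.Agent.TO.X5 (ct Lg ct_mem conj_ct)
open Cfsg.Agent.KM.Ev (Pe Lp)
open Cfsg.Agent.TO.X.Cn (Pi1 cl)
open scoped commutatorElement

variable {p : ℕ} [Fact p.Prime] {k : Type} [Field k] [CharP k p] {Y : Type} [Group Y] {N : Type} [Fintype N]
  [DecidableEq N] {ρ : Y →* GL N k} {F : MulAut Y} {G : Subgroup Y} [IsAlgClosed k] {X : Datum p ρ F G}

/-! ### change of the frame -/

section conj

variable {g : Y} (hg : g ∈ G) (hN : g⁻¹ * F g ∈ X.NN)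

theorem pr_conj : pr (X.conj hg hN) = pr X := by unfold pr; rw [conj_cor]

theorem Ns_conj : Ns (X.conj hg hN) = Ns X := by unfold Ns; rw [conj_cor]; rfl

theorem Hf_conj : Hf (X.conj hg hN) = Hf X := by unfold Hf; rw [pr_conj]

theorem Ru_conj : Ru (X.conj hg hN) = Ru X := by unfold Ru; rw [conj_cor]

theorem Sg_conj : Sg (X.conj hg hN) = Sg X := by unfold Sg; rw [conj_cor]

theorem Pu_conj {n : ℕ} : Pu (n := n) (X.conj hg hN) = Pu X := by unfold Pu; rw [Ns_conj]; rfl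

theorem Du_conj {n : ℕ} : Du (n := n) (X.conj hg hN) = Du X := by unfold Du; rw [conj_cor]

theorem ct_conj (a : X.I → ℤ) (s : kˣ) : ct (X.conj hg hN) a s = g * ct X a s * g⁻¹ := by
  unfold ct
  rw [conj_cor, Datum.conj_tau]

theorem Lp_conj (P : Set (X.I → ℤ)) : Lp (X.conj hg hN) P = cj g (Lp X P) := by
  unfold Lp
  rw [Datum.conj_S, Datum.conj_T, cj_sup]
  rfl

theorem RT_conj {t : Y} : RT (X.conj hg hN) t ↔ RT X t :=
  ⟨fun ⟨h, hh, a, ha, e⟩ => ⟨h * g, mul_mem hh hg, a, ha, by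
    rw [ct_conj] at e
    rw [show (h * g)⁻¹ * t * (h * g) = g⁻¹ * (h⁻¹ * t * h) * g by group, e]; group⟩,
  fun ⟨h, hh, a, ha, e⟩ => ⟨h * g⁻¹, mul_mem hh (inv_mem hg), a, ha, by rw [ct_conj, ← e]; group⟩⟩

theorem Pure_conj {D : Subgroup Y} : Pure (X.conj hg hN) D ↔ Pure X D :=
  forall₂_congr fun _ _ => not_congr (RT_conj hg hN)

theorem cz_conj (h : CommZ X.cs X.h X.X) : CommZ (X.conj hg hN).cs (X.conj hg hN).h (X.conj hg hN).X :=
  fun a b ha hb h1 h2 u hu v hv => by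
    have := h a b ha hb h1 h2 _ (mem_cj.1 hu) _ (mem_cj.1 hv)
    refine (X.conj_S hg hN _).ge (mem_cj.2 ?_)
    rwa [show g⁻¹ * ⁅u, v⁆ * g = ⁅g⁻¹ * u * g, g⁻¹ * v * g⁆ by simp only [commutatorElement_def]; group]

theorem LS.conj (h : LS X) : LS (X.conj hg hN) :=
  ⟨by unfold Sl; rw [conj_cor]; exact h.sl, h.q, cz_conj hg hN h.cz, by rw [conj_cor]; exact h.nz,
    by rw [conj_cor]; exact h.inj⟩

theorem D4c.conj {U : AddSubgroup (X.R → ℤ)} (h : D4c X U) : D4c (X.conj hg hN) U := by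
  constructor <;> simp only [Ru_conj, Ns_conj, Hf_conj, pr_conj, conj_cor]
  exacts [h.sz, h.pp, h.rad, h.quo, h.tri, h.ns, h.uq]

theorem L8.conj (h : L8 X) : L8 (X.conj hg hN) := by
  refine ⟨h.toLS.conj hg hN, h.ev, h.zcs, h.ctr, ?_, ?_, fun U h1 h2 h3 h4 => (h.d4 U h1 ?_ h3 ?_).conj hg hN⟩
  · rw [Ns_conj, conj_cor]; exact h.qf1
  · rw [Ns_conj, conj_cor]; exact h.qf2
  · rwa [Ru_conj, conj_cor] at h2
  · rwa [Hf_conj, Sg_conj] at h4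

theorem P8.conj (h : P8 X) : P8 (X.conj hg hN) := by
  refine ⟨?_, fun u hu => ?_, fun u hu => ?_, ?_⟩
  · rw [Pu_conj, conj_cor]; exact h.p1
  · rw [Pu_conj] at hu
    obtain ⟨A, B, k⟩ := h.p2 u hu
    refine ⟨A, B, ?_⟩
    constructor <;> simp only [Pu_conj, pr_conj, conj_cor]
    exacts [k.eq, k.n1, k.n2, k.orth, k.x2, k.y2, k.dec]
  · rw [Pu_conj] at hu
    have k := h.p3 u hu
    constructor <;> simp only [pr_conj, conj_cor]
    exacts [k.ne, k.orth, k.x2, k.ker]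
  · rw [Pu_conj, conj_Wm']; exact h.p4

theorem L7.conj (h : L7 X) : L7 (X.conj hg hN) := by
  refine ⟨h.toLS.conj hg hN, h.z, h.ctr, ?_, ?_, ?_, ?_, ?_, ?_, ?_, fun α β u w h1 h2 h3 h4 h5 h6 h7 h8 h9 h10 => ?_⟩
  · rw [Ns_conj]; exact h.inv
  · rw [pr_conj, conj_cor]; exact h.tri
  · rw [Hf_conj, Sg_conj, Ru_conj, pr_conj]; exact h.sig
  · rw [conj_Wm']; exact h.neg
  · rw [pr_conj]; exact h.sz
  · rw [pr_conj, conj_cor]; exact h.pp
  · rw [pr_conj]; exact h.du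
  · rw [pr_conj] at h3
    rw [conj_Wm'] at h10
    obtain ⟨a, b, c, d, k⟩ := h.a3 α β u w h1 h2 h3 h4 h5 h6 h7 h8 h9 h10
    refine ⟨a, b, c, d, ?_⟩
    constructor <;> simp only [Du_conj, pr_conj, conj_cor]
    exacts [k.p1, k.p2, k.eq, k.orth, k.sw, k.glue, k.du]

theorem Inn.conj {e : ℕ} {w : X.W} (h : Inn X e w) : Inn (X.conj hg hN) e (X.pr (g⁻¹ * F g) * w) :=
  ⟨h.1, by rw [Datum.conj_Mx, conj_Wm', h.2, X.Wm_mul, Matrix.mul_smul]⟩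

theorem Z0_conj (A : Set Y) : Z0 (X.conj hg hN) A =
    cj g (closure {z | ∃ (v : X.R → ℤ) (a : kˣ), (∀ b ∈ (X.conj hg hN).Sz A, X.wt b ⬝ᵥ v = 0) ∧ z = X.τ (coch v a)}) := by
  unfold Z0 cj
  rw [MonoidHom.map_closure]
  congr 1
  ext z
  exact ⟨fun ⟨v, a, h, e⟩ => ⟨_, ⟨v, a, h, rfl⟩, e.symm⟩, fun ⟨_, ⟨v, a, h, e⟩, e'⟩ => ⟨v, a, h, by rw [← e', e]; rfl⟩⟩

/-- a toral subgroup for a conjugate frame -/
theorem toral_conj {D : Subgroup Y} (h : Toral (X.conj hg hN) D) : Toral X D := by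
  obtain ⟨y, hy, hM, h⟩ := h
  have e : (y * g)⁻¹ * F (y * g) = g⁻¹ * (y⁻¹ * F y) * g * (g⁻¹ * F g) := by rw [map_mul]; group
  have h1 : (y * g)⁻¹ * F (y * g) ∈ X.NN := e ▸ mul_mem (mem_cj.1 (X.conj_NN hg hN ▸ hM)) hN
  have h2 : ∀ c, ((X.conj hg hN).conj hy hM).τ c = (X.conj (mul_mem hy hg) h1).τ c := fun c => by
    rw [Datum.conj_tau, Datum.conj_tau, Datum.conj_tau]; group
  have h3 : ∀ t ∈ ((X.conj hg hN).conj hy hM).T, ∀ a,
      ((X.conj hg hN).conj hy hM).χ a t = (X.conj (mul_mem hy hg) h1).χ a t := fun t ht a => by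
    obtain ⟨c, rfl⟩ := (Datum.mem_T _ t).1 ht
    rw [Datum.χ_τ, h2, Datum.χ_τ]
  have h4 : ((X.conj hg hN).conj hy hM).Sz D = (X.conj (mul_mem hy hg) h1).Sz D := Set.ext fun a =>
    and_congr_right fun _ => forall₂_congr fun z hz => by rw [h3 z (Z0_le_T _ _ (h hz))]
  refine ⟨y * g, mul_mem hy hg, h1, h.trans ((closure_le _).2 ?_)⟩
  rintro _ ⟨v, a, k1, rfl⟩
  rw [h2]
  exact mem_Z0 (h4 ▸ k1) a

end conj

theorem toral_self {D : Subgroup Y} (h : D ≤ Z0 X D) : Toral X D := by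
  have h1 : (1 : Y)⁻¹ * F 1 ∈ X.NN := by rw [map_one, inv_one, one_mul]; exact one_mem _
  have h2 : ∀ c, (X.conj (one_mem G) h1).τ c = X.τ c := fun c => by rw [Datum.conj_tau]; group
  have h4 : X.Sz D = (X.conj (one_mem G) h1).Sz D := Set.ext fun a =>
    and_congr_right fun _ => forall₂_congr fun z hz => by
      obtain ⟨c, rfl⟩ := (Datum.mem_T _ z).1 (Z0_le_T _ _ (h hz))
      rw [Datum.χ_τ, ← h2, Datum.χ_τ]
  refine ⟨1, one_mem _, h1, h.trans ((closure_le _).2 ?_)⟩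
  rintro _ ⟨v, a, k1, rfl⟩
  rw [← h2]
  exact mem_Z0 (h4 ▸ k1) a

/-! ### pairings -/

variable {a b c : X.I → ℤ} {u v : X.R → ℤ} {t g : Y}

theorem pr_eq (hb : X.Rt b) (a : X.I → ℤ) : pr X a b = cpr X.cs X.h a b := X.pair_cor hb a

theorem mem_Pe {P : Set (X.I → ℤ)} (hP : ∀ a ∈ P, X.Rt a) : b ∈ Pe X P ↔ X.Rt b ∧ ∀ a ∈ P, pr X b a = 0 :=
  and_congr_right fun _ => forall₂_congr fun a ha => by rw [pr_eq (hP a ha)]

theorem LS.symm (h : LS X) (ha : X.Rt a) (hb : X.Rt b) : pr X a b = pr X b a := h.sl a b ha hb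

theorem pr_self (ha : X.Rt a) : pr X a a = 2 := TW.pr_self ha

theorem LS.bd (h : LS X) (ha : X.Rt a) (hb : X.Rt b) (h1 : a ≠ b) (h2 : a ≠ -b) : -1 ≤ pr X a b ∧ pr X a b ≤ 1 :=
  TW.bd h.sl ha hb h1 h2

theorem LS.lg (h : LS X) (ha : X.Rt a) : Lg X a := ⟨ha, fun c hc h1 => by
  by_cases h2 : c = -a
  · rw [h2, cpr_neg _ _ _ ha, cpr_self _ _ ha]; omega
  · exact pr_eq ha c ▸ (h.bd hc ha h1 h2).2⟩

theorem LS.pi1 (h : LS X) : Pi1 X 1 := fun y _ _ _ _ => (h.q y).imp fun _ e => by rw [Nat.cast_one, one_smul, e]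

theorem Ev.add (h : Ev X u) (h' : Ev X v) : Ev X (u + v) := fun c hc => dotProduct_add _ u v ▸ (h c hc).add (h' c hc)

theorem Ev.neg (h : Ev X u) : Ev X (-u) := fun c hc => dotProduct_neg _ u ▸ (h c hc).neg_right

theorem Ev.sub (h : Ev X u) (h' : Ev X v) : Ev X (u - v) := sub_eq_add_neg u v ▸ h.add h'.neg

theorem ev_of_dvd (h : ∀ r, 2 ∣ u r) : Ev X u := fun _ _ => Finset.dvd_sum fun r _ => (h r).mul_left _

theorem ev_two (u : X.R → ℤ) : Ev X ((2 : ℤ) • u) := ev_of_dvd fun _ => dvd_mul_right _ _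

/-! ### the involutions of the torus -/

variable (X) in
/-- the involution with the exponent `u` -/
noncomputable def tv (u : X.R → ℤ) : Y := X.τ (coch u (-1))

theorem mem_Uv {V : Subgroup Y} : u ∈ Uv X V ↔ tv X u ∈ V := Iff.rfl

theorem tv_cor (a : X.I → ℤ) : tv X (X.cor a) = ct X a (-1) := rfl

theorem tv_mem (u : X.R → ℤ) : tv X u ∈ X.T := X.τ_mem _

theorem tv_add (u v : X.R → ℤ) : tv X (u + v) = tv X u * tv X v := by
  rw [tv, show coch (u + v) (-1 : kˣ) = coch u (-1) * coch v (-1) from funext fun _ => zpow_add _ _ _, map_mul]; rfl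

theorem tv_of_dvd (h : ∀ r, 2 ∣ u r) : tv X u = 1 := by
  rw [tv, show coch u (-1 : kˣ) = 1 from funext fun r => (even_iff_two_dvd.2 (h r)).neg_one_zpow, map_one]

theorem tv_sq (u : X.R → ℤ) : tv X u * tv X u = 1 := by
  rw [← tv_add, tv_of_dvd (u := u + u) fun r => ⟨u r, (two_mul _).symm⟩]

theorem tv_neg (u : X.R → ℤ) : tv X (-u) = tv X u := by
  rw [← mul_one (tv X (-u)), ← tv_sq u, ← mul_assoc, ← tv_add, neg_add_cancel, tv_of_dvd (u := 0) fun _ => dvd_zero _, one_mul]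

theorem tv_sub (u v : X.R → ℤ) : tv X (u - v) = tv X u * tv X v := by rw [sub_eq_add_neg, tv_add, tv_neg]

theorem tv_zsmul (m : ℤ) (u : X.R → ℤ) : tv X (m • u) = tv X u ^ m := by
  rw [tv, tv, ← map_zpow]
  exact congrArg _ (funext fun r => by rw [Pi.pow_apply, coch_apply, coch_apply, ← _root_.zpow_mul, mul_comm]; rfl)

theorem tv_eq_one (hp : p ≠ 2) : tv X u = 1 ↔ ∀ r, 2 ∣ u r := ⟨fun h r => by
  have h1 := congrFun (X.τ_inj (h.trans (map_one _).symm)) r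
  rw [coch_apply, Pi.one_apply, ← orderOf_dvd_iff_zpow_eq_one, Ev.ord_neg hp] at h1
  exact h1, tv_of_dvd⟩

theorem χ_tv (hp : p ≠ 2) (a : X.I → ℤ) (u : X.R → ℤ) : X.χ a (tv X u) = 1 ↔ 2 ∣ X.wt a ⬝ᵥ u := by
  rw [tv, TO.X.Cn.χ_exp, Ev.ord_neg hp]; rfl

theorem tv_mem_ZG (hp : p ≠ 2) : tv X u ∈ ZG X ↔ Ev X u :=
  (and_iff_right (tv_mem u)).trans (forall₂_congr fun a _ => χ_tv hp a u)

theorem exists_inv (ht : t ∈ X.T) (h : t * t = 1) : ∃ u, t = tv X u := by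
  obtain ⟨c, rfl⟩ := (X.mem_T t).1 ht
  have h1 : ∀ r, c r = 1 ∨ c r = -1 := fun r => by
    have := congrFun (X.τ_inj ((map_mul _ _ _).trans (h.trans (map_one _).symm))) r
    exact (mul_self_eq_one_iff.1 (congrArg Units.val this)).imp (fun e => Units.ext e) fun e => Units.ext e
  classical
  refine ⟨fun r => if c r = 1 then 0 else 1, congrArg _ (funext fun r => ?_)⟩
  rw [coch_apply]
  split_ifs with e
  · rw [e, zpow_zero]
  · rw [zpow_one, (h1 r).resolve_left e]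

theorem conj_tv {w : X.W} {m : Y} (hm : X.Rp w m) (u : X.R → ℤ) : m * tv X u * m⁻¹ = tv X (X.Wm w *ᵥ u) := by
  rw [tv, X.conj_τ hm, tv]
  exact congrArg _ (funext fun r => chr_coch _ _ _)

theorem RT.conj (h : RT X t) (hg : g ∈ G) : RT X (g⁻¹ * t * g) :=
  let ⟨y, hy, a, ha, e⟩ := h
  ⟨g⁻¹ * y, mul_mem (inv_mem hg) hy, a, ha, by rw [← e]; group⟩

theorem RT.of_conj (hg : g ∈ G) (h : RT X (g⁻¹ * t * g)) : RT X t := by simpa [mul_assoc] using h.conj (inv_mem hg)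

theorem rt_ct (ha : X.Rt a) : RT X (ct X a (-1)) := ⟨1, one_mem _, a, ha, by group⟩

theorem RT.sq (h : RT X t) : t * t = 1 := by
  obtain ⟨y, -, a, -, e⟩ := h
  have := Ev.ct_sq (X := X) a
  rwa [← e, show y⁻¹ * t * y * (y⁻¹ * t * y) = y⁻¹ * (t * t) * y⁻¹⁻¹ by group, conj_eq_one_iff] at this

/-- root type inside the torus -/
theorem RT.eq (h : RT X t) (ht : t ∈ X.T) : ∃ a, X.Rt a ∧ t = ct X a (-1) := by
  obtain ⟨y, hy, a, ha, e⟩ := h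
  obtain ⟨w, m, hm, h1⟩ := TO.E6.exists_rp_conj X (ι := Unit) (s := fun _ => ct X a (-1)) (t := fun _ => t)
    (fun _ => ct_mem _ _) (fun _ => ht) hy fun _ => by rw [← e]; group
  exact ⟨_, ha.act w, (h1 ()).symm.trans (conj_ct hm ha _)⟩

theorem rt_iff (hp : p ≠ 2) : RT X (tv X u) ↔ ∃ a, X.Rt a ∧ ∀ r, 2 ∣ (u - X.cor a) r :=
  ⟨fun h => (h.eq (tv_mem u)).imp fun a ⟨ha, e⟩ => ⟨ha, (tv_eq_one hp).1 (by rw [tv_sub, e, tv_cor, Ev.ct_sq])⟩,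
    fun ⟨a, ha, e⟩ => by
      rw [← sub_add_cancel u (X.cor a), tv_add, tv_of_dvd e, one_mul]
      exact rt_ct ha⟩

theorem L8.rt_iff (h : L8 X) (hp : p ≠ 2) : RT X (tv X u) ↔ Ns X u :=
  (E2.rt_iff hp).trans (exists_congr fun _ => and_congr_right fun _ => ⟨ev_of_dvd, h.ev _⟩)

theorem LS.ct_inj (h : LS X) (hp : p ≠ 2) (ha : X.Rt a) (hb : X.Rt b) (e : ct X a (-1) * ct X b (-1) ∈ ZG X) :
    b = a ∨ b = -a := h.inj a b ha hb ((tv_mem_ZG hp).1 (by rwa [tv_sub]))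

theorem LS.ct_not (h : LS X) (hp : p ≠ 2) (ha : X.Rt a) : ct X a (-1) ∉ ZG X := fun e =>
  h.nz a ha ((tv_mem_ZG hp).1 e)

theorem ct_neg' (ha : X.Rt a) : ct X (-a) (-1) = ct X a (-1) := by rw [← tv_cor, X.cor_neg ha, tv_neg, tv_cor]

/-- the centre -/
theorem ZG_comm {z : Y} (hz : z ∈ ZG X) (hg : g ∈ G) : g * z = z * g := by
  refine One.Zc_comm (Z := ∅) (Set.empty_subset _) ⟨hz.1, fun a ha => hz.2 a ha.1⟩ (cc_empty g hg ?_)
  exact fun _ h => h.elim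

theorem mem_ZG {z : Y} (hz : z ∈ G) (h : ∀ g ∈ G, g * z = z * g) : z ∈ ZG X := by
  have h1 : z ∈ X.T := X.centralizer_T.le ⟨hz, fun t ht => h t (X.T_le_G ht)⟩
  exact ⟨h1, fun a ha => Ev.χ_of_comm ha h1 (h _ (X.X_le_G ha (X.x_mem ha 1)))⟩

theorem ZG_conj (hg : g ∈ G) (hN : g⁻¹ * F g ∈ X.NN) : ZG (X.conj hg hN) = ZG X :=
  le_antisymm (fun _ hz => mem_ZG ((X.conj hg hN).T_le_G hz.1) fun _ h => ZG_comm hz h)
    fun _ hz => mem_ZG (X.T_le_G hz.1) fun _ h => ZG_comm hz h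

end Cfsg.Agent.KM.E2
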