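import Cfsg.Agent.KM.Uu.U
import Cfsg.Agent.KM.E2.Tool
import Cfsg.Agent.KM.Si.E
import Cfsg.Agent.KM.Si.Q
import Cfsg.Agent.KZ.Mts.Main
import Cfsg.Agent.LV.One.Orb

/-!
# KM, `l = 2` : the box `BoxBS` (helper41)

A character of central `2`-defect of a group of type `2 A₂` meets a Coxeter torus, where its labels form one orbit.
-/

set_option autoImplicit false
set_option linter.unusedSectionVars false
set_option linter.unnecessarySeqFocus false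

namespace Cfsg.Agent.KM.E2

open Cfsg Cfsg.Agent.DL Cfsg.Agent.DL.PP Cfsg.Agent.DL.Uni Cfsg.Agent.DL.Mk Cfsg.Agent.KZ.Lie Cfsg.Agent.LV.One Matrix Subgroup
open Cfsg.Agent.KM.Tor Cfsg.Agent.Characters.Core
open Cfsg.Agent.TO.X5 (ct)

namespace BS

/-! ### the Weyl group of type `A₂` -/

abbrev M2 : Type := Matrix (Fin 2) (Fin 2) ℤ

/-- the Cartan matrix -/
def K : M2 := !![2, -1; -1, 2]

/-- its adjugate -/
def K' : M2 := !![2, 1; 1, 2]

/-- the rotations -/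
def S2 : List M2 := [!![-1, -1; 0, -1], !![-1, 0; -1, -1]]

/-- the Weyl group -/
def S6 : List M2 := [0, !![-1, 0; 0, 0], !![0, 0; 0, -1], !![-1, -1; -1, -1]] ++ S2

/-- the roots -/
def U6 : List (Fin 2 → ℤ) := [![1, 0], ![0, 1], ![1, 1], ![-1, 0], ![0, -1], ![-1, -1]]

/-- the central cocharacter -/
def x0 : Fin 2 → ℤ := ![1, -1]

/-- the product -/
def ml (Q Q' : M2) : M2 := Q + Q' + Q * K * Q'

theorem ml_mem : ∀ Q ∈ S6, ∀ Q' ∈ S6, ml Q Q' ∈ S6 := by decide +kernel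

theorem rf_mem : ∀ u ∈ U6, -vecMulVec u u ∈ S6 := by decide +kernel

theorem zero_mem6 : 0 ∈ S6 := by decide +kernel

theorem rot : ∀ Q ∈ S6, Q ∈ S2 ∨ ∃ u ∈ U6, (∀ j, 2 ∣ ((Q * K) *ᵥ u) j) ∧ ¬ ∀ j, 2 ∣ (K *ᵥ u) j := by decide +kernel

theorem cube : ∀ Q ∈ S2, ml (ml Q Q) Q = 0 := by decide +kernel

theorem eig : ∀ Q ∈ S2, ∃ u ∈ ([![3, 1], ![1, 3]] : List (Fin 2 → ℤ)),
    (∀ j, (7 : ℤ) ∣ ((1 + Q * K) *ᵥ u - (2 : ℤ) • u : Fin 2 → ℤ) j) ∧ ∀ v ∈ U6, ¬ (7 : ℤ) ∣ v ⬝ᵥ K *ᵥ u := by decide +kernel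

theorem adj : K' * K = (3 : ℤ) • 1 := by decide +kernel

theorem off : ∀ j, K j (j + 1) = -1 := by decide +kernel

theorem x0_dvd : ∀ v ∈ U6, (3 : ℤ) ∣ v ⬝ᵥ K *ᵥ x0 := by decide +kernel

theorem cen {Q : M2} (hQ : Q ∈ S2) (n : ℤ) :
    ∃ y : Fin 2 → ℤ, (3 * n + 1) • (1 + Q * K) *ᵥ x0 - x0 = (3 : ℤ) • y ∧ IsCoprime (y 0 + y 1) 3 := by
  simp only [S2, List.mem_cons, List.not_mem_nil, or_false] at hQ
  rcases hQ with rfl | rfl
  · refine ⟨![n, 2 * n + 1], ?_, 1, -n, by simp; ring⟩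
    rw [show (1 + !![-1, -1; 0, -1] * K) *ᵥ x0 = ![1, 2] by decide +kernel]
    ext j
    fin_cases j <;> simp [x0] <;> ring
  · refine ⟨![-(2 * n + 1), -n], ?_, -1, -n, by simp; ring⟩
    rw [show (1 + !![-1, 0; -1, -1] * K) *ᵥ x0 = ![-2, -1] by decide +kernel]
    ext j
    fin_cases j <;> simp [x0] <;> ring

theorem triv {s t : ℂˣ} {Q : M2} (hQ : Q ∈ S6) (h : ∀ u, s ^ (Q *ᵥ K *ᵥ u) 0 * t ^ (Q *ᵥ K *ᵥ u) 1 = 1)
    {y : Fin 2 → ℤ} (hy : IsCoprime (y 0 + y 1) 3) (h2 : s ^ y 0 * t ^ y 1 = 1) (u : Fin 2 → ℤ) :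
    s ^ (Q *ᵥ u) 0 * t ^ (Q *ᵥ u) 1 = 1 := by
  have h3 : t = s → s ^ (3 : ℤ) = 1 → s = 1 := fun e h3 => by
    obtain ⟨a, b, h4⟩ := hy
    rw [e, ← _root_.zpow_add] at h2
    rw [← zpow_one s, ← h4, _root_.zpow_add, mul_comm a, mul_comm b, _root_.zpow_mul, _root_.zpow_mul, h2, h3]
    simp
  have h0 := h ![1, 0]
  have h1 := h ![0, 1]
  simp only [S6, S2, List.mem_append, List.mem_cons, List.not_mem_nil, or_false] at hQ
  rcases hQ with (rfl | rfl | rfl | rfl) | rfl | rfl <;>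
    simp [K, mulVec, dotProduct, Fin.sum_univ_two] at h0 h1 ⊢
  · rw [h1, _root_.one_zpow]
  · rw [h0, _root_.one_zpow]
  · rw [← mul_zpow, show s * t = 1 by rw [← inv_eq_one, _root_.mul_inv, h0], _root_.one_zpow]
  · obtain rfl : t = s := (inv_mul_eq_one.1 h0).symm
    rw [h3 rfl (by rw [← inv_eq_one, ← h1]; group)]
    simp
  · obtain rfl : t = s := (mul_inv_eq_one.1 h1).symm
    rw [h3 rfl (by rw [← inv_eq_one, ← h0]; group)]
    simp

section E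

variable {R : Type} [Fintype R] [DecidableEq R] {C : Fin 2 → Matrix R (Fin 2) ℤ} {L : Fin 2 → Matrix (Fin 2) R ℤ}

variable (C L) in
/-- the matrix of an element of the Weyl group -/
def E (Q : Fin 2 → M2) : Matrix R R ℤ := 1 + ∑ i, C i * Q i * L i

theorem E_zero : E C L 0 = 1 := by simp [E]

variable (h : ∀ i j, L i * C j = if i = j then K else 0)
include h

theorem E_C (Q : Fin 2 → M2) (j : Fin 2) : E C L Q * C j = C j * (1 + Q j * K) := by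
  rw [E, Matrix.add_mul, Matrix.sum_mul, Finset.sum_eq_single j (fun i _ e => by rw [Matrix.mul_assoc, h, if_neg e, Matrix.mul_zero])
    (by simp), Matrix.mul_assoc, h, if_pos rfl, Matrix.mul_add, Matrix.one_mul, Matrix.mul_one, Matrix.mul_assoc]

theorem E_mul (Q Q' : Fin 2 → M2) : E C L Q * E C L Q' = E C L fun i => ml (Q i) (Q' i) := by
  rw [show E C L Q' = 1 + ∑ i, C i * Q' i * L i from rfl, Matrix.mul_add, Matrix.mul_one, Matrix.mul_sum]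
  simp only [← Matrix.mul_assoc, E_C h]
  simp only [E, ml, Matrix.mul_add, Matrix.add_mul, Matrix.mul_one, Finset.sum_add_distrib, Matrix.mul_assoc, add_assoc]

theorem pair (i j : Fin 2) (u v : Fin 2 → ℤ) : u ᵥ* L i ⬝ᵥ C j *ᵥ v = if i = j then u ⬝ᵥ K *ᵥ v else 0 := by
  rw [← dotProduct_mulVec, mulVec_mulVec, h]
  split_ifs <;> simp

omit h in
theorem chr_two {k : Type} [Field k] (u : Fin 2 → ℤ) (A : Matrix (Fin 2) R ℤ) (c : R → kˣ) :
    chr (u ᵥ* A) c = chr (A 0) c ^ u 0 * chr (A 1) c ^ u 1 := by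
  rw [← chr_zsmul, ← chr_zsmul, ← chr_add]
  congr 2
  ext r
  simp [vecMul, dotProduct]

end E

variable {p : ℕ} [Fact p.Prime] {k : Type} [Field k] [CharP k p] {Y : Type} [Group Y] {N : Type} [Fintype N]
  [DecidableEq N] {ρ : Y →* GL N k} {F : MulAut Y} {G : Subgroup Y} [IsAlgClosed k] {X : Datum p ρ F G}

variable (X) in
/-- the configuration `2 A₂` -/
structure Cf (C : Fin 2 → Matrix X.R (Fin 2) ℤ) (L : Fin 2 → Matrix (Fin 2) X.R ℤ) : Prop where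
  lc : ∀ i j, L i * C j = if i = j then K else 0
  rt : ∀ c, X.Rt c → ∃ i, ∃ u ∈ U6, X.wt c = u ᵥ* L i ∧ X.cor c = C i *ᵥ u
  ex : ∀ i j, ∃ c, X.Rt c ∧ X.wt c = L i j ∧ X.cor c = (C i)ᵀ j
  du : ∀ i, ∃ μ, μ ⬝ᵥ C i *ᵥ x0 = 1

variable {C : Fin 2 → Matrix X.R (Fin 2) ℤ} {L : Fin 2 → Matrix (Fin 2) X.R ℤ}

namespace Cf

variable (H : Cf X C L)
include H

theorem conj {g : Y} (hg : g ∈ G) (hN : g⁻¹ * F g ∈ X.NN) : Cf (X.conj hg hN) C L :=
  ⟨H.lc, by rw [conj_cor]; exact H.rt, by rw [conj_cor]; exact H.ex, H.du⟩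

theorem exQ (v : X.W) : ∃ Q, (∀ i, Q i ∈ S6) ∧ X.Wm v = E C L Q := by
  induction v using X.cs.simple_induction with
  | one => exact ⟨0, fun _ => zero_mem6, X.Wm_one.trans E_zero.symm⟩
  | mul v w hv hw =>
    obtain ⟨Q, h1, h2⟩ := hv
    obtain ⟨Q', h3, h4⟩ := hw
    exact ⟨_, fun i => ml_mem _ (h1 i) _ (h3 i), by rw [X.Wm_mul, h2, h4, E_mul H.lc]⟩
  | simple j =>
    obtain ⟨i, u, hu, h1, h2⟩ := H.rt _ (Tits.Roots.isRoot_sr X.cs X.h j)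
    refine ⟨Pi.single i (-vecMulVec u u), fun i' => ?_, ?_⟩
    · by_cases e : i' = i
      · rw [e, Pi.single_eq_same]
        exact rf_mem u hu
      · rw [Pi.single_eq_of_ne e]
        exact zero_mem6
    · rw [X.Wm_simple, ← X.cor_sr, h1, h2, E, Finset.sum_eq_single i (fun i' _ e => by simp [Pi.single_eq_of_ne e]) (by simp),
        Pi.single_eq_same, Matrix.mul_neg, Matrix.neg_mul, mul_vecMulVec, vecMulVec_mul, sub_eq_add_neg]

/-- central elements of the derived subgroup -/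
theorem cube_eq {z : Y} (hz : z ∈ ZG X) (h : z ∈ ⁅G, G⁆) : z ^ 3 = 1 := by
  let P : Matrix X.R X.R ℤ := (3 : ℤ) • 1 - ∑ i, C i * K' * L i
  have h1 : ∀ j, P * C j = 0 := fun j => by
    rw [Matrix.sub_mul, Matrix.sum_mul, Finset.sum_eq_single j
      (fun i _ e => by rw [Matrix.mul_assoc, H.lc, if_neg e, Matrix.mul_zero]) (by simp), Matrix.mul_assoc, H.lc, if_pos rfl,
      Matrix.mul_assoc, adj, Matrix.smul_mul, Matrix.mul_smul, Matrix.one_mul, Matrix.mul_one, sub_self]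
  have h2 : Si.ZL X (Set.range X.cw) ≤ (mon P : (X.R → kˣ) →* _).ker.map X.τ := (closure_le _).2 (by
    rintro _ ⟨_, ⟨j, rfl⟩, a, rfl⟩
    obtain ⟨i, u, -, -, h2⟩ := H.rt _ (Tits.Roots.isRoot_sr X.cs X.h j)
    refine ⟨_, ?_, rfl⟩
    show mon P _ = 1
    rw [mon_coch, ← X.cor_sr, h2, mulVec_mulVec, h1, zero_mulVec]
    exact funext fun _ => zpow_zero _)
  obtain ⟨x, hx, rfl⟩ := h2 (Si.boxDer X z hz.1 h)
  have h3 : ∀ i j, chr (L i j) x = 1 := fun i j => by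
    obtain ⟨c, hc, h3, -⟩ := H.ex i j
    have := hz.2 c hc
    rw [X.χ_τ, h3] at this
    exact Units.ext this
  have h4 : mon P x = 1 := hx
  rw [mon_sub, mon_zsmul, mon_one, show mon (∑ i, C i * K' * L i) x = 1 from funext fun r => by
    rw [mon_apply, show (∑ i, C i * K' * L i) r = ∑ i, (C i * K' * L i) r from Finset.sum_apply _ _ _, chr_sum]
    refine Finset.prod_eq_one fun i _ => ?_
    rw [show (C i * K' * L i) r = (C i * K') r ᵥ* L i from rfl, chr_two, h3, h3]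
    simp, inv_one, mul_one] at h4
  rw [← map_pow, ← zpow_natCast, show ((3 : ℕ) : ℤ) = 3 from rfl, h4, map_one]

/-- a torus without non central involutions -/
theorem kill (hp : p ≠ 2) {m : ℤ} (hm : 2 ∣ m - 1) {Q : Fin 2 → M2} (hQ : ∀ i, Q i ∈ S6) (hM : X.Mx = m • E C L Q)
    (h : ∀ t ∈ X.T, F t = t → t * t = 1 → t ∈ ZG X) (i : Fin 2) : Q i ∈ S2 := by
  refine (rot _ (hQ i)).resolve_right ?_
  rintro ⟨u, -, h1, h2⟩
  have h3 : F (tv X (C i *ᵥ u)) = tv X (C i *ᵥ u) := by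
    obtain ⟨n, hn⟩ := hm
    choose u' h1 using h1
    rw [tv, X.F_τ, mon_coch, hM, smul_mulVec, mulVec_mulVec, E_C H.lc, ← mulVec_mulVec, add_mulVec, one_mulVec,
      show (Q i * K) *ᵥ u = (2 : ℤ) • u' from funext h1, show m = 2 * n + 1 by omega,
      show (2 * n + 1) • C i *ᵥ (u + (2 : ℤ) • u') = C i *ᵥ u + (2 : ℤ) • C i *ᵥ (n • u + (2 * n + 1) • u') by
        simp only [mulVec_add, mulVec_smul]; module]
    exact (tv_add _ _).trans (by rw [tv_of_dvd (u := (2 : ℤ) • _) fun _ => dvd_mul_right _ _, mul_one]; rfl)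
  refine h2 fun j => ?_
  obtain ⟨c, hc, h4, -⟩ := H.ex i j
  have := (tv_mem_ZG hp).1 (h _ (tv_mem _) h3 (tv_sq _)) c hc
  rwa [h4, show L i j ⬝ᵥ C i *ᵥ u = (L i *ᵥ C i *ᵥ u) j from rfl, mulVec_mulVec, H.lc, if_pos rfl] at this

theorem reg {m : ℤ} (hm : m ≠ 0) {Q : Fin 2 → M2} (hQ : ∀ i, Q i ∈ S2) {w : X.W} (hM : X.Wm w * X.Mx = m • E C L Q) :
    RegE X w := by
  choose u _ h1 h2 using fun i => eig _ (hQ i)
  refine regE_of_mod (m := 3) (e := 1) (r := 7) (μ := 2) (z := ∑ i, C i *ᵥ u i) hM hm ?_ (by norm_num) (by norm_num)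
    (by norm_num) (fun r => ?_) fun c hc => ?_
  · rw [pow_succ, pow_two, E_mul H.lc, E_mul H.lc, show (fun i => ml (ml (Q i) (Q i)) (Q i)) = 0 from
      funext fun i => cube _ (hQ i), E_zero, one_smul]
  · rw [mulVec_sum, Finset.smul_sum, ← Finset.sum_sub_distrib, Finset.sum_apply]
    refine Finset.dvd_sum fun i _ => ?_
    rw [mulVec_mulVec, E_C H.lc, ← mulVec_mulVec, ← mulVec_smul, ← mulVec_sub]
    exact Finset.dvd_sum (s := Finset.univ) fun j _ => (h1 i j).mul_left (C i r j)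
  · obtain ⟨i, v, hv, h3, -⟩ := H.rt c hc
    rw [h3, dotProduct_sum]
    simp only [pair H.lc, Finset.sum_ite_eq, Finset.mem_univ, if_true]
    exact h2 i v hv

theorem z_cen (i : Fin 2) {ω : kˣ} (h : ω ^ 3 = 1) : ∀ y ∈ G, y * X.τ (coch (C i *ᵥ x0) ω) = X.τ (coch (C i *ᵥ x0) ω) * y :=
  τ_central fun c hc => by
    obtain ⟨j, v, hv, h3, -⟩ := H.rt c hc
    rw [chr_coch, show ∑ r, X.wt c r * (C i *ᵥ x0) r = X.wt c ⬝ᵥ C i *ᵥ x0 from rfl, h3, pair H.lc]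
    split_ifs
    · obtain ⟨n, hn⟩ := x0_dvd v hv
      rw [hn, _root_.zpow_mul, show ω ^ (3 : ℤ) = 1 by exact_mod_cast h, _root_.one_zpow]
    · exact zpow_zero _

/-- an invariant label is trivial on the coroots -/
theorem inv_lab {c : Lbl X} (h : ∀ u, Rel X u c c) (i : Fin 2) (u : Fin 2 → ℤ) : chr (C i *ᵥ u) c = 1 := by
  have h1 : ∀ j, chr ((C i)ᵀ j) c = 1 := fun j => by
    obtain ⟨a, ha, h1, h2⟩ := H.ex i j
    have h3 := h (X.rf a) ((C i)ᵀ (j + 1))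
    have h4 : L i j ⬝ᵥ (C i)ᵀ (j + 1) = -1 := by
      rw [show L i j ⬝ᵥ (C i)ᵀ (j + 1) = (L i * C i) j (j + 1) from rfl, H.lc, if_pos rfl]
      exact off j
    rw [X.Wm_rf ha, h1, h2, sub_mulVec, one_mulVec, vecMulVec_mulVec, h4, chr_sub] at h3
    simpa [chr_neg] using h3
  rw [← vecMul_transpose, chr_two, h1, h1]
  simp

end Cf

theorem nrm_eq {y : Y} {w : X.W} (hw : X.Rp w (y⁻¹ * F y)) (ζ : kˣ) (x : X.R → ℤ) (d : ℕ) :
    nrm F d (y * X.τ (coch x ζ) * y⁻¹) =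
      y * X.τ (coch ((∑ i ∈ Finset.range d, (X.Wm w * X.Mx) ^ i) *ᵥ x) ζ) * y⁻¹ := by
  have h1 : ∀ i : ℕ, (F ^ i) (y * X.τ (coch x ζ) * y⁻¹) = y * X.τ (coch ((X.Wm w * X.Mx) ^ i *ᵥ x) ζ) * y⁻¹ := fun i => by
    induction i with
    | zero => rw [pow_zero, pow_zero, one_mulVec, MulAut.one_apply]
    | succ i ih => rw [pow_succ', MulAut.mul_apply, ih, F_cj_τ hw, mon_coch, mulVec_mulVec, ← pow_succ']
  induction d with
  | zero =>
    rw [nrm_zero, Finset.sum_range_zero, zero_mulVec, show coch (0 : X.R → ℤ) ζ = 1 from funext fun _ => zpow_zero _,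
      map_one, mul_one, mul_inv_cancel]
  | succ d ih => rw [nrm_succ, ih, h1, Finset.sum_range_succ, add_mulVec, coch_add, map_mul, conj_mul]

variable (f : Fr X) [Fintype ↥(GF F G)] {χ : GF F G → ℂ} {w : X.W} {c : Lbl X}

/-- the label at a central element of the kernel -/
theorem th_eq_one (hχ : IsIrrCharacter (GF F G) χ) (hne : classInner χ (RW f w c) ≠ 0) {z : GF F G}
    (hc : ∀ y ∈ G, y * z = z * y) (h : χ z = χ 1) : th f w c z = 1 := by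
  have h1 : ∀ g, χ (z * g) = χ g := fun g => by
    have := irr_cen ⟨χ, hχ⟩ (z := z) (fun g => Subtype.ext (hc g g.2.1)) g
    rwa [show χ z / χ 1 = 1 from h ▸ div_self (h ▸ Blocks.Basic.irr_one_ne_zero hχ), one_mul] at this
  have h2 : classInner χ (RW f w c) = starRingEnd ℂ (th f w c z) * classInner χ (RW f w c) := by
    rw [classInner_def, mul_left_comm, Finset.mul_sum _ _ (starRingEnd ℂ _), ← Equiv.sum_comp (Equiv.mulLeft z)]
    refine congrArg _ (Finset.sum_congr rfl fun g _ => ?_)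
    rw [Equiv.coe_mulLeft, h1, RW_apply, Subgroup.coe_mul, R_central (T := KZ.Lie.Tw X w) ⟨central_mem z.2.1 hc (yw_mem X w), z.2⟩ hc
      (th_spec f (fx_of_ne f hne)).1 g.2.1, map_mul, mul_left_comm, RW_apply]
  exact (starRingEnd ℂ).injective (((mul_eq_right₀ hne).1 h2.symm).trans (map_one _).symm)

theorem lab_cen (hχ : IsIrrCharacter (GF F G) χ) (hne : classInner χ (RW f w c) ≠ 0) {x y μ : X.R → ℤ} (hμ : μ ⬝ᵥ x = 1)
    (h : (X.Wm w * X.Mx - 1) *ᵥ x = (3 : ℤ) • y)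
    (hc : ∀ ω : kˣ, ω ^ 3 = 1 → ∀ g ∈ G, g * X.τ (coch x ω) = X.τ (coch x ω) * g)
    (hz : ∀ (ω : kˣ) (z : GF F G), ω ^ 3 = 1 → (z : Y) = X.τ (coch x ω) → χ z = χ 1) : chr y c = 1 := by
  have h1 : (3 : ℤ) • (∑ i ∈ Finset.range f.d, (X.Wm w * X.Mx) ^ i) *ᵥ y = ((p : ℤ) ^ f.e - 1) • x := by
    rw [← mulVec_smul, ← h, mulVec_mulVec, geom_sum_mul, f.L.pow, sub_mulVec, smul_mulVec, one_mulVec, sub_smul, one_smul]
  obtain ⟨n, hn⟩ : (3 : ℤ) ∣ (p : ℤ) ^ f.e - 1 := ⟨_, by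
    have := congrArg (μ ⬝ᵥ ·) h1
    simp only [dotProduct_smul, hμ, smul_eq_mul, mul_one] at this
    exact this.symm⟩
  rw [hn, mul_smul] at h1
  have h2 : (f.ζ ^ n) ^ 3 = 1 := by
    rw [← zpow_natCast, ← _root_.zpow_mul, mul_comm, show ((3 : ℕ) : ℤ) * n = ((p ^ f.e - 1 : ℕ) : ℤ) by
      rw [Nat.cast_sub (Nat.one_le_pow _ _ (Fact.out : p.Prime).pos)]
      exact_mod_cast hn.symm, zpow_natCast, f.hζ.pow_eq_one]
  have h3 : nrm F f.d (yw X w * X.τ (coch y f.ζ) * (yw X w)⁻¹) = X.τ (coch x (f.ζ ^ n)) := by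
    rw [nrm_eq (yw_rp X w), smul_right_injective _ (by norm_num) h1, coch_zsmul, hc _ h2 _ (yw_mem X w), mul_inv_cancel_right]
  have h4 := (PP.nrm_mem f.L f.hζ (yw_mem X w) (yw_rp X w) y).2
  refine Units.ext (((th_spec f (fx_of_ne f hne)).2 y).symm.trans ?_)
  exact th_eq_one f hχ hne (z := ⟨_, h4⟩) (fun g hg => by rw [Subtype.coe_mk, h3]; exact hc _ h2 g hg) (hz _ _ h2 h3)

theorem main (hq : X.QS) (hp : p ≠ 2) (hp3 : p ≠ 3) (H : Cf X C L) {m : ℤ} {w₀ : X.W} (hM : X.Mx = m • X.Wm w₀)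
    (h0 : m ≠ 0) (h2 : 2 ∣ m - 1) (h3 : 3 ∣ m - 1) (hχ : IsIrrCharacter (GF F G) χ)
    (hv : ∀ g x : GF F G, IsPPart 2 g x → (x : Y) ∉ ZG X → χ g = 0) {ν : GF F G →* ℂˣ} (hν : ν ^ 3 = 1)
    (hνχ : ∀ g, ν g * χ g = χ g)
    (hz : ∀ i (ω : kˣ) (z : GF F G), ω ^ 3 = 1 → (z : Y) = X.τ (coch (C i *ᵥ x0) ω) → χ z = χ 1) : ν = 1 := by
  obtain ⟨f⟩ := nonempty_fr X
  obtain ⟨w, hw⟩ := Uu.exists_w hq f (Blocks.Basic.irr_one_ne_zero hχ)
  let A : Subgroup (GF F G) :=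
    { carrier := {z | (z : Y) ∈ ZG X ∧ ∃ i : ℕ, z ^ 2 ^ i = 1}
      one_mem' := ⟨one_mem _, 0, one_pow _⟩
      inv_mem' := fun ⟨h, i, h'⟩ => ⟨inv_mem h, i, by rw [inv_pow, h', inv_one]⟩
      mul_mem' := fun {a b} ⟨ha, i, h⟩ ⟨hb, j, h'⟩ => ⟨mul_mem ha hb, i + j, by
        rw [Commute.mul_pow (Subtype.ext (ZG_comm hb a.2.1)), pow_add, pow_mul, h, one_pow, mul_comm (2 ^ i), pow_mul, h',
          one_pow, one_mul]⟩ }
  have h4 := Si.boxE1 _ 2 A Nat.prime_two (fun a => a.2.2.imp fun _ h => Subtype.ext h)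
    (fun a ha => mem_center_iff.2 fun g => Subtype.ext (ZG_comm ha.1 g.2.1))
    (eq_bot_iff.2 fun a ⟨⟨ha, i, h⟩, h'⟩ => by
      have h5 : a ^ 3 = 1 := Subtype.ext (H.cube_eq ha (by
        have := mem_map_of_mem (GF F G).subtype h'
        rw [_root_.commutator_def, map_commutator] at this
        exact commutator_mono (by rintro _ ⟨g, -, rfl⟩; exact g.2.1) (by rintro _ ⟨g, -, rfl⟩; exact g.2.1) this))
      exact orderOf_eq_one_iff.1 (Nat.eq_one_of_dvd_coprimes (Nat.Coprime.pow_left i (by norm_num : Nat.Coprime 2 3))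
        (orderOf_dvd_of_pow_eq_one h) (orderOf_dvd_of_pow_eq_one h5))) ⟨χ, hχ⟩
    fun x ⟨i, hi⟩ hx => hv x x ⟨1, mul_one _, Commute.one_right _, ((Nat.dvd_prime_pow Nat.prime_two).1
      (orderOf_dvd_of_pow_eq_one hi)).imp fun _ h => h.2, by simp⟩ fun h => hx ⟨h, i, hi⟩
  have h5 := Mu.fac_le (p := 2) (card_Tw w ▸ Uu.dvd_all hq f hχ hw) Nat.card_pos.ne'
  have : Finite ↥(Tw X w ⊓ GF F G) := Finite.of_injective _ (inclusion_injective inf_le_right)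
  rw [Nat.factorization_mul (Blocks.Basic.charDegree_pos hχ).ne' Nat.card_pos.ne', Finsupp.add_apply] at h5
  obtain ⟨Q, hQ, h6⟩ := H.exQ (w * w₀)
  have h7 : X.Wm w * X.Mx = m • E C L Q := by rw [hM, Matrix.mul_smul, ← X.Wm_mul, h6]
  have h8 : ∀ i, Q i ∈ S2 := (H.conj (yw_mem X w) ⟨w, yw_rp X w⟩).kill hp h2 hQ
    (by rw [X.conj_Mx, (yw_rp X w).pr_eq, h7]) fun t ht hF h => by
      have hT := (X.conj (yw_mem X w) ⟨w, yw_rp X w⟩).T_le_G
      obtain ⟨a, ha, rfl⟩ := Uu.mem_of_fac (l := 2) (A := Tw X w ⊓ GF F G) (R := A.map (GF F G).subtype)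
        (fun a ha b hb => (X.conj (yw_mem X w) ⟨w, yw_rp X w⟩).T_comm ha.1 hb.1)
        (by rintro _ ⟨a, ha, rfl⟩; exact ⟨central_mem a.2.1 (fun _ => ZG_comm ha.1) (yw_mem X w), a.2⟩)
        (by rintro _ ⟨a, ha, rfl⟩; exact ha.2.imp fun _ h => congrArg Subtype.val h)
        (by
          rw [card_map_of_injective Subtype.val_injective]
          change _ ≤ (charDegree χ).factorization 2 + _ at h4
          omega) ⟨ht, hT ht, hF⟩ ⟨1, by rw [pow_one, pow_two, h]⟩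
      exact (ZG_conj _ _).ge ha.1
  obtain ⟨c, hc⟩ : ∃ c, classInner χ (RW f w c) ≠ 0 := by
    by_contra! h
    exact hw (by simp [h])
  obtain ⟨cl, k1, -, k2, k3⟩ := RW_lin' KZ.Mts.boxExLin f hq ν fun u ⟨i, hi⟩ => by
    refine orderOf_eq_one_iff.1 (Nat.eq_one_of_dvd_coprimes (Nat.Coprime.pow_left i
      ((Nat.coprime_primes Fact.out Nat.prime_three).2 hp3)) (hi ▸ ?_) (orderOf_dvd_of_pow_eq_one ?_))
    · exact (orderOf_map_dvd ν u).trans (orderOf_coe u).symm.dvd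
    · exact DFunLike.congr_fun hν u
  obtain ⟨v, -, hv⟩ := one_of_lf f (LfE.lf f (Deg.lfE_of_bij hq f Deg.boxBij hχ)) (H.reg h0 h8 h7) hc
    (c' := c * cl) (by rwa [ip_twist k3 fun g => (hνχ g).symm])
  obtain ⟨Q', hQ', h9⟩ := H.exQ v
  have k4 : ∀ y, chr y cl * ∏ i, chr (C i *ᵥ Q' i *ᵥ L i *ᵥ y) c = 1 := fun y => by
    have := hv y
    rw [map_mul, k1, h9, E, add_mulVec, one_mulVec, chr_add, sum_mulVec, chr_sum, mul_assoc, mul_eq_left, mul_comm] at this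
    simpa only [mulVec_mulVec, Matrix.mul_assoc] using this
  have k5 : ∀ i u, chr (C i *ᵥ Q' i *ᵥ u) c = 1 := fun i u => by
    obtain ⟨n, hn⟩ := h3
    obtain ⟨y, k5, k6⟩ := cen (h8 i) n
    obtain ⟨μ, hμ⟩ := H.du i
    rw [← vecMul_transpose, chr_two]
    refine triv (hQ' i) (fun u => ?_) k6 ?_ u
    · have := k4 (C i *ᵥ u)
      rw [H.inv_lab k1, one_mul, Finset.prod_eq_single i (fun j _ e => by
        rw [mulVec_mulVec u, H.lc, if_neg e, zero_mulVec, mulVec_zero, mulVec_zero, chr_zero]) (by simp),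
        mulVec_mulVec u, H.lc, if_pos rfl, ← vecMul_transpose, chr_two] at this
      exact this
    · rw [← chr_two, vecMul_transpose]
      refine lab_cen f hχ hc hμ ?_ (fun _ => H.z_cen i) (hz i)
      rw [h7, sub_mulVec, one_mulVec, smul_mulVec, mulVec_mulVec, E_C H.lc, ← mulVec_mulVec, ← mulVec_smul (C i),
        ← mulVec_smul (C i), ← mulVec_sub, ← k5, show m = 3 * n + 1 by omega]
  have k6 : cl = 1 := eq_of_chr X fun y => by simpa only [k5, Finset.prod_const_one, mul_one, map_one] using k4 y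
  exact MonoidHom.ext fun g => (pow_one _).symm.trans (DFunLike.congr_fun ((k2 1).2 (by rw [k6, one_pow])) g)

/-- the coroots -/
noncomputable def Cm (a b : Fin 2 → X.I → ℤ) (i : Fin 2) : Matrix X.R (Fin 2) ℤ := (of ![X.cor (a i), X.cor (b i)])ᵀ

/-- the roots -/
def Lm (a b : Fin 2 → X.I → ℤ) (i : Fin 2) : Matrix (Fin 2) X.R ℤ := of ![X.wt (a i), X.wt (b i)]

variable {a b : Fin 2 → X.I → ℤ}

theorem Cm_vec (i : Fin 2) (u : Fin 2 → ℤ) : Cm a b i *ᵥ u = u 0 • X.cor (a i) + u 1 • X.cor (b i) := by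
  ext r
  simp [Cm, mulVec, dotProduct, mul_comm]

theorem vec_Lm (i : Fin 2) (u : Fin 2 → ℤ) : u ᵥ* Lm a b i = u 0 • X.wt (a i) + u 1 • X.wt (b i) := by
  ext r
  simp [Lm, vecMul, dotProduct]

theorem cf (hS : Sl X) (h1 : ∀ i, pr X (a i) (b i) = -1) (h2 : ∀ c, X.Rt c ↔ c ∈ A2 X (a 0) (b 0) ∪ A2 X (a 1) (b 1))
    (h3 : ∀ c ∈ A2 X (a 0) (b 0), ∀ d ∈ A2 X (a 1) (b 1), pr X c d = 0) (h4 : Du X ![a 0, b 0, a 1, b 1]) :
    Cf X (Cm a b) (Lm a b) := by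
  have ma : ∀ i, a i ∈ A2 X (a i) (b i) := fun _ => .inl rfl
  have mb : ∀ i, b i ∈ A2 X (a i) (b i) := fun _ => .inr (.inl rfl)
  have h5 : ∀ c, X.Rt c ↔ ∃ i, c ∈ A2 X (a i) (b i) := fun c => by rw [h2, Fin.exists_fin_two]; rfl
  have ra := fun i => (h5 _).2 ⟨i, ma i⟩
  have rb := fun i => (h5 _).2 ⟨i, mb i⟩
  have h6 : ∀ i, pr X (b i) (a i) = -1 := fun i => (hS _ _ (rb i) (ra i)).trans (h1 i)
  have h7 : ∀ c ∈ A2 X (a 1) (b 1), ∀ d ∈ A2 X (a 0) (b 0), pr X c d = 0 := fun c hc d hd =>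
    (hS _ _ ((h5 _).2 ⟨1, hc⟩) ((h5 _).2 ⟨0, hd⟩)).trans (h3 d hd c hc)
  have h8 : ∀ i, X.cor (a i + b i) = X.cor (a i) + X.cor (b i) := fun i =>
    TO.X5.cor_add (ra i) (rb i) ((pr_eq (rb i) _).symm.trans (h1 i)) ((pr_eq (ra i) _).symm.trans (h6 i))
  have h9 : ∀ i j, Lm a b i * Cm a b j = !![pr X (a i) (a j), pr X (a i) (b j); pr X (b i) (a j), pr X (b i) (b j)] :=
    fun i j => by
      ext r s
      fin_cases r <;> fin_cases s <;> rfl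
  refine ⟨fun i j => ?_, fun c hc => ?_, fun i => Fin.forall_fin_two.2 ⟨⟨_, ra i, rfl, rfl⟩, _, rb i, rfl, rfl⟩, ?_⟩
  · rw [h9]
    split_ifs with e
    · rw [e, h1, h6, pr_self (ra j), pr_self (rb j), K]
    · have : ∀ c ∈ A2 X (a i) (b i), ∀ d ∈ A2 X (a j) (b j), pr X c d = 0 := by
        fin_cases i <;> fin_cases j
        exacts [absurd rfl e, h3, h7, absurd rfl e]
      rw [this _ (ma i) _ (ma j), this _ (ma i) _ (mb j), this _ (mb i) _ (ma j), this _ (mb i) _ (mb j)]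
      decide +kernel
  · obtain ⟨i, hi⟩ := (h5 c).1 hc
    simp only [Cm_vec, vec_Lm]
    refine ⟨i, ?_⟩
    have rc := (h5 _).2 ⟨i, show a i + b i ∈ _ from .inr (.inr (.inl rfl))⟩
    rcases hi with rfl | rfl | rfl | rfl | rfl | rfl <;>
      simp [U6, X.cor_neg, ra, rb, rc, h8, -neg_add_rev]
    simp only [neg_add, and_self, or_true]
  · obtain ⟨μ, hμ⟩ := h4
    refine Fin.forall_fin_two.2 ⟨⟨μ 0, ?_⟩, μ 2, ?_⟩
    · have k1 : μ 0 ⬝ᵥ X.cor (a 0) = 1 := hμ 0 0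
      have k2 : μ 0 ⬝ᵥ X.cor (b 0) = 0 := hμ 0 1
      simp [Cm_vec, x0, k1, k2]
    · have k1 : μ 2 ⬝ᵥ X.cor (a 1) = 1 := hμ 2 2
      have k2 : μ 2 ⬝ᵥ X.cor (b 1) = 0 := hμ 2 3
      simp [Cm_vec, x0, k1, k2]

end BS

open BS in
/-- **[BS]** -/
theorem boxBS : BoxBS := by
  intro p _ k _ _ Y _ N _ _ ρ F G _ X hp _ a b e w ε χ ν hS h1 h2 h3 h4 he hε hM k4 k3 hχ hv hν hν3 hνχ hz
  obtain ⟨y, hy, hN, hq⟩ := X.exists_qs
  have := Fintype.ofFinite ↥(GF F G)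
  have H := cf hS h1 h2 h3 h4
  have h0 : ¬ (3 : ℤ) ∣ ε * (p : ℤ) ^ e := by omega
  refine hν (main (w₀ := X.pr (y⁻¹ * F y) * w) hq hp (fun h => h0 ?_) (H.conj hy hN)
    (by rw [X.conj_Mx, hM, Matrix.mul_smul, ← X.Wm_mul, conj_Wm']) (by omega) (by omega) k3 hχ
    (by rwa [ZG_conj]) hν3 hνχ fun i ω z hω h => hz i ω z hω ?_)
  · exact (dvd_pow (by simp [h]) he.ne').mul_left _
  · rw [h, X.conj_tau, H.z_cen i hω y hy, mul_inv_cancel_right, Cm_vec, coch_add, map_mul, coch_zsmul, coch_zsmul]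
    simp [x0, ct]

end Cfsg.Agent.KM.E2
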