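import Cfsg.Agent.KM.E2.L8a
import Cfsg.Agent.KM.Ev.Q2X

/-!
# KM, `l = 2`, type `E₈` : the configuration `D₄ + D₄` (helper13)

* `L8L.Cf`, `L8L.exists_cf`, `L8L.Cf.d4c`; **`boxL8`**.
-/

set_option autoImplicit false
set_option linter.unusedSectionVars false

namespace Cfsg.Agent.KM.E2

open Cfsg Cfsg.Lie Cfsg.Agent.DL Matrix Cfsg.Agent.KM.Tor Cfsg.Agent.KZ.DatX Cfsg.Agent.Nodes.RGDChev
open Cfsg.Agent.KM.Ev (Pe)
open Cfsg.Agent.TO.X.Cn (cl pm_E8)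

namespace L8L

variable {p : ℕ} [Fact p.Prime] {k : Type} [Field k] [CharP k p] {Y : Type} [Group Y] {N : Type} [Fintype N]
  [DecidableEq N] {ρ : Y →* GL N k} {F : MulAut Y} {G : Subgroup Y} [IsAlgClosed k] {X : Datum p ρ F G}

/-- the configuration -/
structure Cf (β : (X.R → ℤ) →ₗ[ℤ] (X.R → ℤ) →ₗ[ℤ] ℤ) (U : AddSubgroup (X.R → ℤ)) (a b c : X.I → ℤ) (δ : X.R → ℤ)
    (y : Fin 4 → X.R → ℤ) : Prop where
  ra : X.Rt a
  rb : X.Rt b
  rc : X.Rt c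
  ab : pr X a b = 0
  ac : pr X a c = 0
  bc : pr X b c = 0
  da : β (X.cor a) δ = 1
  db : β (X.cor b) δ = 1
  dc : β (X.cor c) δ = 1
  dd : β δ δ = 2
  ind : Ind X ![X.cor a, X.cor b, X.cor c, δ]
  yU : ∀ i, y i ∈ U
  iy : Ind X y
  two : ∀ v, (2 : ℤ) • v ∈ U
  gen : ∀ v, (∀ x ∈ Ru X U, 2 ∣ β v (X.cor x)) → ∀ u ∈ U, 2 ∣ β v u
  pe : ∀ x ∈ Ru X U, pr X a x = 0 ∧ pr X b x = 0 ∧ pr X c x = 0 ∧ β δ (X.cor x) = 0

variable {β : (X.R → ℤ) →ₗ[ℤ] (X.R → ℤ) →ₗ[ℤ] ℤ} {u v w δ : X.R → ℤ} {a b c d x z : X.I → ℤ}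
  {U : AddSubgroup (X.R → ℤ)} {y : Fin 4 → X.R → ℤ}

theorem par2 {r s : X.R → ℤ} {i j : ℤ} (e : Ev X (u - (i • r + j • s))) :
    Ev X u ∨ Ev X (u - r) ∨ Ev X (u - s) ∨ Ev X (u - r - s) := by
  have h := e.add (ev_two (X := X) ((i / 2) • r + (j / 2) • s))
  rcases Int.emod_two_eq_zero_or_one i with e1 | e1 <;> rcases Int.emod_two_eq_zero_or_one j with e2 | e2
  · exact .inl (by convert h using 1; match_scalars <;> omega)
  · exact .inr (.inr (.inl (by convert h using 1; match_scalars <;> omega)))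
  · exact .inr (.inl (by convert h using 1; match_scalars <;> omega))
  · exact .inr (.inr (.inr (by convert h using 1; match_scalars <;> omega)))

theorem fa4 {P : (X.R → ℤ) → Prop} {r s t u : X.R → ℤ} (h1 : P r) (h2 : P s) (h3 : P t) (h4 : P u) : ∀ i, P (![r, s, t, u] i) :=
  Fin.forall_fin_succ.2 ⟨h1, Fin.forall_fin_succ.2 ⟨h2, Fin.forall_fin_two.2 ⟨h3, h4⟩⟩⟩

variable (h : Fm X β)
include h

theorem mem_of (h2 : ∀ v, (2 : ℤ) • v ∈ U) (hy : ∀ i, y i ∈ U) {i j l m : ℤ}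
    (e : Ev X (v - (i • y 0 + j • y 1 + l • y 2 + m • y 3))) : v ∈ U := by
  obtain ⟨t, ht⟩ := h.two e
  rw [sub_eq_iff_eq_add.1 ht]
  exact add_mem (h2 t) (add_mem (add_mem (add_mem (zsmul_mem (hy 0) i) (zsmul_mem (hy 1) j)) (zsmul_mem (hy 2) l))
    (zsmul_mem (hy 3) m))

/-- four orthogonal roots which are even on `U` -/
theorem ev4 (h2 : ∀ v, (2 : ℤ) • v ∈ U) (hy : ∀ i, y i ∈ U) (iy : Ind X y) (ha : a ∈ Sg X U) (hb : b ∈ Sg X U) (hc : c ∈ Sg X U)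
    (hd : d ∈ Sg X U) (ab : pr X a b = 0) (ac : pr X a c = 0) (ad : pr X a d = 0) (bc : pr X b c = 0) (bd : pr X b d = 0)
    (cd : pr X c d = 0) : Ev X (X.cor a + X.cor b + X.cor c + X.cor d) :=
  (h.ind4 ha.1 hb.1 hc.1 hd.1 ab ac ad bc bd cd).resolve_left fun h3 => by
    have h4 : ∀ x ∈ Sg X U, ∀ i, 2 ∣ β (X.cor x) (y i) := fun x hx i => h.cor x hx.1 _ ▸ hx.2.1 _ (hy i)
    obtain ⟨i, j, l, m, e⟩ := h.span (v := X.cor a) iy h3 (fun i => fa4 (P := fun r => 2 ∣ β r (y i)) (h4 a ha i) (h4 b hb i)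
      (h4 c hc i) (h4 d hd i)) (fa4 (P := fun r => 2 ∣ β r (X.cor a)) (by rw [h.self ha.1])
        (by rw [h.comm, h.pr ha.1, ab]; decide) (by rw [h.comm, h.pr ha.1, ac]; decide) (by rw [h.comm, h.pr ha.1, ad]; decide))
    exact ha.2.2 (mem_of h h2 hy e)

theorem sg_pe (ha : a ∈ Sg X U) (hx : x ∈ Ru X U) : pr X a x = 0 := by
  rcases h.zero ha.1 hx.1 (ha.2.1 _ hx.2) with rfl | rfl | e
  exacts [(ha.2.2 hx.2).elim, (ha.2.2 (X.cor_neg hx.1 ▸ neg_mem hx.2)).elim, e]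

theorem exists_cf (h2 : ∀ v, (2 : ℤ) • v ∈ U)
    (h3 : ∀ V : AddSubgroup (X.R → ℤ), (∀ v, (2 : ℤ) • v ∈ V) → (∀ a ∈ Ru X U, X.cor a ∈ V) → U ≤ V) (h4 : ¬ Gn X 3 U)
    (h5 : Hf X (Sg X U)) : ∃ a b c δ y, Cf β U a b c δ y := by
  obtain ⟨y, hy, iy⟩ := exists_ind h4
  obtain ⟨a, ha, b, hb, c, hc, d, hd, ab, ac, ad, bc, bd, cd⟩ := h.four _ (fun _ h => h.1) h5
  obtain ⟨δ, e⟩ := h.two (ev4 h h2 hy iy ha hb hc hd ab ac ad bc bd cd)
  have e1 : ∀ v, 2 * β v δ = β v (X.cor a) + β v (X.cor b) + β v (X.cor c) + β v (X.cor d) := fun v => by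
    rw [← map_add, ← map_add, ← map_add, e, map_smul, smul_eq_mul]
  have k1 := e1 (X.cor a)
  have k2 := e1 (X.cor b)
  have k3 := e1 (X.cor c)
  have k4 := e1 (X.cor d)
  have k5 := e1 δ
  simp only [h.pr ha.1, h.pr hb.1, h.pr hc.1, h.pr hd.1, pr_self ha.1, pr_self hb.1, pr_self hc.1, pr_self hd.1,
    h.ls.symm hb.1 ha.1, h.ls.symm hc.1 ha.1, h.ls.symm hd.1 ha.1, h.ls.symm hc.1 hb.1, h.ls.symm hd.1 hb.1,
    h.ls.symm hd.1 hc.1, ab, ac, ad, bc, bd, cd, h.comm δ (X.cor _)] at k1 k2 k3 k4 k5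
  refine ⟨a, b, c, δ, y, ha.1, hb.1, hc.1, ab, ac, bc, by omega, by omega, by omega, by omega, fun ε e2 => ?_, hy, iy, h2,
    fun v hv u hu => h3 ((AddSubgroup.zmultiples (2 : ℤ)).comap (β v).toAddMonoidHom)
      (fun t => Int.mem_zmultiples_iff.2 (h.right (ev_two t) v)) (fun x hx => Int.mem_zmultiples_iff.2 (hv x hx)) hu
      |> Int.mem_zmultiples_iff.1, fun x hx => ⟨sg_pe h ha hx, sg_pe h hb hx, sg_pe h hc hx, ?_⟩⟩
  · rw [Fin.sum_univ_four] at e2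
    simp only [cons_val_zero, cons_val_one, cons_val] at e2
    have h6 := h.right e2 (X.cor a)
    simp only [map_add, map_smul, smul_eq_mul, h.pr ha.1, pr_self ha.1, ab, ac, show β (X.cor a) δ = 1 by omega] at h6
    have h7 : 2 ∣ ε 3 := by omega
    rcases h.sq4 ha.1 hb.1 hc.1 hd.1 ab ac ad bc bd cd (i := ε 0) (j := ε 1) (l := ε 2) (m := 0)
      (by simpa only [add_sub_cancel_right, zero_smul, add_zero] using e2.sub (ev_smul h7 δ)) with h8 | h8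
    · exact Fin.forall_fin_succ.2 ⟨h8.1, Fin.forall_fin_succ.2 ⟨h8.2.1, Fin.forall_fin_two.2 ⟨h8.2.2.1, h7⟩⟩⟩
    · exact (h8.2.2.2 (dvd_zero _)).elim
  · have h6 := e1 (X.cor x)
    rw [h.comm _ (X.cor a), h.comm _ (X.cor b), h.comm _ (X.cor c), h.comm _ (X.cor d), h.pr ha.1, h.pr hb.1, h.pr hc.1,
      h.pr hd.1, sg_pe h ha hx, sg_pe h hb hx, sg_pe h hc hx, sg_pe h hd hx, h.comm] at h6
    omega

variable (K : Cf β U a b c δ y)
include K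

theorem Cf.ev (hu : u ∈ U) : ∀ j, 2 ∣ β (![X.cor a, X.cor b, X.cor c, δ] j) u :=
  fa4 (P := fun r => 2 ∣ β r u) (K.gen _ (fun x hx => by rw [h.pr K.ra, (K.pe x hx).1]; decide) u hu)
    (K.gen _ (fun x hx => by rw [h.pr K.rb, (K.pe x hx).2.1]; decide) u hu)
    (K.gen _ (fun x hx => by rw [h.pr K.rc, (K.pe x hx).2.2.1]; decide) u hu)
    (K.gen _ (fun x hx => by rw [(K.pe x hx).2.2.2]; decide) u hu)

theorem Cf.mem (h1 : 2 ∣ β (X.cor a) u) (h2 : 2 ∣ β (X.cor b) u) (h3 : 2 ∣ β (X.cor c) u) (h4 : 2 ∣ β δ u) : u ∈ U :=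
  let ⟨_, _, _, _, e⟩ := h.span K.iy K.ind (fun i => K.ev h (K.yU i)) (fa4 (P := fun r => 2 ∣ β r u) h1 h2 h3 h4)
  mem_of h K.two K.yU e

theorem Cf.r1 : X.cor a + X.cor b ∈ U := by
  refine K.mem h ?_ ?_ ?_ ?_ <;> simp [h.pr K.ra, h.pr K.rb, h.pr K.rc, pr_self K.ra, pr_self K.rb, h.ls.symm K.rb K.ra,
    h.ls.symm K.rc K.ra, h.ls.symm K.rc K.rb, K.ab, K.ac, K.bc, h.comm δ, K.da, K.db]

theorem Cf.r2 : X.cor a + X.cor c ∈ U := by
  refine K.mem h ?_ ?_ ?_ ?_ <;> simp [h.pr K.ra, h.pr K.rb, h.pr K.rc, pr_self K.ra, pr_self K.rc, h.ls.symm K.rb K.ra,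
    h.ls.symm K.rc K.ra, K.ab, K.ac, K.bc, h.comm δ, K.da, K.dc]

theorem Cf.perp (hv : ∀ u ∈ U, 2 ∣ β v u) : ∃ (i j l m : ℤ) (t : X.R → ℤ),
    v = (2 : ℤ) • t + (i • X.cor a + j • X.cor b + l • X.cor c + m • δ) :=
  let ⟨i, j, l, m, e⟩ := h.span K.ind K.iy (fun i j => h.comm _ _ ▸ K.ev h (K.yU j) i) fun j => h.comm _ _ ▸ hv _ (K.yU j)
  let ⟨t, ht⟩ := h.two e
  ⟨i, j, l, m, t, sub_eq_iff_eq_add.1 ht⟩

/-- the form on the orthogonal complement -/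
theorem Cf.fm (hv : ∀ u ∈ U, 2 ∣ β v u) (hw : ∀ u ∈ U, 2 ∣ β w u) :
    ((β v w : ℤ) : ZMod 2) = β v δ * β w (X.cor a) + β v (X.cor a) * β w δ := by
  obtain ⟨i, j, l, m, t, rfl⟩ := K.perp h hv
  obtain ⟨r, hr⟩ := hw _ (K.r1 h)
  obtain ⟨s, hs⟩ := hw _ (K.r2 h)
  rw [← Int.cast_mul, ← Int.cast_mul, ← Int.cast_add, ZMod.intCast_eq_intCast_iff_dvd_sub]
  rw [map_add] at hr hs
  simp only [map_add, map_smul, LinearMap.add_apply, LinearMap.smul_apply, smul_eq_mul, h.pr K.ra, h.pr K.rb, h.pr K.rc,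
    pr_self K.ra, h.ls.symm K.rb K.ra, h.ls.symm K.rc K.ra, K.ab, K.ac, h.comm δ (X.cor a), K.da, K.db, K.dc, K.dd,
    h.comm _ w]
  exact ⟨(β t δ + m + j + l) * β w (X.cor a) + (β t (X.cor a) + i) * β w δ - β w t - j * r - l * s,
    by push_cast; linear_combination (-j) * hr - l * hs⟩

theorem Cf.sing (hv : ∀ u ∈ U, 2 ∣ β v u) (h1 : 2 ∣ β v δ) (h2 : 2 ∣ β v (X.cor a)) : 4 ∣ β v v := by
  obtain ⟨i, j, l, m, t, rfl⟩ := K.perp h hv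
  have h3 := h.cong (u := (2 : ℤ) • t + (i • X.cor a + j • X.cor b + l • X.cor c + m • δ))
    (v := i • X.cor a + j • X.cor b + l • X.cor c + m • δ) (by rw [add_sub_cancel_right]; exact ev_two t)
  generalize β ((2 : ℤ) • t + _) ((2 : ℤ) • t + _) = q at h3 ⊢
  simp only [map_add, map_smul, LinearMap.add_apply, LinearMap.smul_apply, smul_eq_mul, h.pr K.ra, h.pr K.rb, h.pr K.rc,
    pr_self K.ra, pr_self K.rb, pr_self K.rc, h.ls.symm K.rb K.ra, h.ls.symm K.rc K.ra, h.ls.symm K.rc K.rb, K.ab, K.ac, K.bc,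
    h.comm δ (X.cor _), K.da, K.db, K.dc, K.dd] at h1 h2 h3
  obtain ⟨n, rfl⟩ : 2 ∣ m := by omega
  have h4 : ∀ i : ℤ, 2 ∣ i * i - i := fun i => by simpa only [mul_sub, mul_one] using (Int.even_mul_pred_self i).two_dvd
  have := h4 i
  have := h4 j
  have := h4 l
  rw [show ∀ A : ℤ, q - A = q - (2 * (i * i) + 2 * (j * j) + 2 * (l * l) + 4 * (n * (2 * n + i + j + l))) -
    (A - (2 * (i * i) + 2 * (j * j) + 2 * (l * l) + 4 * (n * (2 * n + i + j + l)))) from fun _ => by ring,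
    show ∀ A B : ℤ, A = 0 → B - A = B from fun _ _ e => by rw [e, sub_zero]] at h3
  · omega
  · ring

theorem Cf.not_mem (hx : X.Rt x) (h1 : ∀ u ∈ U, 2 ∣ β (X.cor x) u) : X.cor x ∉ U := fun e => by
  have := K.sing h h1 (h.comm _ _ ▸ K.ev h e 3) (h.comm _ _ ▸ K.ev h e 0)
  rw [h.self hx] at this
  omega

theorem Cf.psi : x ∈ Pe X (Ru X U) ↔ X.Rt x ∧ ∀ u ∈ U, 2 ∣ β (X.cor x) u :=
  (mem_Pe fun _ h => h.1).trans (and_congr_right fun hx => ⟨fun h1 => K.gen _ fun z hz => by rw [h.pr hx, h1 z hz]; decide,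
    fun h1 _ => sg_pe h ⟨hx, fun u hu => h.cor x hx u ▸ h1 u hu, K.not_mem h hx h1⟩⟩)

theorem Cf.sg (hx : x ∈ Pe X (Ru X U)) : x ∈ Sg X U :=
  let ⟨h1, h2⟩ := (K.psi h).1 hx
  ⟨h1, fun u hu => h.cor x h1 u ▸ h2 u hu, K.not_mem h h1 h2⟩

theorem Cf.rf (hx : x ∈ Pe X (Ru X U)) (hz : z ∈ Pe X (Ru X U)) : x - pr X x z • z ∈ Pe X (Ru X U) :=
  have h1 := rf_rt hz.1 hx.1
  (K.psi h).2 ⟨h1, fun u hu => by
    rw [h.cor _ h1, map_sub, map_zsmul, sub_dotProduct, smul_dotProduct]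
    exact ((K.sg h hx).2.1 u hu).sub (((K.sg h hz).2.1 u hu).mul_left _)⟩

theorem Cf.uq (hx : x ∈ Pe X (Ru X U)) (hz : z ∈ Pe X (Ru X U)) (hd : d ∈ Pe X (Ru X U)) (h1 : 2 ∣ pr X d x) (h2 : 2 ∣ pr X d z) :
    Pe X (Ru X U) ⊆ Rn X 2 (X.cor x - X.cor z) := fun e he => by
  have h3 : ∀ x ∈ Pe X (Ru X U), ¬ (((β (X.cor x) δ : ℤ) : ZMod 2) = 0 ∧ ((β (X.cor x) (X.cor a) : ℤ) : ZMod 2) = 0) :=
    fun x hx e => by
      have := K.sing h ((K.psi h).1 hx).2 ((ZMod.intCast_zmod_eq_zero_iff_dvd _ 2).1 e.1)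
        ((ZMod.intCast_zmod_eq_zero_iff_dvd _ 2).1 e.2)
      rw [h.self hx.1] at this
      omega
  have h4 := fun x (hx : x ∈ Pe X (Ru X U)) z (hz : z ∈ Pe X (Ru X U)) => K.fm h ((K.psi h).1 hx).2 ((K.psi h).1 hz).2
  refine ⟨he.1, (ZMod.intCast_zmod_eq_zero_iff_dvd _ 2).1 ?_⟩
  have k1 := (ZMod.intCast_zmod_eq_zero_iff_dvd _ 2).2 (h.pr hd.1 x ▸ h1)
  have k2 := (ZMod.intCast_zmod_eq_zero_iff_dvd _ 2).2 (h.pr hd.1 z ▸ h2)
  rw [h4 d hd x hx] at k1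
  rw [h4 d hd z hz] at k2
  rw [← h.cor e he.1, map_sub, Int.cast_sub, h4 e he x hx, h4 e he z hz]
  exact (by decide : ∀ a b c d e f g h : ZMod 2, ¬ (a = 0 ∧ b = 0) → ¬ (c = 0 ∧ d = 0) → ¬ (e = 0 ∧ f = 0) → a * d + b * c = 0 →
    a * f + b * e = 0 → g * d + h * c - (g * f + h * e) = 0) _ _ _ _ _ _ _ _ (h3 d hd) (h3 x hx) (h3 z hz) k1 k2

theorem Cf.tri (j : ℕ) (u : X.R → ℤ) : Pe X (Ru X U) ⊆ Rn X (2 ^ j) u ∨ ¬ Hf X (Rn X (2 ^ j) u ∩ Pe X (Ru X U)) ∨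
    ∃ c ∈ Pe X (Ru X U), ∃ i, j = i + 1 ∧ Pe X (Ru X U) ⊆ Rn X (2 ^ j) (u + (2 : ℤ) ^ i • X.cor c) := by
  refine or_iff_not_imp_left.2 fun h1 => or_not_of_imp (fun h2 => ?_) |>.symm
  obtain ⟨r, ⟨r1, r2⟩, s, ⟨s1, s2⟩, t, ⟨t1, t2⟩, z, ⟨z1, z2⟩, rs, rt, rz, st, sz, tz⟩ := h.four _ (fun _ h => h.1.1) h2
  have hE := fun d hd => ev4 h (d := d) K.two K.yU K.iy (K.sg h r2) (K.sg h s2) (K.sg h t2) (K.sg h hd) rs rt
  have hpm : ∀ {x y : X.I → ℤ}, y ∈ Rn X (2 ^ j) u → X.Rt x → x = y ∨ x = -y → x ∈ Rn X (2 ^ j) u := fun hy hx e =>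
    ⟨hx, e.elim (fun e => e ▸ hy.2) fun e => by rw [e, map_neg, neg_dotProduct]; exact hy.2.neg_right⟩
  have hp : ∀ x ∈ Pe X (Ru X U), ∀ y ∈ Pe X (Ru X U), pr X r y = 0 → 2 ∣ pr X x r - pr X x y := fun x hx y hy e =>
    dotProduct_sub (X.wt x) _ _ ▸ (K.uq h r2 hy r2 (pr_self r2.1 ▸ dvd_rfl) (e ▸ dvd_zero _) hx).2
  have h3 : ∀ x ∈ Pe X (Ru X U), 2 ∣ pr X x r → x ∈ Rn X (2 ^ j) u := fun x hx e => by
    rcases or_assoc.2 (h.zero hx.1 r2.1 e) with e1 | e1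
    · exact hpm r1 hx.1 e1
    rcases or_assoc.2 (h.zero hx.1 s2.1 (by have := hp x hx s s2 rs; omega)) with e2 | e2
    · exact hpm s1 hx.1 e2
    rcases or_assoc.2 (h.zero hx.1 t2.1 (by have := hp x hx t t2 rt; omega)) with e3 | e3
    · exact hpm t1 hx.1 e3
    refine hpm z1 hx.1 (h.ls.inj z x z2.1 hx.1 ?_)
    simpa only [add_sub_add_left_eq_sub] using (hE z z2 rz st sz tz).sub
      (hE x hx (h.ls.symm r2.1 hx.1 ▸ e1) st (h.ls.symm s2.1 hx.1 ▸ e2) (h.ls.symm t2.1 hx.1 ▸ e3))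
  have hs : ∀ (x y : X.I → ℤ) (m : ℤ) v, X.wt (x - m • y) ⬝ᵥ v = X.wt x ⬝ᵥ v - m * X.wt y ⬝ᵥ v := fun x y m v => by
    rw [map_sub, map_zsmul, sub_dotProduct, smul_dotProduct, smul_eq_mul]
  have hs' : ∀ (x y z : X.I → ℤ) (m : ℤ), pr X (x - m • y) z = pr X x z - m * pr X y z := fun x y z m => hs x y m _
  have h4 : ∀ x ∈ Pe X (Ru X U), ¬ 2 ∣ pr X x r → ¬ 2 ^ j ∣ X.wt x ⬝ᵥ u := fun x hx e1 e2 => h1 fun y hy => by
    have h5 : ∀ x ∈ Pe X (Ru X U), ¬ 2 ∣ pr X x r → 2 ^ j ∣ X.wt x ⬝ᵥ u → ¬ 2 ∣ pr X y r → ¬ 2 ∣ pr X y x →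
        y ∈ Rn X (2 ^ j) u := fun x hx e1 e2 e3 e4 => by
      have h6 := (h3 _ (K.rf h hy hx) (by
        rw [hs']
        rcases h.odd hy.1 hx.1 e4 with e | e <;> rw [e] <;> omega)).2
      rw [hs] at h6
      exact ⟨hy.1, (dvd_sub_left (e2.mul_left _)).1 h6⟩
    by_cases e3 : 2 ∣ pr X y r
    · exact h3 y hy e3
    by_cases e4 : 2 ∣ pr X y x
    · have h6 := K.rf h hx r2
      refine h5 _ h6 ?_ (hs x r _ u ▸ e2.sub (r1.2.mul_left _)) e3 ?_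
      · rw [hs', pr_self r2.1]
        omega
      · rw [h.ls.symm hy.1 h6.1, hs', h.ls.symm hx.1 hy.1, h.ls.symm r2.1 hy.1]
        rcases h.odd hx.1 r2.1 e1 with e | e <;> rw [e] <;> omega
    · exact h5 x hx e1 e2 e3 e4
  have h5 : ∀ x ∈ Pe X (Ru X U), ¬ 2 ∣ pr X x r → 2 ^ j ∣ 2 * X.wt x ⬝ᵥ u := fun x hx e => by
    have k1 := K.rf h hx r2
    have k2 := K.rf h k1 s2
    have k3 := K.rf h k2 t2
    have k4 := K.rf h k3 z2
    simp only [hs', rs, rt, rz, st, sz, tz, mul_zero, sub_zero] at k4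
    have k5 : Ev X (X.cor x - X.cor (x - pr X x r • r - pr X x s • s - pr X x t • t - pr X x z • z)) := fun c hc => by
      have := hE z z2 rz st sz tz c hc
      have a1 := h.odd hx.1 r2.1 e
      have a2 := h.odd hx.1 s2.1 (by have := hp x hx s s2 rs; omega)
      have a3 := h.odd hx.1 t2.1 (by have := hp x hx t t2 rt; omega)
      have a4 := h.odd hx.1 z2.1 (by have := hp x hx z z2 rz; omega)
      rw [dotProduct_add, dotProduct_add, dotProduct_add] at this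
      rw [dotProduct_sub]
      change 2 ∣ pr X c x - pr X c _
      change 2 ∣ pr X c r + pr X c s + pr X c t + pr X c z at this
      rw [h.ls.symm hc k4.1, hs', hs', hs', hs', h.ls.symm hx.1 hc, h.ls.symm r2.1 hc, h.ls.symm s2.1 hc, h.ls.symm t2.1 hc,
        h.ls.symm z2.1 hc]
      rcases a1 with a1 | a1 <;> rcases a2 with a2 | a2 <;> rcases a3 with a3 | a3 <;> rcases a4 with a4 | a4 <;>
        rw [a1, a2, a3, a4] <;> omega
    rcases h.ls.inj _ _ hx.1 k4.1 k5 with e1 | e1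
    · have := congrArg (pr X · r) e1
      simp only [hs', pr_self r2.1, h.ls.symm s2.1 r2.1, h.ls.symm t2.1 r2.1, h.ls.symm z2.1 r2.1, rs, rt, rz] at this
      omega
    · have := congrArg (X.wt · ⬝ᵥ u) e1
      simp only [hs] at this
      rw [map_neg, neg_dotProduct] at this
      rw [show 2 * X.wt x ⬝ᵥ u = pr X x r * X.wt r ⬝ᵥ u + pr X x s * X.wt s ⬝ᵥ u + pr X x t * X.wt t ⬝ᵥ u +
        pr X x z * X.wt z ⬝ᵥ u by linear_combination this]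
      exact (((r1.2.mul_left _).add (s1.2.mul_left _)).add (t1.2.mul_left _)).add (z1.2.mul_left _)
  obtain _ | i := j
  · exact (h1 fun x hx => ⟨hx.1, one_dvd _⟩).elim
  refine ⟨r, r2, i, rfl, fun x hx => ⟨hx.1, ?_⟩⟩
  rw [dotProduct_add, dotProduct_smul, smul_eq_mul]
  by_cases e : 2 ∣ pr X x r
  · exact (h3 x hx e).2.add (pow_succ (2 : ℤ) i ▸ mul_dvd_mul_left _ e)
  · obtain ⟨m, hm⟩ := (mul_dvd_mul_iff_left two_ne_zero).1 (pow_succ' (2 : ℤ) i ▸ h5 x hx e)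
    have h6 : ¬ 2 ∣ m := fun e' => h4 x hx e (hm ▸ pow_succ (2 : ℤ) i ▸ mul_dvd_mul_left _ e')
    rw [hm, ← mul_add, pow_succ]
    exact mul_dvd_mul_left _ (by change 2 ∣ m + pr X x r; omega)

theorem Cf.pair : ∃ r ∈ Ru X U, ∃ s ∈ Ru X U, ¬ 2 ∣ pr X r s := by
  by_contra! h1
  have h2 := K.iy (Pi.single 0 1) (h.nd fun v => h.comm v _ ▸ K.gen v (fun x hx => (K.not_mem h hx.1
    (K.gen _ fun z hz => h.pr hx.1 z ▸ h1 x hx z hz) hx.2).elim) _ (sum_mem fun i _ => zsmul_mem (K.yU i) _)) 0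
  exact absurd h2 (by decide)

theorem Cf.d4c : D4c X U := by
  obtain ⟨r, hr, s, hs, rs⟩ := K.pair h
  have e1 : ∀ x ∈ Ru X U, ∀ i j : ℤ, β (X.cor x) (i • (X.cor a + X.cor b) + j • (X.cor a + X.cor c)) = 0 := fun x hx i j => by
    obtain ⟨k1, k2, k3, -⟩ := K.pe x hx
    simp only [map_add, map_smul, h.pr hx.1, h.ls.symm hx.1 K.ra, h.ls.symm hx.1 K.rb, h.ls.symm hx.1 K.rc, k1, k2, k3,
      add_zero, smul_zero]
  have e2 : ∀ i j : ℤ, 4 ∣ β (i • (X.cor a + X.cor b) + j • (X.cor a + X.cor c))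
      (i • (X.cor a + X.cor b) + j • (X.cor a + X.cor c)) := fun i j => ⟨i * i + i * j + j * j, by
    simp only [map_add, map_smul, LinearMap.add_apply, LinearMap.smul_apply, smul_eq_mul, h.pr K.ra, h.pr K.rb, h.pr K.rc,
      pr_self K.ra, pr_self K.rb, pr_self K.rc, h.ls.symm K.rb K.ra, h.ls.symm K.rc K.ra, h.ls.symm K.rc K.rb, K.ab, K.ac, K.bc]
    ring⟩
  have e3 : ∀ u (i j : ℤ), Ev X (u - (i • (X.cor a + X.cor b) + j • (X.cor a + X.cor c))) → ¬ Ns X u := fun u i j e => by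
    have := h.cong e
    have := e2 i j
    rw [h.ns]
    omega
  have hI : Ind X ![X.cor r, X.cor s, X.cor a + X.cor b, X.cor a + X.cor c] := fun ε e => by
    rw [Fin.sum_univ_four] at e
    simp only [cons_val_zero, cons_val_one, cons_val, add_assoc _ (ε 2 • _)] at e
    have k1 := h.right e (X.cor r)
    have k2 := h.right e (X.cor s)
    rw [map_add, e1 _ hr, map_add, map_smul, map_smul, h.self hr.1, h.pr hr.1, smul_eq_mul, smul_eq_mul] at k1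
    rw [map_add, e1 _ hs, map_add, map_smul, map_smul, h.self hs.1, h.comm, h.pr hr.1, smul_eq_mul, smul_eq_mul] at k2
    have k3 : 2 ∣ ε 0 ∧ 2 ∣ ε 1 := by rcases h.odd hr.1 hs.1 rs with e | e <;> rw [e] at k1 k2 <;> omega
    have k4 := K.ind ![ε 2 + ε 3, ε 2, ε 3, 0] (by
      convert e.sub ((ev_smul k3.1 (X.cor r)).add (ev_smul k3.2 (X.cor s))) using 1
      simp only [Fin.sum_univ_four, cons_val_zero, cons_val_one, cons_val]
      module)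
    exact Fin.forall_fin_succ.2 ⟨k3.1, Fin.forall_fin_succ.2 ⟨k3.2, Fin.forall_fin_two.2 ⟨k4 1, k4 2⟩⟩⟩
  have e4 : ∀ u ∈ U, ∃ i j : ℤ, ∀ z, z = i • (X.cor a + X.cor b) + j • (X.cor a + X.cor c) → Ev X (u - z) ∨
      Ev X (u - z - X.cor r) ∨ Ev X (u - z - X.cor s) ∨ Ev X (u - z - X.cor r - X.cor s) := fun u hu => by
    obtain ⟨i, j, l, m, e⟩ := h.span hI K.ind (fa4 (P := fun r => ∀ j, 2 ∣ β (![X.cor a, X.cor b, X.cor c, δ] j) r)
      (K.ev h hr.2) (K.ev h hs.2) (K.ev h (K.r1 h)) (K.ev h (K.r2 h))) (K.ev h hu)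
    refine ⟨l, m, fun z hz => par2 (i := i) (j := j) ?_⟩
    convert e using 1
    simp only [hz, cons_val_zero, cons_val_one, cons_val]
    module
  obtain ⟨d, hd, e5⟩ := h.rt δ (by rw [K.dd]; decide)
  have e6 : ∀ u, 2 ∣ β δ u - β (X.cor d) u := fun u => by simpa only [map_sub, LinearMap.sub_apply] using h.left e5 u
  have e7 : ∀ x, X.Rt x → (∀ u ∈ U, 2 ∣ β (X.cor x) u) → ∀ v, Pp X (Pe X (Ru X U)) v → 2 ∣ β (X.cor x) v := fun x hx e v hv => by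
    rw [h.cor x hx, hv x ((K.psi h).2 ⟨hx, e⟩)]
    decide
  refine ⟨fun x hx e => (K.psi h).2 ⟨hx, fun u hu => h.cor x hx u ▸ e u hu⟩, fun v hv => K.mem h
    (e7 a K.ra (fun _ hu => K.ev h hu 0) v hv) (e7 b K.rb (fun _ hu => K.ev h hu 1) v hv)
    (e7 c K.rc (fun _ hu => K.ev h hu 2) v hv) ?_, ⟨_, K.r1 h, _, K.r2 h, fun u hu => ⟨fun e => ?_, ?_⟩⟩,
    ⟨_, hr.2, _, hs.2, fun u hu => ?_⟩, K.tri h, fun x hx u hu => ?_, fun _ hx _ hz _ hd => K.uq h hx hz hd⟩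
  · have := e7 d hd (fun u hu => by have := e6 u; have : 2 ∣ β δ u := K.ev h hu 3; omega) v hv
    have := e6 v
    omega
  · obtain ⟨i, j, k1⟩ := e4 u hu
    have k2 := e2 i j
    have k3 := e1 r hr i j
    have k4 := e1 s hs i j
    rw [h.ns, not_not] at e
    rcases k1 _ rfl with k | k | k | k
    · exact par2 k
    all_goals
      simp only [sub_sub] at k
      have k5 := h.cong k
      generalize i • (X.cor a + X.cor b) + j • (X.cor a + X.cor c) = z at k2 k3 k4 k5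
      simp only [map_add, LinearMap.add_apply, h.comm z (X.cor _), k3, k4, h.pr hr.1, h.pr hs.1, pr_self hr.1, pr_self hs.1,
        h.ls.symm hs.1 hr.1] at k5
      omega
  · rintro (e | e | e | e)
    exacts [e3 u 0 0 (by simpa using e), e3 u 1 0 (by simpa using e), e3 u 0 1 (by simpa using e),
      e3 u 1 1 (by simpa only [one_smul, ← sub_sub] using e)]
  · obtain ⟨i, j, k1⟩ := e4 u hu
    exact (k1 _ rfl).imp (e3 u i j) (.imp (fun e => e3 _ i j (sub_right_comm u _ _ ▸ e)) (.imp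
      (fun e => e3 _ i j (sub_right_comm u _ _ ▸ e)) fun e => e3 _ i j (by convert e using 1; abel)))
  · have := ((K.psi h).1 hx).2 u hu
    have := h.even u
    rw [h.ns, h.ns, h.sq, h.self hx.1]
    omega

omit K in
theorem Fm.l8 (hz : ZCs X 2) (hc : ∀ m : X.R → ℤ, m ∈ Submodule.span ℤ (X.wt '' {a | X.Rt a})) : L8 X := by
  refine ⟨h.ls, h.ev, hz, hc, fun a u ha e => ?_, fun a b c ha hb hc e1 e2 e3 => ?_, fun U h2 h3 h4 h5 =>
    let ⟨_, _, _, _, _, K⟩ := exists_cf h h2 h3 h4 h5; K.d4c h⟩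
  · have := h.even u
    rw [h.ns, h.ns, h.sq, h.self ha, h.comm u (X.cor a), h.cor a ha]
    omega
  · rw [h.ns, h.sq] at e1 e2 e3
    rw [h.ns, h.sq, h.sq, map_add, LinearMap.add_apply]
    rw [h.self ha, h.self hb] at *
    rw [h.self hc] at *
    omega

end L8L

open L8L Ev.Q2 in
/-- **[L8]** -/
theorem boxL8 : BoxL8 := fun r _ k _ _ _ Mx X => by
  have hu := un8 X
  obtain ⟨Bm, hB⟩ := pm_E8
  have he : ∀ u : Fin 8 → ℤ, cl X.D (u ᵥ* of Bm) = u := fun u => (cl_co X _).trans (funext fun m => by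
    change ∑ i, (∑ j, u j * Bm j i) * _ = _
    simp only [Finset.sum_mul, mul_assoc]
    rw [Finset.sum_comm]
    simp only [← Finset.mul_sum, hB, Nat.cast_one, mul_ite, mul_one, mul_zero, Finset.sum_ite_eq', Finset.mem_univ, if_true])
  let β : (Fin 8 → ℤ) →ₗ[ℤ] (Fin 8 → ℤ) →ₗ[ℤ] ℤ := (dotProductBilin ℤ ℤ).comp (vecMulLinear (of Bm))
  have hβ : ∀ u v, β u v = B X.D (u ᵥ* of Bm) (v ᵥ* of Bm) := fun u v => by rw [B, he]; rfl
  have hc : ∀ u v, β u v = β v u := fun u v => by rw [hβ, hβ, hu.comm]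
  have hr : ∀ a, X.D.Rt a → ∀ v, β (X.D.cor a) v = X.D.wt a ⬝ᵥ v := fun a ha v => by
    refine (hc _ _).trans ?_
    rw [hu.cor a ha]
    exact (hu.comm (v ᵥ* of Bm) a).trans (by rw [B, he])
  have hev : ∀ u, Ev X.D u → ∀ r, 2 ∣ u r := fun u e i => Ex.sr_dot i u ▸ e _ (Tits.Roots.isRoot_sr _ _ i)
  have hcl : ∀ x, E2 x → Ev X.D (cl X.D x) := fun x e c _ => e.right c
  refine Fm.l8 (β := β) ⟨⟨fun a b ha hb => by rw [hu.cor a ha, hu.cor b hb]; exact hu.comm a b, fun v => ⟨_, (he v).symm⟩, cz X, fun a ha e => hu.not_e2 ha (hu.nd a fun y => ?_),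
    fun a b ha hb e => ?_⟩, hev, hc, fun u => hβ u u ▸ hu.even _, hr, fun u e => ?_, Fintype.card_fin 8, fun Φ h1 h2 => ?_⟩
    (zcs X 2) fun m => ?_
  · rw [hu.comm, B, ← hu.cor a ha]
    exact Finset.dvd_sum fun i _ => (hev _ e i).mul_left _
  · refine hu.uniq ha hb (hu.nd _ fun y => ?_)
    have : 2 ∣ X.D.wt y ⬝ᵥ (X.D.cor a - X.D.cor b) := Finset.dvd_sum fun i _ => (hev _ e i).mul_left _
    rw [dotProduct_sub, hu.cor a ha, hu.cor b hb] at this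
    rw [hu.comm, B_add_right, B, B]
    omega
  · obtain ⟨a, ha, e1⟩ := hu.rt _ (hβ u u ▸ e)
    refine ⟨a, ha, ?_⟩
    have := hcl _ e1
    rwa [sub_eq_add_neg, TO.X.Cn.cl_add, (he u).trans (rfl : _ = u), ← neg_one_zsmul, TO.X.Cn.cl_smul, neg_one_zsmul, ← hu.cor a ha,
      ← sub_eq_add_neg] at this
  · have e : ∀ a, ∀ b ∈ Φ, pr X.D a b = B X.D a b := fun a b hb => by rw [pr, hu.cor b (h1 b hb)]; rfl
    obtain ⟨s, s1, s2, s3, s4⟩ := h2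
    obtain ⟨a, ha, b, hb, c, hc, d, hd, k⟩ := Or2.four hu h1 ⟨s, s1, s2, fun a ha b hb ab => e a b (s2 b hb) ▸ s3 a ha b hb ab,
      e2_iff.2 (map_sum X.D.wt _ s ▸ s4)⟩
    exact ⟨a, ha, b, hb, c, hc, d, hd, by rwa [e a b hb, e a c hc, e a d hd, e b c hc, e b d hd, e c d hd]⟩
  · rw [pi_eq_sum_univ' m]
    exact Submodule.sum_mem _ fun i _ => Submodule.smul_mem _ _ (Submodule.subset_span ⟨_, Tits.Roots.isRoot_sr _ _ i, rfl⟩)

end Cfsg.Agent.KM.E2
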