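import Cfsg.Agent.KM.E2.Defs
import Cfsg.Agent.KM.Tor.BT

/-!
# KM, `l = 2`, type `E₈` : the configuration `D₄ + D₄` (helper55)
-/

set_option autoImplicit false
set_option linter.unusedSectionVars false

namespace Cfsg.Agent.KM.E2

open Cfsg Cfsg.Lie Cfsg.Agent.DL Cfsg.Agent.Nodes.Reps Cfsg.Agent.Nodes.BNOf Matrix Subgroup Cfsg.Agent.KM.Ht
open Cfsg.Agent.KZ.DatX Cfsg.Agent.Nodes.RGDChev Cfsg.Agent.KM.Tor Cfsg.Agent.BpExc.Zc
open Cfsg.Agent.TO.X5 (ct ct_mem)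
open Cfsg.Agent.KM.Ev (Pe Lp ord_neg ct_sq χ_of_comm)
open Cfsg.Agent.TO.X.Cn (exists_exp χ_exp)

namespace D4

variable {p : ℕ} [Fact p.Prime] {k : Type} [Field k] [CharP k p] {Y : Type} [Group Y] {N : Type} [Fintype N]
  [DecidableEq N] {ρ : Y →* GL N k} {F : MulAut Y} {G : Subgroup Y} [IsAlgClosed k] {X : Datum p ρ F G}
  {D C Γ : Subgroup Y}

variable (X) in
/-- the involution with the exponent `u` -/
noncomputable def tw (u : X.R → ℤ) : Y := X.τ (coch u (-1))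

theorem tw_add (u v : X.R → ℤ) : tw X (u + v) = tw X u * tw X v := by
  rw [tw, tw, tw, coch_add, map_mul]

theorem tw_even {u : X.R → ℤ} (h : ∀ r, 2 ∣ u r) : tw X u = 1 := by
  have h1 : coch u (-1 : kˣ) = 1 := funext fun r => by
    obtain ⟨c, hc⟩ := h r
    rw [coch_apply, hc, _root_.zpow_mul]
    simp
  rw [tw, h1, map_one]

theorem tw_congr {u v : X.R → ℤ} (h : ∀ r, 2 ∣ (u - v) r) : tw X u = tw X v := by
  rw [← sub_add_cancel u v, tw_add, tw_even h, one_mul]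

theorem even_of_tw (hp : p ≠ 2) {u v : X.R → ℤ} (h : tw X u = tw X v) (r : X.R) : 2 ∣ (u - v) r := by
  have h1 := congrFun (X.τ_inj h) r
  rw [coch_apply, coch_apply, zpow_eq_zpow_iff_modEq, ord_neg hp] at h1
  exact h1.symm.dvd

theorem ev_of {u : X.R → ℤ} (h : ∀ r, 2 ∣ u r) : Ev X u := fun _ _ =>
  Finset.dvd_sum fun r _ => (h r).mul_left _

theorem rt_conj {t g : Y} (hg : g ∈ G) (h : RT X (g⁻¹ * t * g)) : RT X t := by
  obtain ⟨x, hx, a, ha, e⟩ := h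
  exact ⟨g * x, mul_mem hg hx, a, ha, by rw [← e]; group⟩

theorem rt_F {t : Y} (h : RT X t) (hp : p ≠ 2) : RT X (F t) := by
  obtain ⟨x, hx, a, ha, e⟩ := h
  refine ⟨F x, X.F_mem_G hx, X.g a, X.g_root a ha, ?_⟩
  have h1 : (-1 : kˣ) ^ p ^ X.ex a = -1 := (((Fact.out : p.Prime).odd_of_ne_two hp).pow).neg_one_pow
  rw [← map_inv, ← map_mul, ← map_mul, e, ct, ct, X.F_τ, mon_coch, X.Mx_cor ha, coch_zsmul, ← Nat.cast_pow,
    zpow_natCast, h1]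

theorem rt_iff (hp : p ≠ 2) (h : L8 X) (u : X.R → ℤ) : RT X (tw X u) ↔ Ns X u := by
  constructor
  · rintro ⟨g, hg, a, ha, e⟩
    obtain ⟨-, -, m, hm, h1, -⟩ := X.exists_conj_form (s := fun _ : Unit => ct X a (-1)) (t := fun _ => tw X u)
      (fun _ => ct_mem _ _) (fun _ => X.τ_mem _) hg (fun _ => by rw [← e]; group)
    have h2 : tw X u = tw X (X.cor (X.act (X.pr m) a)) := by
      rw [← mul_inv_eq_iff_eq_mul.2 (h1 ()), ct, X.conj_τ (X.rp_pr hm), mon_coch, X.cor_act _ ha]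
      rfl
    exact ⟨_, ha.act _, ev_of (even_of_tw hp h2)⟩
  · rintro ⟨a, ha, e⟩
    exact ⟨1, one_mem _, a, ha, by rw [inv_one, one_mul, mul_one]; exact tw_congr (h.ev _ e)⟩

theorem exists_two {A : Set Y} {z : Y} (hz : z ∈ Z0 X A) (h2 : z * z = 1) : ∃ v, Pp X (X.Sz A) v ∧ z = tw X v := by
  obtain ⟨v, ξ, h1, rfl⟩ := BT.exists_of_Z0 hz
  have h3 : ∀ j, (orderOf ξ : ℤ) ∣ 2 * v j := fun j => by
    have h4 : coch v ξ ^ 2 = 1 := X.τ_inj (by rw [map_pow, sq, h2, map_one])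
    rw [orderOf_dvd_iff_zpow_eq_one, mul_comm, _root_.zpow_mul]
    exact (zpow_natCast _ 2).trans (congrFun h4 j)
  obtain ⟨m, h4, h5, h6⟩ : ∃ m : ℕ, 0 < m ∧ orderOf ξ ∣ m * 2 ∧ ∀ j, (m : ℤ) ∣ v j := by
    have h0 := BT.ord_pos X ξ
    by_cases h : 2 ∣ orderOf ξ
    · obtain ⟨m, hm⟩ := h
      exact ⟨m, by omega, ⟨1, by omega⟩, fun j => Int.dvd_of_mul_dvd_mul_left (show (2 : ℤ) ≠ 0 by decide)
        (by exact_mod_cast hm ▸ h3 j)⟩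
    · exact ⟨_, h0, dvd_mul_right _ _, fun j => (Nat.isCoprime_iff_coprime.2
        (Nat.prime_two.coprime_iff_not_dvd.2 h).symm).dvd_of_dvd_mul_left (h3 j)⟩
  choose w hw using h6
  obtain rfl : v = (m : ℤ) • w := funext hw
  have h7 : (ξ ^ m) ^ 2 = 1 := by rw [← pow_mul, orderOf_dvd_iff_pow_eq_one.1 h5]
  have h8 : ξ ^ m = 1 ∨ ξ ^ m = -1 := by
    have h9 : ((ξ ^ m : kˣ) : k) * ((ξ ^ m : kˣ) : k) = 1 := by rw [← Units.val_mul, ← sq, h7, Units.val_one]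
    exact (mul_self_eq_one_iff.1 h9).imp Units.ext Units.ext
  rcases h8 with h8 | h8
  · refine ⟨0, fun b _ => dotProduct_zero _, ?_⟩
    rw [coch_zsmul, zpow_natCast, h8, map_one, map_one, tw_even (u := 0) fun _ => dvd_zero _]
  · refine ⟨w, fun b hb => ?_, ?_⟩
    · have h9 := h1 b hb
      rw [dotProduct_smul, smul_eq_zero] at h9
      exact h9.resolve_left (Int.natCast_ne_zero.2 h4.ne')
    · rw [coch_zsmul, zpow_natCast, h8, tw]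

/-- from a conjugate to a rational frame -/
theorem toral_of (hD : D ≤ GF F G) {g : Y} (hg : g ∈ G)
    (h : ∀ d ∈ D, g⁻¹ * d * g ∈ Z0 X ((fun d => g⁻¹ * d * g) '' D)) : Toral X D := by
  obtain ⟨y, hy, hN, -, h1⟩ := SB.Exc.Max.exists_conj_le_T X (Z := D) (fun z hz => (mem_GF.1 (hD hz)).2.symm ▸ hz) hg
    (fun z hz => Z0_le_T X _ (h z hz))
  have h0 : ∀ b : X.I → ℤ, X.Rt b → (∀ z ∈ D, (X.conj hy hN).χ b z = 1) →
      b ∈ X.Sz ((fun d => g⁻¹ * d * g) '' D) := by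
    intro b hb h2
    refine ⟨hb, ?_⟩
    rintro _ ⟨z, hz, rfl⟩
    have h5 := X.conj_χ hy hN b (Z0_le_T X _ (h z hz))
    have h6 : y * (g⁻¹ * z * g) * y⁻¹ = z := by
      rw [← h1 z hz]
      group
    rw [h6, h2 z hz] at h5
    exact h5.symm
  refine ⟨y, hy, hN, fun d hd => ?_⟩
  obtain ⟨v, ξ, h2, h3⟩ := BT.exists_of_Z0 (h d hd)
  have h4 : y * X.τ (coch v ξ) * y⁻¹ = d := by
    rw [← h3, ← h1 d hd]
    group
  exact subset_closure ⟨v, ξ, fun b hb => h2 b (h0 b hb.1 hb.2), h4.symm⟩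

theorem Hf.mono {A B : Set (X.I → ℤ)} (h : Hf X A) (hAB : A ⊆ B) : Hf X B := by
  obtain ⟨s, h1, h2, h3⟩ := h
  exact ⟨s, h1, fun a ha => hAB (h2 a ha), h3⟩

theorem ru_eq : Ru X (Uv X (Vr X D)) = Ps X D := Set.ext fun a =>
  ⟨fun h => ⟨h.1, (closure_le D).2 (by rintro _ ⟨b, hb, rfl⟩; exact hb.2) h.2⟩,
    fun h => ⟨h.1, subset_closure ⟨a, h, rfl⟩⟩⟩

theorem vr_le : Vr X D ≤ D := (closure_le D).2 (by rintro _ ⟨b, hb, rfl⟩; exact hb.2)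

theorem vr_T : Vr X D ≤ X.T := (closure_le _).2 (by rintro _ ⟨b, -, rfl⟩; exact ct_mem _ _)

theorem exists_tw {z : Y} (hz : z ∈ Vr X D) : ∃ u ∈ Uv X (Vr X D), z = tw X u := by
  have h : ∃ u, z = tw X u := by
    induction hz using closure_induction with
    | mem z hz => obtain ⟨a, -, rfl⟩ := hz; exact ⟨X.cor a, rfl⟩
    | one => exact ⟨0, (tw_even fun _ => dvd_zero _).symm⟩
    | mul x y _ _ h1 h2 => obtain ⟨u, rfl⟩ := h1; obtain ⟨v, rfl⟩ := h2; exact ⟨u + v, (tw_add u v).symm⟩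
    | inv x _ h1 =>
      obtain ⟨u, rfl⟩ := h1
      exact ⟨-u, by rw [tw, tw, coch_neg, map_inv]⟩
  obtain ⟨u, rfl⟩ := h
  exact ⟨u, hz, rfl⟩

theorem vr_sq {z : Y} (hz : z ∈ Vr X D) : z * z = 1 := by
  obtain ⟨u, -, rfl⟩ := exists_tw hz
  rw [← tw_add]
  exact tw_even fun r => ⟨u r, by rw [Pi.add_apply, two_mul]⟩

variable (X D) in
/-- the roots of the Levi subgroup -/
abbrev Ph : Set (X.I → ℤ) := Pe X (Ps X D)

variable (X D) in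
/-- the centre of the Levi subgroup -/
abbrev Sq0 : Subgroup Y := Zc X (Ph X D)

variable (X D) in
/-- the Levi subgroup -/
abbrev Lv : Subgroup Y := Lp X (Ps X D)

theorem vr_S : Vr X D ≤ Sq0 X D := (closure_le _).2 (by
  rintro _ ⟨a, ha, rfl⟩
  refine ⟨ct_mem _ _, fun b hb => ?_⟩
  rw [TO.X5.χ_ct ha.1, hb.2 a ha, zpow_zero, Units.val_one])

theorem S_L : Sq0 X D ≤ Lv X D := fun _ h => mem_sup_left h.1

theorem S_comm {s l : Y} (hs : s ∈ Sq0 X D) (hl : l ∈ Lv X D) : s * l = l * s :=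
  X.cen_le_centralizer (Z := Sq0 X D) (fun _ h => h.1)
    (Ev.Lp_le_cen (fun b hb => ⟨hb.1, fun _ hz => hz.2 b hb⟩) hl) s hs

theorem S_conj {s l : Y} (hs : s ∈ Sq0 X D) (hl : l ∈ Lv X D) : l⁻¹ * s * l = s := by
  rw [mul_assoc, S_comm hs hl, inv_mul_cancel_left]

theorem mem_S {s : Y} (hs : s ∈ G) (h : ∀ l ∈ Lv X D, s * l = l * s) : s ∈ Sq0 X D := by
  have h1 : s ∈ X.T := X.centralizer_T.le ⟨hs, fun t ht => (h t (mem_sup_left ht)).symm⟩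
  refine ⟨h1, fun a ha => χ_of_comm ha.1 h1 (h _ (mem_sup_right ?_)).symm⟩
  exact RGD.le_Sup ha (X.x_mem ha.1 1)

variable (X D C Γ) in
/-- the hypotheses -/
structure Hy : Prop where
  hp : p ≠ 2
  l8 : L8 X
  lz : Lz (GF F G) ⊥ D C Γ
  ad : Ad X D
  d4 : D4c X (Uv X (Vr X D))
  lv : Lvs X (Ph X D)

namespace Hy

variable (H : Hy X D C Γ)
include H

theorem DH : D ≤ GF F G := H.lz.DC.trans (H.lz.CΓ.trans H.lz.le)

theorem fix {d : Y} (hd : d ∈ D) : F d = d := (mem_GF.1 (H.DH hd)).2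

theorem cen {x d : Y} (hx : x ∈ C) (hd : d ∈ D) : x * d * x⁻¹ = d :=
  mul_inv_eq_one.1 (mem_bot.1 (((H.lz.mem x).1 hx).2 d hd))

theorem ab {x d : Y} (hx : x ∈ D) (hd : d ∈ D) : x * d = d * x := mul_inv_eq_iff_eq_mul.1 (H.cen (H.lz.DC hx) hd)

theorem fin : (D : Set Y).Finite := by
  have := H.lz.fin
  exact (Set.toFinite (GF F G : Set Y)).subset H.DH

theorem el {d : Y} (hd : d ∈ D) : ∃ j : ℕ, d ^ 2 ^ j = 1 := by
  obtain ⟨j, hj⟩ := H.lz.pg ⟨d, hd⟩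
  exact ⟨j, congrArg Subtype.val hj⟩

theorem sz : X.Sz (Vr X D) = Ph X D := by
  ext b
  constructor
  · intro hb
    have h := H.d4.sz b hb.1 fun u hu => by
      have h1 := (χ_exp X b u (-1)).1 (hb.2 _ hu)
      rwa [ord_neg H.hp] at h1
    rwa [ru_eq] at h
  · exact fun hb => ⟨hb.1, fun z hz => (vr_S hz).2 b hb⟩

theorem cenV : X.cen (Vr X D) = Lv X D := by rw [Datum.cen, H.sz, Lv, Lp]

theorem sz_ins (t : Y) : X.Sz (insert t (Vr X D : Set Y)) = Ph X D ∩ X.Sz {t} := by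
  rw [← H.sz]
  ext b
  exact ⟨fun h => ⟨⟨h.1, fun z hz => h.2 z (Or.inr hz)⟩, h.1, fun z hz => h.2 z (Or.inl hz)⟩,
    fun h => ⟨h.1.1, fun z hz => hz.elim (h.2.2 z) (h.1.2 z)⟩⟩

theorem cen_ins (t : Y) : X.cen (insert t (Vr X D : Set Y)) = X.T ⊔ X.S (Ph X D ∩ X.Sz {t}) := by
  rw [Datum.cen, H.sz_ins]

theorem DL : D ≤ Lv X D := by
  obtain ⟨c, hc, h1, h2⟩ := H.ad.le
  intro d hd
  have h3 : c ∈ centralizer (Vr X D : Set Y) := by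
    have : Vr X D ≤ centralizer {c} := (closure_le _).2 (by
      rintro _ ⟨a, ha, rfl⟩
      exact mem_centralizer_singleton_iff.2 (h1 a ha).symm)
    exact fun v hv => mem_centralizer_singleton_iff.1 (this hv)
  have h4 := X.conj_mem_cen vr_T hc h3 (H.cenV.ge (h2 d hd))
  rwa [H.cenV, show c * (c⁻¹ * d * c) * c⁻¹ = d by group] at h4

theorem map_L {β : MulAut Y} (hG : ∀ y, β y ∈ G ↔ y ∈ G) (hV : ∀ y, β y ∈ Vr X D ↔ y ∈ Vr X D) (y : Y) :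
    β y ∈ Lv X D ↔ y ∈ Lv X D := by
  have h1 : (G ⊓ centralizer (Vr X D : Set Y)).map β.toMonoidHom = G ⊓ centralizer (Vr X D : Set Y) := by
    ext z
    obtain ⟨z, rfl⟩ := β.surjective z
    refine (mem_map_iff_mem (f := β.toMonoidHom) β.injective).trans (and_congr (hG z).symm ?_)
    show z ∈ centralizer _ ↔ β z ∈ centralizer _
    constructor
    · intro h v hv
      obtain ⟨v, rfl⟩ := β.surjective v
      rw [← map_mul, ← map_mul, h v ((hV v).1 hv)]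
    · intro h v hv
      exact β.injective (by rw [map_mul, map_mul]; exact h _ ((hV v).2 hv))
  have h2 : (Lv X D).map β.toMonoidHom = Lv X D := by
    rw [← H.cenV, ← X.conn_eq_cen vr_T, CF.map_conn, h1]
  conv_lhs => rw [← h2]
  exact mem_map_iff_mem (f := β.toMonoidHom) β.injective

theorem map_S {β : MulAut Y} (hG : ∀ y, β y ∈ G ↔ y ∈ G) (hV : ∀ y, β y ∈ Vr X D ↔ y ∈ Vr X D) {s : Y}
    (hs : s ∈ Sq0 X D) : β s ∈ Sq0 X D := by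
  refine mem_S ((hG s).2 (X.T_le_G hs.1)) fun l hl => ?_
  obtain ⟨l, rfl⟩ := β.surjective l
  rw [← map_mul, ← map_mul, S_comm hs ((H.map_L hG hV l).1 hl)]

theorem F_V (y : Y) : F y ∈ Vr X D ↔ y ∈ Vr X D :=
  ⟨fun h => by rwa [F.injective (H.fix (vr_le h))] at h, fun h => by rwa [H.fix (vr_le h)]⟩

theorem conj_V0 {x y : Y} (hx : x ∈ Γ) (hy : y ∈ Vr X D) : x * y * x⁻¹ ∈ Vr X D := by
  have : Vr X D ≤ (Vr X D).comap (MulAut.conj x).toMonoidHom := (closure_le _).2 (by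
    rintro _ ⟨a, ha, rfl⟩
    have h1 := H.lz.iv x hx _ ha.2
    obtain ⟨a', h2, h3⟩ := H.ad.rt _ h1 ⟨x, (mem_GF.1 (H.lz.le hx)).1, a, ha.1, by group⟩
    exact subset_closure ⟨a', ⟨h2, h3 ▸ h1⟩, h3.symm⟩)
  exact this hy

theorem conj_V {x : Y} (hx : x ∈ Γ) (y : Y) : MulAut.conj x y ∈ Vr X D ↔ y ∈ Vr X D :=
  ⟨fun h => by simpa [mul_assoc] using H.conj_V0 (inv_mem hx) h, H.conj_V0 hx⟩

theorem conj_G {x : Y} (hx : x ∈ Γ) (y : Y) : MulAut.conj x y ∈ G ↔ y ∈ G :=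
  (mul_mem_cancel_right (inv_mem (mem_GF.1 (H.lz.le hx)).1)).trans (mul_mem_cancel_left (mem_GF.1 (H.lz.le hx)).1)

theorem F_S {s : Y} (hs : s ∈ Sq0 X D) : F s ∈ Sq0 X D := H.map_S X.F_mem_G_iff H.F_V hs

theorem conj_S {x s : Y} (hx : x ∈ Γ) (hs : s ∈ Sq0 X D) : x * s * x⁻¹ ∈ Sq0 X D :=
  H.map_S (H.conj_G hx) (H.conj_V hx) hs

theorem conj_L {x l : Y} (hx : x ∈ Γ) (hl : l ∈ Lv X D) : x * l * x⁻¹ ∈ Lv X D :=
  (H.map_L (H.conj_G hx) (H.conj_V hx) l).2 hl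

theorem mem_Z0' {z : Y} (hz : z ∈ Sq0 X D) {j : ℕ} (h : z ^ 2 ^ j = 1) : z ∈ Z0 X (Vr X D) := by
  have h1 : X.Sz (insert z (Vr X D : Set Y)) = Ph X D := by
    rw [H.sz_ins, Set.inter_eq_left]
    exact fun b hb => ⟨hb.1, fun _ e => e ▸ hz.2 b hb⟩
  refine Z0_mono (h1.trans H.sz.symm).ge (H.l8.zcs.le Nat.prime_two H.hp.symm (Z := insert z (Vr X D : Set Y))
    (fun t ht => ht.elim (fun e => e ▸ hz.1) fun h => vr_T h)
    (fun t ht => ht.elim (fun e => ⟨j, e ▸ h⟩) fun h => H.el (vr_le h)) ?_ (Or.inl rfl))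
  unfold QC
  rw [h1]
  exact H.lv

theorem inv {z : Y} (hz : z ∈ Sq0 X D) (h : z * z = 1) : z ∈ Vr X D := by
  obtain ⟨v, h1, rfl⟩ := exists_two (H.mem_Z0' hz (j := 1) (by rw [pow_one, sq, h])) h
  rw [H.sz] at h1
  have h2 := H.d4.pp v
  rw [ru_eq] at h2
  exact h2 h1

theorem tri {t : Y} (ht : t ∈ X.T) {j : ℕ} (h : t ^ 2 ^ j = 1) : t ∈ Sq0 X D ∨ ¬ Hf X (Ph X D ∩ X.Sz {t}) ∨
    ∃ c ∈ Ph X D, t * ct X c (-1) ∈ Sq0 X D := by
  obtain ⟨ζ, u, -, h3, rfl⟩ := exists_exp X ht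
  obtain ⟨i, -, hi⟩ := (Nat.dvd_prime_pow Nat.prime_two).1 (h3.trans (orderOf_dvd_of_pow_eq_one h))
  have hi' : (orderOf ζ : ℤ) = 2 ^ i := by rw [hi]; simp
  have h4 := H.d4.tri i u
  rw [ru_eq, ← hi'] at h4
  rcases h4 with h4 | h4 | ⟨c, hc, i', rfl, h4⟩
  · exact Or.inl ⟨ht, fun b hb => (χ_exp X b u ζ).2 (h4 hb).2⟩
  · rw [← Sz_exp, Set.inter_comm] at h4
    exact Or.inr (Or.inl h4)
  · refine Or.inr (Or.inr ⟨c, hc, mul_mem ht (ct_mem _ _), fun b hb => ?_⟩)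
    have h5 : ζ ^ 2 ^ i' = -1 := by
      have h6 : orderOf (ζ ^ 2 ^ i') = 2 := by
        rw [orderOf_pow' _ (by positivity), hi, Nat.gcd_eq_right (pow_dvd_pow _ (Nat.le_succ _)), pow_succ,
          Nat.mul_div_cancel_left _ (by positivity)]
      have h7 : ((ζ ^ 2 ^ i' : kˣ) : k) * ((ζ ^ 2 ^ i' : kˣ) : k) = 1 := by
        rw [← Units.val_mul, ← sq, orderOf_dvd_iff_pow_eq_one.1 h6.dvd, Units.val_one]
      refine Units.ext ((mul_self_eq_one_iff.1 h7).resolve_left fun e => ?_)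
      rw [Units.val_eq_one.1 e, orderOf_one] at h6
      exact absurd h6 (by decide)
    have h8 := (χ_exp X b _ ζ).2 (h4 hb).2
    rwa [coch_add, map_mul, coch_zsmul, show ((2 : ℤ) ^ i') = ((2 ^ i' : ℕ) : ℤ) by simp, zpow_natCast, h5] at h8

theorem two {s s' m m' : Y} (hs : s ∈ Sq0 X D) (hs' : s' ∈ Sq0 X D) (hm : m ∈ Lv X D) (h1 : m * m = 1)
    (h2 : m' * m' = 1) (e : s * m = s' * m') : s'⁻¹ * s ∈ Vr X D := by
  have h3 := mul_mem (inv_mem hs') hs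
  refine H.inv h3 ?_
  have h4 : m' = s'⁻¹ * s * m := by rw [mul_assoc, e, inv_mul_cancel_left]
  rwa [h4, mul_assoc, ← mul_assoc m, ← S_comm h3 hm, mul_assoc _ m, h1, mul_one] at h2

end Hy

variable (X D) in
/-- `z` is the defect of rationality of `d` -/
def Dl (d z : Y) : Prop := ∃ s ∈ Sq0 X D, ∃ m ∈ Lv X D, m * m = 1 ∧ d = s * m ∧ z = s * (F s)⁻¹

variable (X D) in
/-- the special decomposition -/
def Dec (d : Y) : Prop := ∃ s ∈ Sq0 X D, ∃ m ∈ Lv X D, m * m = 1 ∧ d = s * m ∧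
  (m = 1 ∨ ∃ g ∈ Lv X D, ∃ c ∈ Ph X D, g⁻¹ * m * g = ct X c (-1))

namespace Hy

variable (H : Hy X D C Γ)
include H

theorem uniq {d z z' : Y} (h : Dl X D d z) (h' : Dl X D d z') : z = z' := by
  obtain ⟨s, hs, m, hm, h1, e, rfl⟩ := h
  obtain ⟨s', hs', m', -, h2, e', rfl⟩ := h'
  have h3 := H.two hs hs' hm h1 h2 (e.symm.trans e')
  have h4 := H.fix (vr_le h3)
  have h5 : s = s' * (s'⁻¹ * s) := by group
  rw [h5, map_mul, h4]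
  group

theorem mul {d d' z z' : Y} (hc : d * d' = d' * d) (h : Dl X D d z) (h' : Dl X D d' z') :
    Dl X D (d * d') (z * z') := by
  obtain ⟨s, hs, m, hm, h1, rfl, rfl⟩ := h
  obtain ⟨s', hs', m', hm', h2, rfl, rfl⟩ := h'
  have e1 : s * m * (s' * m') = s * s' * (m * m') := by
    rw [mul_assoc, ← mul_assoc m, ← S_comm hs' hm]; group
  have e2 : s' * m' * (s * m) = s * s' * (m' * m) := by
    rw [mul_assoc, ← mul_assoc m', ← S_comm hs hm', S_comm hs (S_L hs')]; group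
  have e3 : m * m' = m' * m := mul_left_cancel (e1.symm.trans (hc.trans e2))
  refine ⟨_, mul_mem hs hs', _, mul_mem hm hm', ?_, e1, ?_⟩
  · rw [mul_assoc, ← mul_assoc m', ← e3, mul_assoc m m', h2, mul_one, h1]
  · rw [map_mul, _root_.mul_inv_rev, mul_assoc s, S_comm (inv_mem (H.F_S hs))
      (S_L (mul_mem hs' (inv_mem (H.F_S hs'))))]
    group

theorem conj {d z x : Y} (hx : x ∈ Γ) (h : Dl X D d z) : Dl X D (x * d * x⁻¹) (x * z * x⁻¹) := by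
  obtain ⟨s, hs, m, hm, h1, rfl, rfl⟩ := h
  refine ⟨_, H.conj_S hx hs, _, H.conj_L hx hm, ?_, by group, ?_⟩
  · rw [show x * m * x⁻¹ * (x * m * x⁻¹) = x * (m * m) * x⁻¹ by group, h1, mul_one, mul_inv_cancel]
  · rw [map_mul, map_mul, map_inv, (mem_GF.1 (H.lz.le hx)).2]
    group

theorem of_S {d : Y} (hd : d ∈ D) (h : d ∈ Sq0 X D) : Dl X D d 1 :=
  ⟨d, h, 1, one_mem _, one_mul _, (mul_one _).symm, by rw [H.fix hd, mul_inv_cancel]⟩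

theorem val {d : Y} (hd : d ∈ D) (h : Dec X D d) : ∃ z ∈ Vr X D, ¬ RT X z ∧ Dl X D d z := by
  obtain ⟨s, hs, m, hm, h1, e, h2⟩ := h
  have h3 := mul_mem hs (inv_mem (H.F_S hs))
  have h4 : F m = s * (F s)⁻¹ * m := by
    have h5 := H.fix hd
    rw [e, map_mul] at h5
    rw [← S_comm (inv_mem (H.F_S hs)) (S_L hs), mul_assoc, ← h5, inv_mul_cancel_left]
  have h5 : s * (F s)⁻¹ ∈ Vr X D := by
    have h6 := H.two h3 (one_mem _) hm h1 (m' := F m) (by rw [← map_mul, h1, map_one]) (by rw [one_mul, h4])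
    rwa [inv_one, one_mul] at h6
  refine ⟨_, h5, ?_, s, hs, m, hm, h1, e, rfl⟩
  obtain ⟨u, hu, h6⟩ := exists_tw h5
  rw [h6, rt_iff H.hp H.l8]
  rcases h2 with rfl | ⟨g, hg, c, hc, h2⟩
  · rw [map_one, mul_one, h6] at h4
    rintro ⟨a, ha, h7⟩
    refine H.l8.nz a ha (ev_of fun r => ?_)
    have h8 := H.l8.ev _ h7 r
    have h9 := even_of_tw H.hp (h4.symm.trans (tw_even (u := 0) fun _ => dvd_zero _).symm) r
    simp only [Pi.sub_apply, Pi.zero_apply] at h8 h9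
    omega
  · have h7 : RT X (F m) := rt_F ⟨g, Ev.Lp_le_G hg, c, hc.1, h2⟩ H.hp
    have h8 : RT X (tw X (X.cor c + u)) := by
      refine rt_conj (inv_mem (Ev.Lp_le_G hg)) ?_
      have h9 : g⁻¹ * F m * g = tw X (X.cor c + u) := by
        rw [add_comm, tw_add, ← h6, h4, show tw X (X.cor c) = ct X c (-1) from rfl, ← h2]
        conv_rhs => rw [← S_conj h3 hg]
        group
      rwa [← h9, show g⁻¹⁻¹ * (g⁻¹ * F m * g) * g⁻¹ = F m by group]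
    exact (H.d4.ns c (ru_eq (X := X) (D := D) ▸ hc) u hu).1 ((rt_iff H.hp H.l8 _).1 h8)

theorem ker {d : Y} (hd : d ∈ D) (h : Dec X D d) (h0 : Dl X D d 1) : d ∈ Sq0 X D := by
  obtain ⟨s, hs, m, hm, h1, e, h2⟩ := h
  have h3 : s * (F s)⁻¹ = 1 := H.uniq ⟨s, hs, m, hm, h1, e, rfl⟩ h0
  rcases h2 with rfl | ⟨g, hg, c, hc, h2⟩
  · rwa [e, mul_one]
  have h4 : F m = m := by
    have h5 := H.fix hd
    rw [e, map_mul, ← mul_inv_eq_one.1 h3] at h5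
    exact mul_left_cancel h5
  have hmi : m⁻¹ = m := inv_eq_of_mul_eq_one_right h1
  have hv : ∀ v ∈ Vr X D, v * m = m * v := fun v hv => S_comm (vr_S hv) hm
  let W : Subgroup Y :=
    { carrier := {w | w ∈ Vr X D ∨ m * w ∈ Vr X D}
      one_mem' := Or.inl (one_mem _)
      mul_mem' := by
        rintro a b (ha | ha) (hb | hb)
        · exact Or.inl (mul_mem ha hb)
        · right
          rw [← mul_assoc, ← hv a ha, mul_assoc]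
          exact mul_mem ha hb
        · right
          rw [← mul_assoc]
          exact mul_mem ha hb
        · left
          have h5 := mul_mem ha hb
          rwa [← mul_assoc, hv _ ha, ← mul_assoc, h1, one_mul] at h5
      inv_mem' := by
        rintro a (ha | ha)
        · exact Or.inl (inv_mem ha)
        · right
          have h5 := inv_mem ha
          have h6 := hv _ h5
          rw [_root_.mul_inv_rev, hmi] at h5 h6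
          rw [mul_assoc, h1, mul_one] at h6
          rwa [h6, ← mul_assoc, h1, one_mul] }
  have hW : ∀ w ∈ W, w ∈ Vr X D ∨ ∃ v ∈ Vr X D, w = m * v := fun w hw =>
    hw.imp_right fun h => ⟨_, h, by rw [← mul_assoc, h1, one_mul]⟩
  have h5 : W ≤ D := by
    refine H.lz.core W (fun w hw => ?_) (fun w => ⟨1, Subtype.ext ?_⟩) fun x hx w hw => ?_
    · rcases hW w hw with h | ⟨v, h, rfl⟩
      · exact H.DH (vr_le h)
      · exact mul_mem (mem_GF.2 ⟨Ev.Lp_le_G hm, h4⟩) (H.DH (vr_le h))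
    · show (w : Y) ^ 2 ^ 1 = 1
      rw [pow_one, sq]
      rcases hW w w.2 with h | ⟨v, h, e⟩
      · exact vr_sq h
      · rw [e, mul_assoc, ← mul_assoc v, hv v h, mul_assoc, vr_sq h, mul_one, h1]
    · rcases hW w hw with h | ⟨v, h, rfl⟩
      · rw [H.cen hx (vr_le h)]
        exact Or.inl h
      · right
        have h6 := H.conj_S (H.lz.CΓ hx) hs
        have h7 : s * m = x * s * x⁻¹ * (x * m * x⁻¹) := by rw [← e, ← H.cen hx hd, e]; group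
        have h8 := H.two hs h6 hm h1 (by
          rw [show x * m * x⁻¹ * (x * m * x⁻¹) = x * (m * m) * x⁻¹ by group, h1, mul_one, mul_inv_cancel]) h7
        have h9 : x * m * x⁻¹ = (x * s * x⁻¹)⁻¹ * s * m := by rw [mul_assoc _ s, h7, inv_mul_cancel_left]
        rw [show x * (m * v) * x⁻¹ = x * m * x⁻¹ * (x * v * x⁻¹) by group, H.cen hx (vr_le h), h9, hv _ h8,
          ← mul_assoc, ← mul_assoc, h1, one_mul]
        exact mul_mem h8 h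
  have h6 : m ∈ D := h5 (Or.inr (h1 ▸ one_mem _))
  obtain ⟨a, ha, h7⟩ := H.ad.rt m h6 ⟨g, Ev.Lp_le_G hg, c, hc.1, h2⟩
  rw [e]
  exact mul_mem hs (vr_S (subset_closure ⟨a, ⟨ha, h7 ▸ h6⟩, h7.symm⟩))

theorem four {z z₁ z₂ : Y} (h : z ∈ Vr X D) (h' : ¬ RT X z) (h1 : z₁ ∈ Vr X D) (h1' : ¬ RT X z₁) (h2 : z₂ ∈ Vr X D)
    (h2' : ¬ RT X z₂) (n1 : z₁ ≠ 1) (n2 : z₂ ≠ 1) (n3 : z₁ * z₂ ≠ 1) :
    z = 1 ∨ z * z₁ = 1 ∨ z * z₂ = 1 ∨ z * (z₁ * z₂) = 1 := by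
  obtain ⟨r₁, -, r₂, -, hr⟩ := H.d4.rad
  have key : ∀ y ∈ Vr X D, ¬ RT X y → ∃ i j : ℤ, y = tw X (i • r₁ + j • r₂) := by
    intro y hy hn
    obtain ⟨u, hu, rfl⟩ := exists_tw hy
    rw [rt_iff H.hp H.l8] at hn
    rcases (hr u hu).1 hn with e | e | e | e
    · exact ⟨0, 0, tw_congr (H.l8.ev _ (by simpa using e))⟩
    · exact ⟨1, 0, tw_congr (H.l8.ev _ (by simpa using e))⟩
    · exact ⟨0, 1, tw_congr (H.l8.ev _ (by simpa using e))⟩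
    · exact ⟨1, 1, tw_congr (H.l8.ev _ (by simpa [sub_sub] using e))⟩
  have add : ∀ i j i' j' : ℤ, tw X (i • r₁ + j • r₂) * tw X (i' • r₁ + j' • r₂) =
      tw X ((i + i') • r₁ + (j + j') • r₂) := fun i j i' j' => by
    rw [← tw_add, add_smul, add_smul, add_add_add_comm]
  have ev : ∀ i j : ℤ, 2 ∣ i → 2 ∣ j → tw X (i • r₁ + j • r₂) = 1 := fun i j hi hj =>
    tw_even fun r => dvd_add (hi.mul_right _) (hj.mul_right _)
  obtain ⟨i, j, rfl⟩ := key z h h'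
  obtain ⟨i₁, j₁, rfl⟩ := key z₁ h1 h1'
  obtain ⟨i₂, j₂, rfl⟩ := key z₂ h2 h2'
  rw [add] at n3
  rw [add, add, add, add]
  have m1 : ¬ (2 ∣ i₁ ∧ 2 ∣ j₁) := fun e => n1 (ev _ _ e.1 e.2)
  have m2 : ¬ (2 ∣ i₂ ∧ 2 ∣ j₂) := fun e => n2 (ev _ _ e.1 e.2)
  have m3 : ¬ (2 ∣ i₁ + i₂ ∧ 2 ∣ j₁ + j₂) := fun e => n3 (ev _ _ e.1 e.2)
  have m4 : (2 ∣ i ∧ 2 ∣ j) ∨ (2 ∣ i + i₁ ∧ 2 ∣ j + j₁) ∨ (2 ∣ i + i₂ ∧ 2 ∣ j + j₂) ∨
      (2 ∣ i + (i₁ + i₂) ∧ 2 ∣ j + (j₁ + j₂)) := by omega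
  exact m4.imp (fun e => ev _ _ e.1 e.2) fun m => m.imp (fun e => ev _ _ e.1 e.2) fun m =>
    m.imp (fun e => ev _ _ e.1 e.2) fun e => ev _ _ e.1 e.2

theorem tor1 {t d : Y} (ht : t ∈ X.T) (hd : d ∈ X.T ⊔ X.S (Ph X D ∩ X.Sz {t})) {j : ℕ} (h : d ^ 2 ^ j = 1) :
    ∃ g ∈ Lv X D, g⁻¹ * t * g = t ∧ g⁻¹ * d * g ∈ X.T := by
  have h1 : insert t (Vr X D : Set Y) ⊆ X.T := fun z hz => hz.elim (fun e => e ▸ ht) fun h => vr_T h
  obtain ⟨g, hg, h2⟩ := toral_cen h1 ((H.fin.subset vr_le).insert t) ((H.cen_ins t).ge hd)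
    (not_dvd_ord Nat.prime_two H.hp.symm h)
  refine ⟨g, H.cenV.le (X.cen_anti (Set.subset_insert _ _) hg), ?_, h2⟩
  rw [mul_assoc, X.cen_le_centralizer h1 hg t (Or.inl rfl), inv_mul_cancel_left]

theorem sat (hS : BoxSat) {g : Y} (hg : g ∈ Lv X D) (h : ∀ d ∈ D, g⁻¹ * d * g ∈ X.T)
    (h0 : ¬ Hf X (X.Sz ((fun d => g⁻¹ * d * g) '' D))) : Toral X D :=
  toral_of H.DH (Ev.Lp_le_G hg) fun d hd => hS X H.hp H.l8.sl _ (by rintro _ ⟨z, hz, rfl⟩; exact h z hz)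
    (by rintro _ ⟨z, hz, rfl⟩; exact (H.el hz).imp fun _ => Ev.conj_pow') h0 ⟨d, hd, rfl⟩

theorem sz_sub {g : Y} (hg : g ∈ Lv X D) : X.Sz ((fun d => g⁻¹ * d * g) '' D) ⊆ Ph X D := fun _ hb =>
  H.sz.le ⟨hb.1, fun z hz => hb.2 z ⟨z, vr_le hz, S_conj (vr_S hz) hg⟩⟩

end Hy

end D4

open D4 in
/-- **[D4]** -/
theorem boxD4_of (hS : BoxSat) (hT : BoxTA) : BoxD4 := by
  intro p _ k _ _ Y _ N _ _ ρ F G _ X hp l8 D C Γ b lz ad d4 hb hfp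
  obtain ⟨T1, T2⟩ := hT X hp l8.toLS
  have H : Hy X D C Γ := ⟨hp, l8, lz, ad, d4, T1 _ fun _ h => h.1⟩
  obtain ⟨A1, A2, -⟩ := T2 (Ph X D) (fun _ h => h.1) H.lv
  have cL : ∀ {g d : Y}, g ∈ D4.Lv X D → d ∈ D → g⁻¹ * d * g ∈ D4.Lv X D := fun hg hd =>
    mul_mem (mul_mem (inv_mem hg) (H.DL hd)) hg
  by_cases h2 : ∃ d ∈ D, ∃ g ∈ D4.Lv X D, g⁻¹ * d * g ∈ X.T ∧ ¬ Hf X (Ph X D ∩ X.Sz {g⁻¹ * d * g})
  · obtain ⟨d, hd, g, hg, ht, hn⟩ := h2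
    obtain ⟨j, hj⟩ := H.el hd
    obtain ⟨-, -, A3⟩ := T2 (Ph X D ∩ X.Sz {g⁻¹ * d * g}) (fun _ h => h.1.1)
      (A2 _ ht (fun z hz => ⟨j, hz ▸ Ev.conj_pow' hj⟩) hn)
    obtain ⟨g', hg', h3⟩ := A3 hn ((fun d => g⁻¹ * d * g) '' D) (H.fin.image _)
      (by rintro _ ⟨z, hz, rfl⟩; exact A1 _ (cL hg hz) _ ht (Ev.conj_comm (H.ab hd hz)))
      (by rintro _ ⟨z, hz, rfl⟩; exact (H.el hz).imp fun _ => Ev.conj_pow')
      (by rintro _ ⟨z, hz, rfl⟩ _ ⟨z', hz', rfl⟩; exact Ev.conj_comm (H.ab hz hz'))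
    have h1 : insert (g⁻¹ * d * g) (Vr X D : Set Y) ⊆ X.T := fun z hz => hz.elim (fun e => e ▸ ht) fun h => vr_T h
    rw [← H.cen_ins] at hg'
    have h4 : g * g' ∈ D4.Lv X D := mul_mem hg (H.cenV.le (X.cen_anti (Set.subset_insert _ _) hg'))
    refine H.sat hS h4 (fun z hz => ?_) fun h => hn (Hf.mono h fun a ha => ⟨H.sz_sub h4 ha, ha.1, fun z hz => ?_⟩)
    · have h5 := h3 _ ⟨z, hz, rfl⟩
      rwa [show (g * g')⁻¹ * z * (g * g') = g'⁻¹ * (g⁻¹ * z * g) * g' by group]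
    · refine ha.2 z ⟨d, hd, ?_⟩
      show (g * g')⁻¹ * d * (g * g') = z
      rw [show (g * g')⁻¹ * d * (g * g') = g'⁻¹ * (g⁻¹ * d * g * g') by group,
        X.cen_le_centralizer h1 hg' _ (Or.inl rfl), inv_mul_cancel_left, hz]
  push Not at h2
  have back : ∀ {g d : Y}, g ∈ D4.Lv X D → g⁻¹ * d * g ∈ Sq0 X D → d ∈ Sq0 X D := fun {g d} hg h => by
    have h1 := S_conj h (inv_mem hg)
    rw [show g⁻¹⁻¹ * (g⁻¹ * d * g) * g⁻¹ = d by group] at h1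
    rwa [h1]
  have tri : ∀ d ∈ D, ∀ g ∈ D4.Lv X D, g⁻¹ * d * g ∈ X.T →
      d ∈ Sq0 X D ∨ ∃ c ∈ Ph X D, g⁻¹ * d * g * ct X c (-1) ∈ Sq0 X D := fun d hd g hg ht => by
    obtain ⟨j, hj⟩ := H.el hd
    rcases H.tri ht (Ev.conj_pow' hj) with h | h | h
    · exact Or.inl (back hg h)
    · exact absurd (h2 d hd g hg ht) h
    · exact Or.inr h
  have tor : ∀ d ∈ D, ∃ g ∈ D4.Lv X D, g⁻¹ * d * g ∈ X.T := fun d hd => by
    obtain ⟨j, hj⟩ := H.el hd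
    obtain ⟨g, hg, h⟩ := toral_cen vr_T (H.fin.subset vr_le) (H.cenV.ge (H.DL hd))
      (not_dvd_ord Nat.prime_two hp.symm hj)
    exact ⟨g, H.cenV.le hg, h⟩
  have dec : ∀ d ∈ D, Dec X D d := fun d hd => by
    obtain ⟨g, hg, ht⟩ := tor d hd
    rcases tri d hd g hg ht with h | ⟨c, hc, h⟩
    · exact ⟨d, h, 1, one_mem _, one_mul _, (mul_one _).symm, Or.inl rfl⟩
    · refine ⟨_, h, g * ct X c (-1) * g⁻¹, mul_mem (mul_mem hg (mem_sup_left (ct_mem _ _))) (inv_mem hg), ?_, ?_,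
        Or.inr ⟨g, hg, c, hc, by group⟩⟩
      · rw [show g * ct X c (-1) * g⁻¹ * (g * ct X c (-1) * g⁻¹) = g * (ct X c (-1) * ct X c (-1)) * g⁻¹ by group,
          ct_sq, mul_one, mul_inv_cancel]
      · rw [← S_conj h (inv_mem hg), show g⁻¹⁻¹ * (g⁻¹ * d * g * ct X c (-1)) * g⁻¹ * (g * ct X c (-1) * g⁻¹) =
          d * g * (ct X c (-1) * ct X c (-1)) * g⁻¹ by group, ct_sq, mul_one, mul_inv_cancel_right]
  by_cases h3 : D ≤ Sq0 X D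
  · refine toral_of H.DH (one_mem _) fun d hd => ?_
    obtain ⟨j, hj⟩ := H.el hd
    refine Z0_mono ((H.sz_sub (one_mem _)).trans H.sz.ge) ?_
    rw [inv_one, one_mul, mul_one]
    exact H.mem_Z0' (h3 hd) hj
  obtain ⟨d₁, hd₁, n₁⟩ := SetLike.not_le_iff_exists.1 h3
  obtain ⟨z₁, v₁, r₁, l₁⟩ := H.val hd₁ (dec _ hd₁)
  have hd₂ := lz.iv b hb d₁ hd₁
  obtain ⟨z₂, v₂, r₂, l₂⟩ := H.val hd₂ (dec _ hd₂)
  have e₂ : z₂ = b * z₁ * b⁻¹ := H.uniq l₂ (H.conj hb l₁)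
  set d₂ := b * d₁ * b⁻¹
  have m₁ : z₁ ≠ 1 := fun e => n₁ (H.ker hd₁ (dec _ hd₁) (e ▸ l₁))
  have m₂ : z₂ ≠ 1 := fun e => m₁ (by
    rw [e₂, mul_inv_eq_one, mul_eq_left] at e
    exact e)
  have m₃ : z₁ * z₂ ≠ 1 := fun e => m₁ (hfp z₁ v₁ r₁ (by
    rw [← e₂]
    exact mul_left_cancel (e.trans (vr_sq v₁).symm)))
  have n₂ : d₂ ∉ Sq0 X D := fun h => m₂ (H.uniq l₂ (H.of_S hd₂ h))
  have l₃ := H.mul (H.ab hd₁ hd₂) l₁ l₂
  have n₃ : d₁ * d₂ ∉ Sq0 X D := fun h => m₃ (H.uniq l₃ (H.of_S (mul_mem hd₁ hd₂) h))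
  obtain ⟨g₁, hg₁, ht₁⟩ := tor d₁ hd₁
  obtain ⟨j, hj⟩ := H.el hd₂
  obtain ⟨g₂, hg₂, k₁, k₂⟩ := H.tor1 ht₁ (A1 _ (cL hg₁ hd₂) _ ht₁ (Ev.conj_comm (H.ab hd₁ hd₂))) (Ev.conj_pow' hj)
  have hg := mul_mem hg₁ hg₂
  have t₁ : (g₁ * g₂)⁻¹ * d₁ * (g₁ * g₂) ∈ X.T := by
    rwa [show (g₁ * g₂)⁻¹ * d₁ * (g₁ * g₂) = g₂⁻¹ * (g₁⁻¹ * d₁ * g₁) * g₂ by group, k₁]
  have t₂ : (g₁ * g₂)⁻¹ * d₂ * (g₁ * g₂) ∈ X.T := by
    rwa [show (g₁ * g₂)⁻¹ * d₂ * (g₁ * g₂) = g₂⁻¹ * (g₁⁻¹ * d₂ * g₁) * g₂ by group]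
  generalize g₁ * g₂ = g at hg t₁ t₂
  have cm : ∀ x y : Y, g⁻¹ * (x * y) * g = g⁻¹ * x * g * (g⁻¹ * y * g) := fun x y => by group
  refine H.sat hS hg (fun d hd => ?_) ?_
  · obtain ⟨z, v, r, l⟩ := H.val hd (dec _ hd)
    have key : ∀ e ∈ D, ∀ y, Dl X D e y → z * y = 1 → g⁻¹ * e * g ∈ X.T → g⁻¹ * d * g ∈ X.T := fun e he y hy h0 ht => by
      have h4 := H.ker (mul_mem hd he) (dec _ (mul_mem hd he)) (h0 ▸ H.mul (H.ab hd he) l hy)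
      have h5 := S_conj h4 hg
      rw [cm] at h5
      exact (mul_mem_cancel_right ht).1 (h5 ▸ h4.1)
    rcases H.four v r v₁ r₁ v₂ r₂ m₁ m₂ m₃ with e | e | e | e
    · have h4 := H.ker hd (dec _ hd) (e ▸ l)
      rw [S_conj h4 hg]
      exact h4.1
    · exact key _ hd₁ _ l₁ e t₁
    · exact key _ hd₂ _ l₂ e t₂
    · exact key _ (mul_mem hd₁ hd₂) _ l₃ e (cm d₁ d₂ ▸ mul_mem t₁ t₂)
  · rintro ⟨s, ⟨β, hβ⟩, h4, -⟩
    have h5 := h4 β hβ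
    have h6 := H.sz_sub hg h5
    obtain ⟨c₁, hc₁, s₁⟩ := (tri d₁ hd₁ g hg t₁).resolve_left n₁
    obtain ⟨c₂, hc₂, s₂⟩ := (tri d₂ hd₂ g hg t₂).resolve_left n₂
    have par : ∀ d ∈ D, ∀ c, g⁻¹ * d * g ∈ X.T → g⁻¹ * d * g * ct X c (-1) ∈ Sq0 X D → 2 ∣ pr X β c := by
      intro d hd c ht hs
      have h7 := hs.2 β h6
      rw [X.χ_mul β ht (ct_mem _ _), h5.2 _ ⟨d, hd, rfl⟩, one_mul] at h7
      have h8 := (χ_exp X β _ _).1 h7
      rwa [ord_neg hp] at h8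
    have h7 := d4.uq
    rw [ru_eq] at h7
    have h8 := h7 c₁ hc₁ c₂ hc₂ β h6 (par _ hd₁ _ t₁ s₁) (par _ hd₂ _ t₂ s₂)
    have h9 : ct X c₁ (-1) * ct X c₂ (-1) ∈ Sq0 X D := by
      have e : ct X c₁ (-1) * ct X c₂ (-1) = tw X (X.cor c₁ - X.cor c₂) :=
        (tw_add _ _).symm.trans (tw_congr fun r => ⟨X.cor c₂ r, by simp [two_mul]⟩)
      rw [e]
      exact ⟨X.τ_mem _, fun a ha => (χ_exp X a _ _).2 (by rw [ord_neg hp]; exact (h8 ha).2)⟩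
    refine n₃ (back hg ?_)
    have h10 := mul_mem s₁ s₂
    rw [mul_assoc, ← mul_assoc (ct X c₁ (-1)), X.T_comm (ct_mem c₁ (-1)) t₂, mul_assoc (g⁻¹ * d₂ * g),
      ← mul_assoc (g⁻¹ * d₁ * g), ← cm] at h10
    exact (mul_mem_cancel_right h9).1 h10

end Cfsg.Agent.KM.E2
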