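import Cfsg.Agent.KM.E2.Defs
import Cfsg.Agent.KM.Two.Om
import Cfsg.Agent.KM.Sp.Loc
import Cfsg.Agent.TO.CovA

/-!
# KM, `l = 2`, types `E₇`, `E₈` : the boxes `G`, `An`, `K` (helper36)
-/

set_option autoImplicit false
set_option linter.unusedSectionVars false

namespace Cfsg.Agent.KM.E2

open Cfsg Subgroup Cfsg.Agent.KM.Tor Cfsg.Agent.TO

namespace G

/-! ### abelian groups -/

section Ab

variable {Q : Type} [CommGroup Q] [Finite Q]

theorem card_le (hQ : IsPGroup 2 Q) {n : ℕ} (h : Nat.card Q < 2 ^ (n + 1)) : Nat.card Q ≤ 2 ^ n := by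
  have : Fact (Nat.Prime 2) := ⟨Nat.prime_two⟩
  obtain ⟨m, hm⟩ := IsPGroup.iff_card.1 hQ
  rw [hm] at h ⊢
  exact Nat.pow_le_pow_right two_pos (Nat.lt_succ_iff.1 ((Nat.pow_lt_pow_iff_right one_lt_two).1 h))

theorem of_sq {e : ℕ} (he : ¬ 2 ∣ e) {α : MulAut Q} (h1 : α ^ e = 1) {x : Q} (h2 : α (α x) = x) : α x = x := by
  have h3 : ∀ n : ℕ, (α ^ (2 * n)) x = x := fun n => by
    induction n with
    | zero => rfl
    | succ n ih => rw [mul_add, mul_one, pow_add, pow_two, MulAut.mul_apply, MulAut.mul_apply, h2, ih]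
  have h4 := h3 ((e + 1) / 2)
  rwa [show 2 * ((e + 1) / 2) = e + 1 by omega, pow_succ, h1, one_mul] at h4

/-- an automorphism of odd order which fixes a subgroup of index at most two -/
theorem triv (hQ : IsPGroup 2 Q) {e : ℕ} (he : ¬ 2 ∣ e) {α : MulAut Q} (h1 : α ^ e = 1) (F : Subgroup Q)
    (hF : ∀ x ∈ F, α x = x) (h2 : F.index ≤ 2) (x : Q) : α x = x := by
  by_cases hx : x ∈ F
  · exact hF x hx
  have h3 : F.index = 2 := by
    have h4 : F.index ≠ 0 := index_ne_zero_of_finite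
    have h5 : F.index ≠ 1 := fun h => hx (index_eq_one.1 h ▸ mem_top x)
    omega
  refine BF.fix Nat.prime_two hQ he h1 (hF _ ((mul_mem_iff_of_index_two h3).2 (iff_of_false (fun h => hx ?_) fun h =>
    hx (inv_mem_iff.1 h))))
  exact α.injective (hF _ h) ▸ h

theorem fpf (hQ : IsPGroup 2 Q) (hc : Nat.card Q ≤ 7) {e : ℕ} (he : ¬ 2 ∣ e) {α : MulAut Q} (h1 : α ^ e = 1) {a : Q}
    (ha : α a = a) (h0 : a ≠ 1) (x : Q) : α x = x := by
  refine triv hQ he h1 (zpowers a) (fun y hy => ?_) ?_ x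
  · obtain ⟨n, rfl⟩ := mem_zpowers_iff.1 hy
    rw [map_zpow, ha]
  · have h2 := card_le hQ (n := 2) (by omega)
    have h3 := card_mul_index (zpowers a)
    have h4 : 1 < Nat.card (zpowers a) := one_lt_card_iff_ne_bot _ |>.2 (by rwa [Ne, zpowers_eq_bot])
    by_contra h5
    have h6 := Nat.mul_le_mul h4 (not_le.1 h5)
    omega

end Ab

/-! ### sections -/

variable {Y : Type} [Group Y] {H Z D C Γ V W : Subgroup Y}

theorem sec_top (L : Lz H Z D C Γ) : Sec Z D Γ Z D :=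
  ⟨le_rfl, L.zD, le_rfl, fun x hx v hv => by rwa [← L.zc v hv x (L.le hx), mul_inv_cancel_right], L.iv⟩

/-- the data of a section -/
structure Dt (Γ V W : Subgroup Y) {Q : Type} [CommGroup Q] (q : W →* Q) (σ : Γ →* MulAut Q) : Prop where
  pg : IsPGroup 2 Q
  card : Nat.card Q = V.relIndex W
  surj : Function.Surjective q
  ker : ∀ w, q w = 1 ↔ (w : Y) ∈ V
  act : ∀ (x : Γ) (w w' : W), (w' : Y) = x * w * (x : Y)⁻¹ → σ x (q w) = q w'

theorem exists_dt (L : Lz H Z D C Γ) (S : Sec Z D Γ V W) :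
    ∃ (Q : Type) (_ : CommGroup Q) (_ : Finite Q) (q : W →* Q) (σ : Γ →* MulAut Q), Dt Γ V W q σ := by
  have hc : ∀ a b : W, (a : Y) * b * (a : Y)⁻¹ * (b : Y)⁻¹ ∈ V := fun a b =>
    S.z (((L.mem a).1 (L.DC (S.d a.2))).2 b (S.d b.2))
  have := L.fin
  have : Finite W := Finite.of_injective _ (inclusion_injective (S.d.trans (L.DC.trans (L.CΓ.trans L.le))))
  have hn : (V.subgroupOf W).Normal := ⟨fun v hv g => by
    have h1 := mul_mem (hc g v) (mem_subgroupOf.1 hv)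
    rwa [inv_mul_cancel_right] at h1⟩
  let _ : CommGroup (W ⧸ V.subgroupOf W) := { (inferInstance : Group (W ⧸ V.subgroupOf W)) with
    mul_comm := fun x y => QuotientGroup.induction_on x fun a => QuotientGroup.induction_on y fun b => by
      rw [← QuotientGroup.mk_mul, ← QuotientGroup.mk_mul, QuotientGroup.eq, mem_subgroupOf]
      have h1 := hc b⁻¹ a⁻¹
      simpa [mul_assoc] using h1 }
  let f : Γ → W →* W := fun t => ((MulAut.conj (t : Y)).toMonoidHom.comp W.subtype).codRestrict W fun w => S.iW t t.2 w w.2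
  let _ : MulDistribMulAction Γ (W ⧸ V.subgroupOf W) :=
    { smul := fun t => QuotientGroup.map (V.subgroupOf W) (V.subgroupOf W) (f t) fun w hw => S.iV t t.2 w hw
      one_smul := fun x => QuotientGroup.induction_on x fun w => congrArg QuotientGroup.mk (Subtype.ext (by
        change (1 : Y) * w * (1 : Y)⁻¹ = w
        simp))
      mul_smul := fun s t x => QuotientGroup.induction_on x fun w => congrArg QuotientGroup.mk (Subtype.ext (by
        change ((s : Y) * t) * w * ((s : Y) * t)⁻¹ = s * (t * w * (t : Y)⁻¹) * (s : Y)⁻¹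
        group))
      smul_one := fun t => map_one (QuotientGroup.map (V.subgroupOf W) (V.subgroupOf W) (f t) _)
      smul_mul := fun t => map_mul (QuotientGroup.map (V.subgroupOf W) (V.subgroupOf W) (f t) _) }
  refine ⟨W ⧸ V.subgroupOf W, inferInstance, inferInstance, QuotientGroup.mk' _, MulDistribMulAction.toMulAut Γ _,
    (L.pg.to_le S.d).to_quotient _, rfl, QuotientGroup.mk'_surjective _, fun w => QuotientGroup.eq_one_iff w,
    fun x w w' h => ?_⟩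
  exact congrArg QuotientGroup.mk (Subtype.ext h.symm : f x w = w')

variable {Q : Type} [CommGroup Q] {q : W →* Q} {σ : Γ →* MulAut Q}

theorem Dt.fix (T : Dt Γ V W q σ) (hW : Iv Γ W) (x : Γ) (w : W) :
    σ x (q w) = q w ↔ (x : Y) * w * (x : Y)⁻¹ * (w : Y)⁻¹ ∈ V := by
  rw [T.act x w ⟨_, hW x x.2 w w.2⟩ rfl, ← mul_inv_eq_one, ← map_inv, ← map_mul, T.ker]
  rfl

theorem Dt.un (T : Dt Γ V W q σ) (hW : Iv Γ W) (x : Γ) : σ x = 1 ↔ Un (x : Y) V W := by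
  refine ⟨fun h w hw => (T.fix hW x ⟨w, hw⟩).1 (by rw [h]; rfl), fun h => MulEquiv.ext fun y => ?_⟩
  obtain ⟨w, rfl⟩ := T.surj y
  exact (T.fix hW x w).2 (h w w.2)

theorem pow_mem_C (L : Lz H Z D C Γ) {x : Y} (hx : x ∈ Γ) : x ^ C.relIndex Γ ∈ C := by
  obtain ⟨Q, _, _, q, σ, T⟩ := exists_dt L (sec_top L)
  have h1 : σ.ker = C.subgroupOf Γ := Subgroup.ext fun t => by
    rw [MonoidHom.mem_ker, T.un L.iv, mem_subgroupOf, L.mem, and_iff_right (L.le t.2)]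
  have h2 := pow_index_mem σ.ker ⟨x, hx⟩
  rwa [h1] at h2

theorem Dt.pow (T : Dt Γ V W q σ) (L : Lz H Z D C Γ) (S : Sec Z D Γ V W) (x : Γ) : σ x ^ C.relIndex Γ = 1 := by
  rw [← map_pow, T.un S.iW]
  exact fun b hb => S.z (((L.mem _).1 (pow_mem_C L x.2)).2 b (S.d hb))

theorem Dt.dvd (T : Dt Γ V W q σ) (hW : Iv Γ W) (h : ∀ x ∈ Γ, Un x V W → x ∈ C) : C.relIndex Γ ∣ Nat.card σ.range := by
  rw [← index_ker]
  exact index_dvd_of_le fun t ht => h t t.2 ((T.un hW t).1 ht)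

theorem four (L : Lz H Z D C Γ) (S : Sec Z D Γ V W) (h : V.relIndex W ≤ 7) : ∃ x ∈ Γ, Un x V W ∧ x ∉ C := by
  by_contra h0
  push Not at h0
  obtain ⟨Q, _, _, q, σ, T⟩ := exists_dt L S
  have h1 := ((T.dvd S.iW h0).trans (card_subgroup_dvd_card _)).trans
    (Two.aut_dvd T.pg (card_le T.pg (n := 2) (by rw [T.card]; omega)))
  have h2 := L.odd
  have h3 := L.big
  have h4 := Nat.le_of_dvd (by norm_num) h1
  interval_cases C.relIndex Γ <;> omega

end G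

open G

/-- **[G]** -/
theorem boxG : BoxG := by
  intro Y _ H Z D C Γ L
  obtain ⟨A, _, _, q, ρ, T⟩ := exists_dt L (sec_top L)
  have he := T.pow L (sec_top L)
  refine ⟨⟨((powMonoidHom 2 : A →* A).ker.comap q).map D.subtype, fun d => ⟨?_, fun h => ⟨⟨d, h.1⟩, ?_, rfl⟩⟩⟩,
    fun x hx P R hP hR h1 h2 b hb => ?_, fun x hx h => ?_, fun x hx d hd h => ?_, fun V W S h x hx => ?_,
    fun V W S h _ => four L S h, fun V W S h x hx h1 a ha h2 => ?_, fun V W S h h1 h2 => ?_⟩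
  · rintro ⟨a, ha, rfl⟩
    refine ⟨a.2, (T.ker (a * a)).1 ?_⟩
    rw [map_mul, ← pow_two]
    exact ha
  · change q ⟨d, h.1⟩ ^ 2 = 1
    rw [pow_two, ← map_mul]
    exact (T.ker _).2 h.2
  · refine (T.fix L.iv ⟨x, hx⟩ ⟨b, hR hb⟩).1 (BF.fix Nat.prime_two T.pg L.odd (he _) ?_)
    rw [T.act ⟨x, hx⟩ ⟨b, hR hb⟩ ⟨_, L.iv x hx b (hR hb)⟩ rfl, ← map_inv, ← map_mul]
    exact (T.fix L.iv _ _).2 (h1 _ (h2 b hb))
  · refine (L.mem x).2 ⟨L.le hx, (T.un L.iv ⟨x, hx⟩).1 (MulEquiv.ext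
      (BF.fix_all Nat.prime_two T.pg L.odd (he _) fun y hy => ?_))⟩
    obtain ⟨d, rfl⟩ := T.surj y
    refine (T.fix L.iv _ _).2 (h d d.2 ((T.ker (d * d)).1 ?_))
    rwa [map_mul, ← pow_two]
  · refine (T.fix L.iv ⟨x, hx⟩ ⟨d, hd⟩).1 (of_sq L.odd (he _) ?_)
    rw [← MulAut.mul_apply, ← map_mul]
    exact (T.fix L.iv _ _).2 h
  · obtain ⟨Q, _, _, q', σ, T'⟩ := exists_dt L S
    refine (T'.un S.iW ⟨x, hx⟩).1 (MulEquiv.ext (triv T'.pg L.odd (T'.pow L S _) ⊥ (fun y hy => ?_) ?_))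
    · rw [mem_bot.1 hy, map_one]
    · rw [index_bot]
      exact card_le T'.pg (n := 1) (by rw [T'.card]; omega)
  · obtain ⟨Q, _, _, q', σ, T'⟩ := exists_dt L S
    by_contra h3
    exact h1 ((T'.un S.iW ⟨x, hx⟩).1 (MulEquiv.ext (fpf T'.pg (T'.card ▸ h) L.odd (T'.pow L S _)
      ((T'.fix S.iW ⟨x, hx⟩ ⟨a, ha⟩).2 h2) fun e => h3 ((T'.ker _).1 e))))
  · obtain ⟨Q, _, _, q', σ, T'⟩ := exists_dt L S
    have h3 : Nat.card Q = 8 := by
      have h4 := card_le T'.pg (n := 3) (by rw [T'.card]; omega)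
      by_contra h5
      obtain ⟨x, hx, h6, h7⟩ := four L S (by rw [← T'.card]; omega)
      exact h7 (h2 x hx h6)
    refine ⟨T'.card ▸ h3, fun a ha b hb ha' hb' => ?_⟩
    have h4 : ∀ y : Q, y ^ 2 = 1 := fun y => by
      obtain ⟨w, rfl⟩ := T'.surj y
      rw [pow_two, ← map_mul]
      exact (T'.ker _).2 (h1 w w.2)
    have h5 := T'.dvd S.iW h2
    have h6 := h5.trans (card_subgroup_dvd_card _)
    rw [GH.EFrameAct.card_mulAut_eight h4 h3] at h6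
    have h7 : 7 ∣ C.relIndex Γ := by
      have h8 : C.relIndex Γ ∣ 21 :=
        ((Nat.prime_two.coprime_iff_not_dvd.2 L.odd).symm.pow_right 3).dvd_of_dvd_mul_left h6
      have h9 := Nat.le_of_dvd (by norm_num) h8
      have h10 := L.big
      interval_cases C.relIndex Γ <;> omega
    have : Fact (Nat.Prime 7) := ⟨by norm_num⟩
    obtain ⟨s, ht⟩ := exists_prime_orderOf_dvd_card' 7 (h7.trans h5)
    obtain ⟨t, hs⟩ := s.2
    rw [← Subgroup.orderOf_coe, ← hs] at ht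
    obtain ⟨n, hn⟩ := GH.EFrameAct.exists_pow h3 ht (a := q' ⟨a, ha⟩) (b := q' ⟨b, hb⟩) (fun e => ha' ((T'.ker _).1 e))
      fun e => hb' ((T'.ker _).1 e)
    rw [← map_pow, T'.act (t ^ n) ⟨a, ha⟩ ⟨_, S.iW _ (t ^ n).2 a ha⟩ rfl, ← mul_inv_eq_one, ← map_inv, ← map_mul,
      T'.ker] at hn
    exact ⟨_, (t ^ n).2, hn⟩

/-- **[AN]** -/
theorem boxAn : BoxAn := by
  intro Y _ z V W _ hVW hz _ hsq hcm hV hc
  have z2 : z * z = 1 := ((hV z).1 hz).2
  have sq : ∀ a ∈ W, a ∉ V → a * a = z := fun a ha h => (hsq a ha).resolve_left fun e => h ((hV a).2 ⟨ha, e⟩)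
  have k1 : ∀ a ∈ W, ∀ b ∈ W, a ∉ V → b ∉ V → a * b = b * a → a * b ∈ V := fun a ha b hb h1 h2 h =>
    (hV _).2 ⟨mul_mem ha hb, by
      rw [mul_assoc, ← mul_assoc b, ← h, mul_assoc a b, sq b hb h2, ← mul_assoc, sq a ha h1, z2]⟩
  by_cases h0 : ∀ a ∈ W, ∀ b ∈ W, a * b = b * a
  · left
    by_cases h1 : W ≤ V
    · rw [relIndex_eq_one.2 h1]
      norm_num
    obtain ⟨a, ha, h2⟩ := SetLike.not_le_iff_exists.1 h1
    refine (index_eq_two_iff.2 ⟨⟨a, ha⟩, fun b => ?_⟩).le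
    by_cases hb : (b : Y) ∈ V
    · exact Or.inr ⟨hb, fun h => h2 ((mul_mem_cancel_left hb).1 h)⟩
    · exact Or.inl ⟨k1 b b.2 a ha hb h2 (h0 b b.2 a ha), hb⟩
  right
  have k2 : ∀ x ∈ W, ∀ y ∈ W, x * y ≠ y * x → x ∉ V ∧ y ∉ V ∧ x * y ∉ V ∧ x⁻¹ * y ∉ V := fun x hx y hy h =>
    ⟨fun e => h (hc x e y hy), fun e => h (hc y e x hx).symm,
      fun e => h (mul_left_cancel (a := x) (by rw [← hc _ e x hx, mul_assoc])),
      fun e => h (by
        have h1 := hc _ e x hx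
        rw [mul_inv_cancel_left, mul_assoc, inv_mul_eq_iff_eq_mul] at h1
        exact h1.symm)⟩
  have k3 : ∀ x ∈ W, ∀ y ∈ W, x * y ≠ y * x → ∀ w ∈ W, w ∈ V ∨ w * x ∈ V ∨ w * y ∈ V ∨ w * x * y ∈ V := by
    intro x hx y hy h w hw
    obtain ⟨a1, a2, a3, -⟩ := k2 x hx y hy h
    by_contra h1
    push Not at h1
    obtain ⟨b1, b2, b3, b4⟩ := h1
    have c1 := (hcm w hw x hx).resolve_left fun e => b2 (k1 w hw x hx b1 a1 e)
    have c2 := (hcm w hw y hy).resolve_left fun e => b3 (k1 w hw y hy b1 a2 e)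
    refine b4 ?_
    rw [mul_assoc]
    refine k1 w hw _ (mul_mem hx hy) b1 a3 ?_
    rw [← mul_assoc, c1, mul_assoc _ z, hc z hz y hy, ← mul_assoc, mul_assoc x, c2, ← mul_assoc, mul_assoc _ z, z2,
      mul_one, mul_assoc]
  push Not at h0
  obtain ⟨x, hx, y, hy, h⟩ := h0
  obtain ⟨a1, a2, a3, a4⟩ := k2 x hx y hy h
  refine ⟨?_, fun w hw h1 => ?_, k3⟩
  · change Nat.card (W ⧸ V.subgroupOf W) = 4
    rw [← Set.ncard_univ, Set.ncard_eq_four]
    refine ⟨((1 : W) : W ⧸ V.subgroupOf W), ((⟨x, hx⟩ : W) : W ⧸ V.subgroupOf W), ((⟨y, hy⟩ : W) : W ⧸ V.subgroupOf W),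
      ((⟨x * y, mul_mem hx hy⟩ : W) : W ⧸ V.subgroupOf W), ?_, ?_, ?_, ?_, ?_, ?_, ?_⟩
    · simpa [QuotientGroup.eq, mem_subgroupOf] using a1
    · simpa [QuotientGroup.eq, mem_subgroupOf] using a2
    · simpa [QuotientGroup.eq, mem_subgroupOf] using a3
    · simpa [QuotientGroup.eq, mem_subgroupOf] using a4
    · simpa [QuotientGroup.eq, mem_subgroupOf] using a2
    · rw [Ne, QuotientGroup.eq, mem_subgroupOf]
      intro e
      have h1 : y⁻¹ * (x * y) * y = y * (y⁻¹ * (x * y)) := hc _ e y hy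
      rw [mul_inv_cancel_left, mul_left_inj, inv_mul_eq_iff_eq_mul] at h1
      exact h h1
    · refine (Set.eq_univ_of_forall fun c => QuotientGroup.induction_on c fun w => ?_).symm
      simp only [Set.mem_insert_iff, Set.mem_singleton_iff, QuotientGroup.eq, mem_subgroupOf]
      simpa [mul_assoc] using k3 x hx y hy h w⁻¹ (inv_mem w.2)
  · by_contra h2
    push Not at h2
    have h3 := mul_mem (inv_mem (k1 w hw x hx h1 a1 (h2 x hx))) (k1 w hw y hy h1 a2 (h2 y hy))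
    rw [mul_inv_rev, mul_assoc, inv_mul_cancel_left] at h3
    exact a4 h3

theorem mem_up {Y K : Type} [Group Y] [Group K] {H : Subgroup Y} {π : H →* K} {A : Subgroup K} {y : Y} :
    y ∈ up π A ↔ ∃ h : y ∈ H, π ⟨y, h⟩ ∈ A :=
  ⟨by rintro ⟨x, hx, rfl⟩; exact ⟨x.2, hx⟩, fun ⟨h, h1⟩ => ⟨⟨y, h⟩, h1, rfl⟩⟩

theorem coe_mem_up {Y K : Type} [Group Y] [Group K] {H : Subgroup Y} {π : H →* K} {A : Subgroup K} {x : H} :
    (x : Y) ∈ up π A ↔ π x ∈ A := mem_up.trans ⟨fun ⟨_, h⟩ => h, fun h => ⟨x.2, h⟩⟩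

theorem up_mono {Y K : Type} [Group Y] [Group K] {H : Subgroup Y} (π : H →* K) {A B : Subgroup K} (h : A ≤ B) :
    up π A ≤ up π B := map_mono (comap_mono h)

theorem relIndex_up {Y K : Type} [Group Y] [Group K] {H : Subgroup Y} {π : H →* K} (hπ : Function.Surjective π)
    (A B : Subgroup K) : (up π A).relIndex (up π B) = A.relIndex B := by
  rw [up, up, relIndex_map_map_of_injective _ _ H.subtype_injective, relIndex_comap, map_comap_eq_self_of_surjective hπ]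

/-- **[K]** -/
theorem boxK : BoxK := by
  intro Y K _ _ H Z _ _ π M b D θ hπ hZ hk hc hp hb h
  have : Fact (Nat.Prime 2) := ⟨Nat.prime_two⟩
  refine (le_or_gt ((Ce D).relIndex (In D θ)) 4).imp (hz_of_le h) fun he => ?_
  refine ⟨inferInstance, hc, fun z hz => mem_up.2 ⟨hZ hz, ?_⟩, up_mono π h.ab, up_mono π (Cov.ce_le_In h), map_subtype_le _,
    (h.pg.comap_of_ker_isPGroup π fun x => ?_).map _, fun x => ⟨?_, ?_⟩, ?_, ?_, ?_, fun U hU hU2 hi => ?_⟩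
  · rw [(hk _).2 hz]
    exact one_mem _
  · obtain ⟨n, hn⟩ := hp ⟨x.1, (hk _).1 x.2⟩
    have h1 : ((x : H) : Y) ^ 2 ^ n = 1 := congrArg Subtype.val hn
    exact ⟨n, Subtype.ext (Subtype.ext h1)⟩
  · rintro ⟨x, hx, rfl⟩
    refine ⟨x.2, ?_⟩
    rintro _ ⟨d, hd, rfl⟩
    refine (hk (x * d * x⁻¹ * d⁻¹)).1 ?_
    rw [map_mul, map_mul, map_mul, map_inv, map_inv, ← mem_centralizer_iff.1 hx _ hd, mul_inv_cancel_right, mul_inv_cancel]
  · rintro ⟨hx, h1⟩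
    refine mem_up.2 ⟨hx, mem_centralizer_iff.2 fun d hd => ?_⟩
    obtain ⟨d, rfl⟩ := hπ d
    have h2 := (hk (⟨x, hx⟩ * d * ⟨x, hx⟩⁻¹ * d⁻¹)).2 (h1 d (coe_mem_up.2 hd))
    rw [map_mul, map_mul, map_mul, map_inv, map_inv, mul_inv_eq_one, mul_inv_eq_iff_eq_mul] at h2
    exact h2.symm
  · rintro _ ⟨x, hx, rfl⟩ _ ⟨d, hd, rfl⟩
    refine (coe_mem_up (x := x * d * x⁻¹)).2 ?_
    rw [map_mul, map_mul, map_inv]
    exact ((Cn.mem_In.1 hx).1 _).2 hd
  · rw [relIndex_up hπ]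
    exact h.idx
  · rwa [relIndex_up hπ]
  · have h1 := (Sp.locA_of_block h.hM hb h.hD ⟨⟨fun x y => Subtype.ext (h.comm _ x.2 _ y.2)⟩⟩).core
      ((U.subgroupOf H).map π) ((hU2.comap_subtype (K := H)).map π) fun x hx => ?_
    · exact fun u hu => mem_up.2 ⟨hU hu, h1 ⟨⟨u, hU hu⟩, hu, rfl⟩⟩
    · rintro _ ⟨u, hu, rfl⟩
      obtain ⟨x, rfl⟩ := hπ x
      refine ⟨x * u * x⁻¹, hi x (coe_mem_up.2 (mem_centralizer_iff.2 hx)) u hu, ?_⟩
      rw [map_mul, map_mul, map_inv]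

end Cfsg.Agent.KM.E2
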