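import Cfsg.Agent.KM.E2.Bas
import Cfsg.Agent.KM.Ev.Q2

/-!
# KM, `l = 2`, type `E₈` : pure defect groups (helper74)

* **`boxP3_of`** : the rank is not three;
* **`boxP5`** : in rank four the defect group lies in the torus.
-/

set_option autoImplicit false
set_option linter.unusedSectionVars false

namespace Cfsg.Agent.KM.E2

open Cfsg Cfsg.Lie Cfsg.Agent.DL Cfsg.Agent.Nodes.Reps Cfsg.Agent.Nodes.BNOf Matrix Subgroup Cfsg.Agent.KM.Ht
open Cfsg.Agent.KM.Tor Multiplicative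
open Cfsg.Agent.TO.X5 (ct ct_mem conj_ct)

namespace P3

section Grp

variable {Y : Type} [Group Y]

theorem pg_of_sq {U : Subgroup Y} (h2 : ∀ x ∈ U, x * x = 1) : IsPGroup 2 U := fun g =>
  ⟨1, Subtype.ext (by rw [pow_one, sq]; exact h2 g g.2)⟩

theorem comm_D {H D C Γ : Subgroup Y} (h : Lz H ⊥ D C Γ) {x d : Y} (hx : x ∈ C) (hd : d ∈ D) : x * d = d * x :=
  mul_inv_eq_iff_eq_mul.1 (mul_inv_eq_one.1 (mem_bot.1 (((h.mem x).1 hx).2 d hd)))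

/-- an invariant extension of degree two is rational -/
theorem abs3 {F : MulAut Y} {G D C Γ V U : Subgroup Y} {t : Y} (H : Lz (GF F G) ⊥ D C Γ) (hV : V ≤ D) (iV : Iv Γ V)
    (hU : U ≤ G) (h2 : ∀ x ∈ U, x * x = 1) (ht : t ∈ U) (h : ∀ x ∈ U, x ∈ V ∨ x * t ∈ V) (iU : Iv Γ U)
    (hF : ∀ x ∈ U, F x ∈ U) (h0 : ∀ v ∈ V, (∀ x ∈ Γ, x * v * x⁻¹ = v) → v = 1) : t ∈ D := by
  by_cases h1 : t ∈ V
  · exact hV h1
  have fV : ∀ v ∈ V, F v = v := fun v hv => (H.le (H.CΓ (H.DC (hV hv)))).2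
  have h3 : F t * t = 1 := h0 _ ((h _ (hF t ht)).resolve_left fun e => h1 (F.injective (fV _ e) ▸ e)) fun x hx => by
    have h4 := fV _ ((h _ (iU x hx t ht)).resolve_left fun e => h1 (by simpa [mul_assoc] using iV _ (inv_mem hx) _ e))
    rw [map_mul, map_mul, map_mul, map_inv, (mem_GF.1 (H.le hx)).2] at h4
    calc _ = x * F t * x⁻¹ * F t * (F t)⁻¹ * (x * t * x⁻¹) := by group
      _ = x * t * x⁻¹ * (t * (F t)⁻¹) * (x * t * x⁻¹) := by rw [h4]; group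
      _ = _ := by
        rw [comm_of_sq h2 (iU x hx t ht) (mul_mem ht (inv_mem (hF t ht))), mul_assoc, h2 _ (iU x hx t ht), mul_one,
          inv_eq_of_mul_eq_one_right (h2 _ (hF t ht)), comm_of_sq h2 ht (hF t ht)]
  have h4 : F t = t := mul_right_cancel (h3.trans (h2 t ht).symm)
  refine H.core U (fun x hx => ⟨hU hx, (h x hx).elim (fV x) fun e => ?_⟩) (pg_of_sq h2) (fun x hx => iU x (H.CΓ hx)) ht
  have h5 := fV _ e
  rw [map_mul, h4] at h5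
  exact mul_right_cancel h5

/-- a normal subgroup which is centralised by a Sylow subgroup is centralised by all `2`-elements -/
theorem abs5 {H D U : Subgroup Y} [Finite H] (hD : D ≤ H) (pg : IsPGroup 2 D)
    (mx : ∀ P ≤ H, IsPGroup 2 P → D ≤ P → P ≤ D) (iU : Iv H U) (hc : ∀ d ∈ D, ∀ u ∈ U, d * u = u * d) {x : Y}
    (hx : x ∈ H) {j : ℕ} (hj : x ^ 2 ^ j = 1) {u : Y} (hu : u ∈ U) : x * u = u * x := by
  let P : Sylow 2 H := ⟨D.subgroupOf H, pg.comap_subtype, fun {Q} hQ hle => le_antisymm (fun y hy =>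
    mx _ (map_subtype_le Q) (hQ.map _) (fun d hd => ⟨⟨d, hD hd⟩, hle hd, rfl⟩) ⟨y, hy, rfl⟩) hle⟩
  have h1 : IsPGroup 2 (zpowers (⟨x, hx⟩ : H)) := fun ⟨_, i, e⟩ => ⟨j, Subtype.ext (by
    subst e
    show ((⟨x, hx⟩ : H) ^ i) ^ 2 ^ j = 1
    rw [← zpow_natCast, ← _root_.zpow_mul, mul_comm, _root_.zpow_mul, zpow_natCast,
      show (⟨x, hx⟩ : H) ^ 2 ^ j = 1 from Subtype.ext hj, _root_.one_zpow])⟩
  obtain ⟨Q, hQ⟩ := h1.exists_le_sylow
  obtain ⟨g, rfl⟩ := MulAction.exists_smul_eq H P Q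
  have h2 : (g⁻¹ * ⟨x, hx⟩ * g : H) ∈ D.subgroupOf H := by
    have := hQ (mem_zpowers _)
    rw [Sylow.coe_subgroup_smul, Subgroup.mem_pointwise_smul_iff_inv_smul_mem] at this
    simpa using this
  have h3 := hc _ h2 _ (iU _ (inv_mem g.2) u hu)
  simpa [mul_assoc] using Ev.conj_comm (g := (g : Y)⁻¹) h3

end Grp

variable {p : ℕ} [Fact p.Prime] {k : Type} [Field k] [CharP k p] {Y : Type} [Group Y] {N : Type} [Fintype N]
  [DecidableEq N] {ρ : Y →* GL N k} {F : MulAut Y} {G : Subgroup Y} [IsAlgClosed k] {X : Datum p ρ F G}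
  {D C Γ V : Subgroup Y}

theorem iv_Zc (hT : V ≤ X.T) (hG : Γ ≤ G) (iV : Iv Γ V) : Iv Γ (Zc X (X.Sz V)) := fun x hx z hz => by
  obtain ⟨c, hc, m, ⟨w, hm⟩, h1, e⟩ := X.exists_conj_form (s := fun v : V => x⁻¹ * v * x) (t := fun v : V => v)
    (fun v => hT (by simpa using iV _ (inv_mem hx) v v.2)) (fun v => hT v.2) (hG hx) fun v => by group
  rw [show Set.range (fun v : V => (v : Y)) = V from Subtype.range_coe] at hc
  have h2 : m * z * m⁻¹ ∈ Zc X (X.Sz V) := ⟨X.conj_mem_T ⟨w, hm⟩ hz.1, fun b hb => by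
    have e' : X.act w (X.act w⁻¹ b) = b := by rw [← CF.act_mul, mul_inv_cancel, CF.act_one]
    rw [← e', X.χ_rp hm _ hz.1]
    refine hz.2 _ ⟨hb.1.act _, fun v hv => ?_⟩
    have h3 := h1 ⟨_, iV x hx v hv⟩
    rw [show x⁻¹ * (x * v * x⁻¹) * x = v by group] at h3
    rw [← X.χ_rp hm _ (hT hv), e', h3, mul_inv_cancel_right]
    exact hb.2 _ (iV x hx v hv)⟩
  rwa [e, show c * m * z * (c * m)⁻¹ = c * (m * z * m⁻¹) * c⁻¹ by group, One.Zc_comm hT h2 (X.S_le_cen _ hc),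
    mul_inv_cancel_right]

theorem F_Zc (hT : V ≤ X.T) (hF : ∀ v ∈ V, F v = v) {z : Y} (hz : z ∈ Zc X (X.Sz V)) : F z ∈ Zc X (X.Sz V) :=
  ⟨X.F_mem_T hz.1, fun b hb => by
    obtain ⟨a, ha, rfl⟩ := X.g_surj hb.1
    rw [X.χ_F ha hz.1, hz.2 a ⟨ha, fun v hv => (iterateFrobenius k p (X.ex a)).injective (by
      rw [iterateFrobenius_def, ← X.χ_F ha (hT hv), hF v hv, hb.2 v hv, map_one])⟩, one_pow]⟩

theorem sq_Zc {Ψ : Set (X.I → ℤ)} (h : ∀ m : X.R → ℤ, (2 : ℤ) • m ∈ Submodule.span ℤ (X.wt '' Ψ)) {z : Y}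
    (hz : z ∈ Zc X Ψ) : z * z = 1 := by
  obtain ⟨c, rfl⟩ := (X.mem_T z).1 hz.1
  have h1 : ∀ m ∈ Submodule.span ℤ (X.wt '' Ψ), chr m c = 1 := fun m hm => by
    induction hm using Submodule.span_induction with
    | mem _ h =>
      obtain ⟨a, ha, rfl⟩ := h
      exact Units.ext ((X.χ_τ a c).symm.trans (hz.2 a ha))
    | zero => exact chr_zero _
    | add x y _ _ h h' => rw [chr_add, h, h', one_mul]
    | smul a x _ h => rw [chr_zsmul, h, _root_.one_zpow]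
  rw [← map_mul, ← map_one X.τ]
  refine congrArg _ (funext fun r => ?_)
  have h2 := h1 _ (h (Pi.single r 1))
  rw [chr_zsmul, chr_single, zpow_ofNat, sq] at h2
  simpa using h2

/-- rank three inside the torus -/
theorem p3_T (hp : p ≠ 2) (h : L8 X) (h' : P8 X) (H : Lz (GF F G) ⊥ D C Γ) (hD : Pure X D) (hV : V ≤ D) (hT : V ≤ X.T)
    (h2 : ∀ v ∈ V, v * v = 1) (iV : Iv Γ V) (hc : Nat.card V = 2 ^ 3)
    (h0 : ∀ v ∈ V, (∀ x ∈ Γ, x * v * x⁻¹ = v) → v = 1) : False := by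
  obtain ⟨u, hu, h1, -, h3⟩ := exists_pu hp h hT h2 (fun t ht => hD t (hV ht)) hc
  have K := h'.p3 u hu
  obtain ⟨c, hc⟩ := K.ne
  have h4 : ∀ x ∈ Zc X (X.Sz V), x * x = 1 := fun x hx => sq_Zc K.x2 (h3 ▸ hx)
  refine hD _ (abs3 (U := Zc X (X.Sz V)) H hV iV (fun _ hx => X.T_le_G hx.1) h4 ⟨ct_mem _ _, fun b hb => ?_⟩
    (fun x hx => ?_) (iv_Zc hT (fun _ hx => (H.le hx).1) iV)
    (fun _ => F_Zc hT fun v hv => (H.le (H.CΓ (H.DC (hV hv)))).2) h0) (rt_ct hc.1)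
  · rw [← tv_cor, χ_tv hp]
    show 2 ∣ pr X b c
    rcases K.orth b (h3 ▸ hb) c hc with rfl | rfl | e
    · rw [pr_self hb.1]
    · rw [pr, X.cor_neg hb.1, dotProduct_neg]
      exact (pr_self hb.1).ge.antisymm (pr_self hb.1).le ▸ (dvd_refl _).neg_right
    · exact e ▸ dvd_zero _
  · obtain ⟨v, rfl⟩ := exists_inv hx.1 (h4 x hx)
    obtain ⟨ε, e⟩ := K.ker v (fun b hb => (χ_tv hp b v).1 (hx.2 b (h3 ▸ hb))) c hc
    have h5 := (h1 _).2 ⟨ε, rfl⟩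
    refine e.imp (fun e => ?_) fun e => ?_
    · have h6 := tv_of_dvd (X := X) (h.ev _ e)
      rw [tv_sub] at h6
      exact eq_inv_of_mul_eq_one_left h6 ▸ inv_mem h5
    · have h6 := tv_of_dvd (X := X) (h.ev _ e)
      rw [tv_sub, tv_sub, tv_cor] at h6
      exact eq_inv_of_mul_eq_one_left h6 ▸ inv_mem h5

theorem F_eq {e : ℕ} {w : X.W} (h : Inn X e w) {m t : Y} (hm : X.Rp w m) (ht : t ∈ X.T) :
    F t = (m * t * m⁻¹) ^ p ^ e := by
  obtain ⟨c, rfl⟩ := (X.mem_T t).1 ht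
  rw [X.F_τ, h.2, mon_zsmul, X.conj_τ hm, ← map_pow, ← zpow_natCast, Nat.cast_pow]

theorem Wm_rf (a : X.I → ℤ) (ha : X.Rt a) (v : X.R → ℤ) : X.Wm (X.rf a) *ᵥ v = v - (X.wt a ⬝ᵥ v) • X.cor a := by
  rw [X.Wm_rf ha, sub_mulVec, one_mulVec, vecMulVec_mulVec, op_smul_eq_smul]

/-- the product of two orthogonal reflections moves `v` modulo two -/
theorem not_ev (h : LS X) {a b : X.I → ℤ} (ha : X.Rt a) (hb : X.Rt b) (h0 : pr X a b = 0) {v : X.R → ℤ}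
    (hv : ¬ 2 ∣ X.wt a ⬝ᵥ v) : ¬ Ev X (X.Wm (X.rf a * X.rf b) *ᵥ v - v) := fun e => by
  have h1 : ∀ c, X.Rt c → 2 ∣ (X.wt b ⬝ᵥ v) * pr X c b + (X.wt a ⬝ᵥ v) * pr X c a := fun c hc => by
    have h2 := (e c hc).neg_right
    rw [X.Wm_mul, ← mulVec_mulVec, Wm_rf b hb, Wm_rf a ha] at h2
    simp only [dotProduct_sub, dotProduct_smul, smul_eq_mul] at h2
    unfold pr at h0 ⊢
    rw [h0] at h2
    exact h2.trans (dvd_of_eq (by ring))
  obtain ⟨i, hi⟩ := Int.not_even_iff_odd.1 (mt even_iff_two_dvd.1 hv)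
  rw [hi] at h1
  rcases Int.even_or_odd' (X.wt b ⬝ᵥ v) with ⟨j, hj | hj⟩ <;> rw [hj] at h1
  · refine h.nz a ha fun c hc => ?_
    obtain ⟨q, hq⟩ := h1 c hc
    exact ⟨q - j * pr X c b - i * pr X c a, by unfold pr at *; linear_combination hq⟩
  · have h3 := h.inj a b ha hb fun c hc => by
      obtain ⟨q, hq⟩ := h1 c hc
      rw [dotProduct_sub]
      exact ⟨q - (j + 1) * pr X c b - i * pr X c a, by unfold pr at *; linear_combination hq⟩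
    rcases h3 with rfl | rfl
    · rw [pr_self ha] at h0; omega
    · rw [pr, X.cor_neg ha, dotProduct_neg, neg_eq_zero] at h0
      rw [← pr, pr_self ha] at h0; omega

/-- the orbit of a root -/
theorem orth_w (h : LS X) {w : X.W} (h1 : ∀ c, X.Rt c → X.act w c ≠ c ∧ X.act w c ≠ -c) {a : X.I → ℤ} (ha : X.Rt a)
    (h2 : X.act w (X.act w a) = a ∨ X.act w (X.act w a) = -a) : pr X a (X.act w a) = 0 := by
  have hb : X.Rt (X.act w a) := ha.act w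
  have h3 := h.bd ha hb (h1 a ha).1.symm fun e => (h1 a ha).2 (neg_eq_iff_eq_neg.1 e.symm)
  have h4 : pr X (X.act w a) (X.act w (X.act w a)) = pr X a (X.act w a) := TW.pr_act w a hb
  rcases h2 with e | e
  · have h5 : X.Rt (a - pr X a (X.act w a) • X.act w a) := TW.act_rf hb a ▸ ha.act _
    have h6 := h1 _ h5
    rw [TW.a_sub, TW.a_smul, e] at h6
    by_contra h7
    rcases (by omega : pr X a (X.act w a) = 1 ∨ pr X a (X.act w a) = -1) with e' | e' <;> rw [e'] at h6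
    · exact h6.2 (by simp)
    · exact h6.1 (by simp [add_comm])
  · have h5 : pr X (X.act w a) (-a) = -pr X (X.act w a) a := by rw [pr, X.cor_neg ha, dotProduct_neg, pr]
    rw [e, h5, h.symm hb ha] at h4
    omega

end P3

open P3

/-- **[P3]** -/
theorem boxP3_of (hIX : BoxIX) : BoxP3 := fun {p} _ _ _ _ {Y} _ _ _ _ _ {F} {G} _ X hp h h' D C Γ V H hD hV hc hs h0 => by
  have h1 : V ≤ D := fun v hv => ((hV v).1 hv).1
  have h2 : ∀ v ∈ V, v * v = 1 := fun v hv => ((hV v).1 hv).2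
  have hG : ∀ d ∈ D, d ∈ GF F G := fun d hd => H.le (H.CΓ (H.DC hd))
  have iV : Iv Γ V := fun x hx v hv => (hV _).2 ⟨H.iv x hx v (h1 hv), by
    rw [show x * v * x⁻¹ * (x * v * x⁻¹) = x * (v * v) * x⁻¹ by group, h2 v hv, mul_one, mul_inv_cancel]⟩
  obtain ⟨φ, e, h3⟩ := exists_hom V h2 (n := 3) hc
  have h4 : ∀ x, φ x ∈ V := fun x => e ▸ ⟨x, rfl⟩
  have h5 : ∀ x, φ x ^ 2 ^ 1 = 1 := fun x => (sq _).trans (h2 _ (h4 x))
  obtain ⟨g, hg, a1, a2⟩ := Ev.Q2.tor_two h.pi1 (Nat.coprime_one_right 2) hp (hG _ (h1 (h4 (ofAdd (Pi.single 0 1))))).1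
    (hG _ (h1 (h4 (ofAdd (Pi.single 1 1))))).1 (h5 _) (h5 _) (comm_of_sq h2 (h4 _) (h4 _))
  obtain ⟨d, hd, e2⟩ := hs _ (h4 (ofAdd (Pi.single 2 1)))
  have h6 : g⁻¹ * d * g ∈ G ⊓ centralizer ({g⁻¹ * φ (ofAdd (Pi.single 0 1)) * g, g⁻¹ * φ (ofAdd (Pi.single 1 1)) * g} : Set Y) :=
    ⟨G.mul_mem (G.mul_mem (inv_mem hg) (hG d hd).1) hg, by
      rintro _ (rfl | rfl) <;> exact Ev.conj_comm (comm_D H (H.DC (h1 (h4 _))) hd)⟩
  have h7 := hIX X hp h h' _ a1 _ a2 ((sq _).symm.trans (Ev.conj_pow' (h5 _))) (fun e => by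
    rw [← inv_inv g, inv_inv g⁻¹, conj_eq_one_iff] at e
    simpa using h3 _ e 0) (fun e => hD _ (h1 (h4 _)) (e.of_conj hg)) _ h6 _ h6
  have h8 := h7.elim (fun e => mul_mem e e) fun e => e.elim (fun e => mul_mem e e) id
  rw [show g⁻¹ * d * g * (g⁻¹ * d * g) = g⁻¹ * (d * d) * g by group, ← e2] at h8
  have hZ := Set.insert_subset a1 (Set.singleton_subset_iff.2 a2)
  obtain ⟨c, b1, b2⟩ := toral_cen hZ (Set.toFinite _) h8 (not_dvd_ord Nat.prime_two hp.symm (Ev.conj_pow' (h5 _)))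
  have b3 := X.cen_le_centralizer hZ b1
  have h9 := le_of_basis φ (K := cj (g * c) X.T) fun i => by
    rw [mem_cj, show ∀ z, (g * c)⁻¹ * z * (g * c) = c⁻¹ * (g⁻¹ * z * g * c) from fun _ => by group]
    fin_cases i
    · exact b3 _ (.inl rfl) ▸ by simpa using a1
    · exact b3 _ (.inr rfl) ▸ by simpa using a2
    · exact mul_assoc c⁻¹ _ c ▸ b2
  obtain ⟨y, hy, hN, k1, -⟩ := SB.Exc.Max.exists_conj_le_T X (Z := V) (fun z hz => (hG z (h1 hz)).2.symm ▸ hz)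
    (mul_mem hg (X.cen_le_G _ b1)) fun z hz => mem_cj.1 (h9 (e ▸ hz))
  exact p3_T hp (h.conj hy hN) (h'.conj hy hN) H ((Pure_conj hy hN).2 hD) h1 k1 h2 iV hc h0

/-- **[P5]** -/
theorem boxP5 : BoxP5 := fun {p} _ {k} _ _ {Y} _ _ _ _ _ {F} {G} _ X hp h h' e w hI D C Γ V g H hL hD hV hT h2 hc => by
  obtain ⟨u, hu, -, h3, h4⟩ := exists_pu hp h hT h2 (fun t ht => hD t (hV ht)) (n := 4) hc
  obtain ⟨h5, h6⟩ := h'.p4 u hu
  rw [h5] at h4
  obtain ⟨m, hm⟩ := Nodes.Reps.exists_rp X.cs X.nsys w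
  have odd : Odd (p ^ e) := ((Fact.out : p.Prime).odd_of_ne_two hp).pow
  have hF : ∀ v, F (tv X v) = tv X (X.Wm w *ᵥ v) := fun v => by
    obtain ⟨i, hi⟩ := odd
    rw [F_eq hI hm (tv_mem v), conj_tv hm, hi, pow_succ, pow_mul, sq, tv_sq, one_pow, one_mul]
  have hN : ∀ x ∈ C, x ∈ X.NN := fun x hx => TO.E6.mem_NN_of_empty X hT h4 (H.le (H.CΓ hx)).1 fun z hz => by
    rw [mul_assoc, ← comm_D H hx (hV hz), inv_mul_cancel_left]
    exact hT hz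
  let U : Subgroup Y :=
    { carrier := {t | t ∈ X.T ∧ F t = t ∧ t * t = 1}
      one_mem' := ⟨one_mem _, map_one _, mul_one _⟩
      mul_mem' := fun {a b} ha hb => ⟨mul_mem ha.1 hb.1, by rw [map_mul, ha.2.1, hb.2.1], by
        rw [mul_assoc, ← mul_assoc b, X.T_comm hb.1 ha.1, mul_assoc, hb.2.2, mul_one, ha.2.2]⟩
      inv_mem' := fun {a} ha => by rwa [inv_eq_of_mul_eq_one_right ha.2.2] }
  have iU : Iv (X.NN ⊓ GF F G) U := fun x hx t ht => ⟨X.conj_mem_T hx.1 ht.1, by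
    rw [map_mul, map_mul, map_inv, (mem_GF.1 hx.2).2, ht.2.1], by
    rw [show x * t * x⁻¹ * (x * t * x⁻¹) = x * (t * t) * x⁻¹ by group, ht.2.2, mul_one, mul_inv_cancel]⟩
  have hU : U ≤ D := H.core U (fun _ ht => ⟨X.T_le_G ht.1, ht.2.1⟩) (pg_of_sq fun _ ht => ht.2.2)
    fun x hx => iU x ⟨hN x hx, H.le (H.CΓ hx)⟩
  have h7 : ∀ c, X.Rt c → X.act w c ≠ c ∧ X.act w c ≠ -c := fun c hc => by
    have h8 : F (ct X c (-1)) ≠ ct X c (-1) := fun e => hD _ (hU ⟨ct_mem _ _, e, Ev.ct_sq c⟩) (rt_ct hc)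
    rw [← tv_cor, hF, ← X.cor_act w hc] at h8
    exact ⟨fun e => h8 (by rw [e]), fun e => h8 (by rw [e, tv_cor, ct_neg' hc, tv_cor])⟩
  have h0 : 0 < orderOf g := Nat.pos_of_ne_zero fun e => hL.reg (e ▸ dvd_zero 2)
  have h8 : (orderOf g).Coprime 2 := ((Nat.Prime.coprime_iff_not_dvd Nat.prime_two).2 hL.reg).symm
  have gT : g ∈ X.T := TO.E6.mem_T_of_cop X hT h4 hL.mem.1 (fun z hz => hL.comm z (hV hz)) h0
    (fun z hz => ⟨2, h8.symm, (sq z).trans (h2 z hz)⟩) (by rw [pow_orderOf_eq_one]; exact one_mem _)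
  have hg : ({g} : Set Y) ⊆ X.T := Set.singleton_subset_iff.2 gT
  have h9 : D ≤ X.T := fun d hd => by_contra fun h1 => by
    obtain ⟨j, hj⟩ := H.pg ⟨d, hd⟩
    obtain ⟨a, ha, -⟩ := TO.E6.exists_root X hg (X.rp_pr (hN d (H.DC hd))) (fun _ e => e ▸ (hL.comm d hd).symm)
      (fun e => h1 ((X.pr_eq_one_iff (hN d (H.DC hd))).1 e)) (n := 2 ^ j) (by positivity)
      (X.rp_unique (TO.X.Cn.rp_pow X (X.rp_pr (hN d (H.DC hd))) _) (by
        rw [show d ^ 2 ^ j = 1 from congrArg Subtype.val hj]; exact rp_one))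
      fun _ e => ⟨_, h8.pow_right j, e ▸ pow_orderOf_eq_one g⟩
    have hb : X.act w a ∈ X.Sz {g} := ⟨ha.1.act w, fun _ e => by
      rw [e, ← (mem_GF.1 hL.mem).2, F_eq hI hm gT, TO.E6.χ_pow X _ (X.conj_mem_T ⟨w, hm⟩ gT), X.χ_rp hm a gT, ha.2 g rfl,
        one_pow]⟩
    have k1 := h6 w (fun i => ev_of_dvd ((tv_eq_one hp).1 (by
      rw [tv_sub, ← hF, (mem_GF.1 (hL.le (hV (h3 i)))).2, tv_sq]))) a ha.1
    rw [CF.act_mul] at k1
    have k2 := orth_w h.toLS h7 ha.1 k1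
    have k3 : X.rf a * X.rf (X.act w a) = X.rf (X.act w a) * X.rf a := by
      rw [← mul_inv_eq_iff_eq_mul, eq_comm, ← inv_inv (X.rf a), eq_comm, inv_inv, mul_inv_eq_iff_eq_mul,
        ← mul_inv_eq_iff_eq_mul, ← X.rf_act' _ hb.1, TW.act_rf ha.1]
      rw [show TW.pr X (X.act w a) a = 0 from (h.symm hb.1 ha.1).trans k2, zero_smul, sub_zero]
    have k4 : w * (X.rf a * X.rf (X.act w a)) = X.rf a * X.rf (X.act w a) * w := by
      rw [← mul_inv_eq_iff_eq_mul, show w * (X.rf a * X.rf (X.act w a)) * w⁻¹ =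
        w * X.rf a * w⁻¹ * (w * X.rf (X.act w a) * w⁻¹) by group, ← X.rf_act' w ha.1, ← X.rf_act' w hb.1, k3]
      rcases k1 with e | e <;> rw [e]
      rw [X.rf_neg ha.1]
    obtain ⟨n, n1, n2⟩ := TO.E6.exists_fix_rep X (u := X.rf a * X.rf (X.act w a)) (by
      rw [hI.2, Matrix.smul_mul, Matrix.mul_smul, ← X.Wm_mul, ← X.Wm_mul, k4])
    obtain ⟨n', n3, n4⟩ := TO.E6.rp_cen X (Z := {g}) (mul_mem (subset_closure ⟨_, ha, rfl⟩) (subset_closure ⟨_, hb, rfl⟩))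
    have n5 : n ∈ (X.NN ⊓ GF F G) ⊓ centralizer {g} := ⟨⟨⟨_, n1⟩, Datum.Rp.mem_G n1, n2⟩,
      X.cen_le_centralizer hg ((TO.X.Cn.mem_WZ X n1).1 ⟨n', n3, n4⟩)⟩
    have := H.fin
    have : Finite ↥((X.NN ⊓ GF F G) ⊓ centralizer {g}) :=
      Finite.of_injective _ (inclusion_injective (inf_le_left.trans inf_le_right))
    obtain ⟨s, o, ho, k5⟩ := Nat.exists_eq_two_pow_mul_odd (orderOf_pos (⟨n, n5⟩ : ↥((X.NN ⊓ GF F G) ⊓ centralizer {g}))).ne'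
    obtain ⟨i, hi⟩ := not_forall.1 fun e => (h5.subset ⟨ha.1, e⟩ : a ∈ (∅ : Set _))
    have k6 := abs5 (H := (X.NN ⊓ GF F G) ⊓ centralizer {g}) (D := D) (U := U)
      (fun x hx => ⟨⟨hN x (H.DC hx), hL.le hx⟩, fun _ e => e ▸ (hL.comm x hx).symm⟩) H.pg
      (fun P k1 k2 k3 => hL.syl P (fun _ hx => (k1 hx).1.2) k2 k3 fun x hx => ((k1 hx).2 g rfl).symm)
      (fun x hx => iU x hx.1) (fun x hx z hz => comm_D H (H.DC hx) (hU hz)) (pow_mem n5 o) (j := s) (by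
        rw [← pow_mul, mul_comm, ← k5]
        exact congrArg Subtype.val (pow_orderOf_eq_one (⟨n, n5⟩ : ↥((X.NN ⊓ GF F G) ⊓ centralizer {g}))))
      (u := tv X (u i)) ⟨tv_mem _, (hL.le (hV (h3 i))).2, tv_sq _⟩
    have k7 := TO.X.Cn.rp_pow X n1 o
    obtain ⟨l, rfl⟩ := ho
    rw [pow_succ, pow_mul, sq, show X.rf a * X.rf (X.act w a) * (X.rf a * X.rf (X.act w a)) = 1 by
      rw [mul_assoc, ← mul_assoc (X.rf (X.act w a)), ← k3, mul_assoc, X.rf_mul_self hb.1, mul_one, X.rf_mul_self ha.1],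
      one_pow, one_mul] at k7
    refine not_ev h.toLS ha.1 hb.1 k2 hi (ev_of_dvd ((tv_eq_one hp).1 ?_))
    rw [tv_sub, ← conj_tv k7, k6, mul_inv_cancel_right, tv_sq]
  intro d hd
  obtain ⟨ζ, v, -, -, e⟩ := TO.X.Cn.exists_exp X (h9 hd)
  exact e ▸ mem_Z0 (fun b hb => (h4.subset (Sz_anti hV hb)).elim) ζ

end Cfsg.Agent.KM.E2
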