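import Cfsg.Agent.KM.E2.E8a
import Cfsg.Agent.KM.Uu.U
import Cfsg.Agent.KM.Two.Blk2

/-!
# KM, `l = 2`, type `E₈` : the assembly (helper13)

* `E8.tor_root`, `E8.tor_pure`, `E8.torB`, **`tx_e8_of`**.
-/

set_option autoImplicit false
set_option linter.unusedSectionVars false

namespace Cfsg.Agent.KM.E2

open Cfsg Cfsg.Lie Cfsg.Agent.DL Cfsg.Agent.Nodes.Reps Cfsg.Agent.Nodes.BNOf Matrix Subgroup Cfsg.Agent.KM.Ht
open Cfsg.Agent.KM.Tor Cfsg.Agent.KZ.DatX Cfsg.Agent.Nodes.RGDChev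
open Cfsg.Agent.TO.X5 (ct Lg ct_mem conj_ct)
open Cfsg.Agent.KM.Ev (Pe Lp conj_comm conj_pow')

namespace E8

variable {p : ℕ} [Fact p.Prime] {k : Type} [Field k] [CharP k p] {Y : Type} [Group Y] {N : Type} [Fintype N]
  [DecidableEq N] {ρ : Y →* GL N k} {F : MulAut Y} {G : Subgroup Y} [IsAlgClosed k] {X : Datum p ρ F G}
  {D C Γ : Subgroup Y} {e : ℕ} {w : X.W} {t : Y}

/-- the property `(U)` in all frames -/
def HU (X : Datum p ρ F G) (D : Subgroup Y) : Prop := ∀ (y : Y) (hy : y ∈ G) (hN : y⁻¹ * F y ∈ X.NN), D ≤ (X.conj hy hN).T →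
  ∃ z ∈ (X.conj hy hN).cen D, z⁻¹ * F z ∈ (X.conj hy hN).NN ∧ Uu.SylIn F 2 (cj z (X.conj hy hN).T) D

variable (hp : p ≠ 2) (h8 : L8 X) (hI : Inn X e w) (L : Lz (GF F G) ⊥ D C Γ) (A : Act ⊥ D C Γ)
include hp h8 hI L A

theorem tor_root (hA1 : BoxA1) (hS : BoxSat) (hTA : BoxTA) (hD4 : BoxD4) (hU : HU X D) (ht : t ∈ D) (h : RT X t) :
    Toral X D := by
  have hF : ∀ z ∈ (D : Set Y), F z ∈ (D : Set Y) := fun z hz => by rwa [(mem_GF.1 (L.le (L.CΓ (L.DC hz)))).2]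
  obtain ⟨y, hy, hN, h1⟩ := hA1 X hp h8.toLS ⊥ D C Γ L bot_le
  obtain ⟨a, ha, h2⟩ := h1.rt t ht ((RT_conj hy hN).2 h)
  rcases root hp (h8.conj hy hN) L h1 hTA hD4 A ⟨ha, h2 ▸ ht⟩ with h3 | h3
  · exact toral_conj hy hN h3
  obtain ⟨g, hg, h4⟩ := tor_of hp (h8.conj hy hN) L h1 hTA h3
  obtain ⟨x, hx, hM, h5, -⟩ := SB.Exc.Max.exists_conj_le_T X hF (mul_mem hg hy) fun z hz => by
    have := mem_cj.1 (h4 z hz)
    rwa [show y⁻¹ * (g⁻¹ * z * g) * y = (g * y)⁻¹ * z * (g * y) by group] at this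
  obtain ⟨z, hz, hZ, h6⟩ := hU x hx hM h5
  have h7 := (X.conj hx hM).cen_le_G _ hz
  have h9 : D ≤ ((X.conj hx hM).conj h7 hZ).T := Uu.le_cj h5 hz
  have k8 := (h8.conj hx hM).conj h7 hZ
  have h10 : Ad ((X.conj hx hM).conj h7 hZ) D := ⟨fun s hs e => e.eq (h9 hs), 1, one_mem _,
    fun _ _ => by rw [one_mul, mul_one], fun d hd => by rw [inv_one, one_mul, mul_one]; exact mem_sup_left (h9 hd)⟩
  obtain ⟨b, hb, h11⟩ := h10.rt t ht ((RT_conj h7 hZ).2 ((RT_conj hx hM).2 h))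
  refine toral_conj hx hM ?_
  rcases root hp k8 L h10 hTA hD4 A ⟨hb, h11 ▸ ht⟩ with h3 | h3
  · exact toral_conj h7 hZ h3
  exact ⟨z, h7, hZ, hS _ hp k8.sl _ h9 (pel L) fun ⟨s, s1, s2, s3⟩ =>
    h3 ⟨s, s1, fun a ha => sz_sub hp k8 L ((hI.conj hx hM).conj h7 hZ) h6 (s2 a ha), s3⟩⟩

theorem tor_pure (hP : P8 X) (hP3 : BoxP3) (hP4 : BoxP4) (hP5 : BoxP5) {g : Y} (hL : Loc 2 (GF F G) D g)
    (h1 : 16 < Nat.card D) (h : Pure X D) : Toral X D := by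
  obtain ⟨W, hW⟩ := exists_om A
  have h2 : W ≤ D := fun d hd => ((hW d).1 hd).1
  by_cases h3 : Nat.card W ≤ 15
  · obtain ⟨h4, h5, h6⟩ := pure8 hW L A h3 h1
    exact (hP3 X hp h8 hP D C Γ W L h hW h4 h5 h6).elim
  have := fin L h2
  have : Fact (Nat.Prime 2) := ⟨Nat.prime_two⟩
  obtain ⟨n, hn⟩ := IsPGroup.iff_card.1 (L.pg.to_le h2)
  obtain ⟨K, hK⟩ := Sylow.exists_subgroup_card_pow_prime (G := W) 2 (n := 4) (hn ▸ pow_dvd_pow 2 (by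
    by_contra! h4
    have := Nat.pow_le_pow_right two_pos (Nat.le_of_lt_succ h4)
    omega))
  have h4 : K.map W.subtype ≤ W := map_subtype_le K
  have h5 : Nat.card (K.map W.subtype) = 16 := (card_map_of_injective W.subtype_injective).trans hK
  generalize K.map W.subtype = V at h4 h5
  have h6 : V ≤ GF F G := h4.trans (h2.trans hL.le)
  have h7 : ∀ v ∈ V, v * v = 1 := fun v hv => ((hW v).1 (h4 hv)).2
  obtain ⟨x, hx, h9⟩ := hP4 X hp h8 hP V (fun v hv => (h6 hv).1) h7 (fun v hv => h v (h2 (h4 hv))) h5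
  obtain ⟨y, hy, hN, h10, -⟩ := SB.Exc.Max.exists_conj_le_T X (Z := V) (fun z hz => by rwa [(mem_GF.1 (h6 hz)).2]) hx h9
  exact ⟨y, hy, hN, hP5 _ hp (h8.conj hy hN) (hP.conj hy hN) e _ (hI.conj hy hN) D C Γ V g L hL ((Pure_conj hy hN).2 h)
    (h4.trans h2) h10 h7 h5⟩

omit L A in
theorem torB (hP : P8 X) (hG : BoxG) (hK : BoxK) (hA1 : BoxA1) (hS : BoxSat) (hTA : BoxTA) (hD4 : BoxD4) (hP3 : BoxP3)
    (hP4 : BoxP4) (hP5 : BoxP5) : Ex.TorB X 2 := fun M B D hM hB hD hab _ _ => by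
  have := X.amb.finite_GF G
  have : Fact (Nat.Prime 2) := ⟨Nat.prime_two⟩
  have hc : ∀ a ∈ D, ∀ b ∈ D, a * b = b * a := fun a ha b hb => congrArg Subtype.val (hab.1.1 ⟨a, ha⟩ ⟨b, hb⟩)
  by_cases h1 : Nat.card D ≤ 16
  · exact .inr (Two.hz_small hM hB hD hc h1)
  obtain ⟨θ, H⟩ := TO.boxCAN0 _ 2 M B D hM hB hD fun a ha b hb => hc b hb a ha
  refine (hK Y _ (GF F G) ⊥ (MonoidHom.id _) M B D θ Function.surjective_id bot_le
    (fun h => ⟨fun e => congrArg Subtype.val e, fun e => Subtype.ext e⟩)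
    (fun z hz g _ => by rw [mem_bot.1 hz, one_mul, mul_one]) IsPGroup.of_bot hB H).symm.imp_left fun L => ?_
  rw [up, comap_id] at L
  by_cases h2 : Pure X (D.map (GF F G).subtype)
  · obtain ⟨g, hL⟩ := boxLoc 2 _ Y (GF F G) (GF F G).subtype M B D hM hB hD (fun x => x.2) (by rw [ker_subtype]; exact bot_le)
      (by rw [ker_subtype, card_bot]; decide) fun h e _ => ⟨⟨h, e⟩, rfl⟩
    exact tor_pure hp h8 hI L (hG _ _ _ _ _ _ L) hP hP3 hP4 hP5 hL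
      (by rw [card_map_of_injective (GF F G).subtype_injective]; omega) h2
  · obtain ⟨t, ht, h3⟩ : ∃ t ∈ D.map (GF F G).subtype, RT X t := by simpa only [Pure, not_forall, not_not, exists_prop] using h2
    exact tor_root hp h8 hI L (hG _ _ _ _ _ _ L) hA1 hS hTA hD4 (fun _ _ _ => Uu.syl_of_block hM hB hD) ht h3

end E8

/-- **`E₈` at `l = 2` from the boxes** -/
theorem tx_e8_of (hL : BoxL8) (hP : BoxP8) (hG : BoxG) (hK : BoxK) (hA1 : BoxA1) (hS : BoxSat) (hTA : BoxTA) (hD4 : BoxD4)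
    (hP3 : BoxP3) (hP4 : BoxP4) (hP5 : BoxP5) : Ex.TX hpE8 1 2 := fun r _ _ k _ _ _ X he hr =>
  E8.torB hr.symm (hL r k _ X) (w := 1) ⟨he, by rw [X.D.Wm_one]; rfl⟩ (hP r k _ X) hG hK hA1 hS hTA hD4 hP3 hP4 hP5

end Cfsg.Agent.KM.E2
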