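import Cfsg.Agent.KM.E2.Tool

/-!
# KM, `l = 2`, type `E₈` : bases of elementary abelian subgroups (helper74)

* `exists_hom`, `le_of_basis` : a group of exponent two and order `2 ^ n` is a quotient of `ℤ ^ n`;
* `exists_pu` : the pure family of a pure subgroup of the torus.
-/

set_option autoImplicit false
set_option linter.unusedSectionVars false

namespace Cfsg.Agent.KM.E2

open Cfsg Cfsg.Lie Cfsg.Agent.DL Cfsg.Agent.Nodes.Reps Cfsg.Agent.Nodes.BNOf Matrix Subgroup Cfsg.Agent.KM.Ht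
open Cfsg.Agent.KM.Tor Multiplicative

section Grp

variable {Y : Type} [Group Y]

theorem comm_of_sq {V : Subgroup Y} (h2 : ∀ v ∈ V, v * v = 1) {a b : Y} (ha : a ∈ V) (hb : b ∈ V) : a * b = b * a := by
  have h := h2 _ (mul_mem ha hb)
  calc a * b = a * (a * b * (a * b))⁻¹ * b := by rw [h, inv_one, mul_one]
    _ = a * b⁻¹ * a⁻¹ * b⁻¹ * a⁻¹ * b := by group
    _ = _ := by
      rw [inv_eq_of_mul_eq_one_right (h2 a ha), inv_eq_of_mul_eq_one_right (h2 b hb),
        show a * b * a * b * a * b = a * b * (a * b) * (a * b) by group, h, one_mul,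
        ← inv_eq_of_mul_eq_one_right h, _root_.mul_inv_rev, inv_eq_of_mul_eq_one_right (h2 a ha),
        inv_eq_of_mul_eq_one_right (h2 b hb)]

/-- a basis of an elementary abelian `2`-group -/
theorem exists_hom (V : Subgroup Y) (h2 : ∀ v ∈ V, v * v = 1) {n : ℕ} (hc : Nat.card V = 2 ^ n) :
    ∃ φ : Multiplicative (Fin n → ℤ) →* Y, φ.range = V ∧ ∀ ε, φ (ofAdd ε) = 1 → ∀ i, 2 ∣ ε i := by
  have : Finite V := Nat.finite_of_card_ne_zero (by rw [hc]; positivity)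
  let _ : CommGroup V := { (inferInstance : Group V) with mul_comm := fun a b => Subtype.ext (comm_of_sq h2 a.2 b.2) }
  let _ : Module (ZMod 2) (Additive V) := AddCommGroup.zmodModule (n := 2) fun x => by
    rw [two_nsmul]
    exact Subtype.ext (h2 _ (Additive.toMul x).2)
  have h3 : Module.finrank (ZMod 2) (Additive V) = n := by
    have := Module.natCard_eq_pow_finrank (K := ZMod 2) (V := Additive V)
    rw [Nat.card_zmod] at this
    exact Nat.pow_right_injective le_rfl (this.symm.trans hc)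
  let b := Module.finBasisOfFinrankEq (ZMod 2) (Additive V) h3
  let ψ : (Fin n → ℤ) →+ Additive V := (Fintype.linearCombination ℤ b).toAddMonoidHom
  have hψ : ∀ ε, ψ ε = ∑ i, (ε i : ZMod 2) • b i := fun ε =>
    (Fintype.linearCombination_apply ℤ b ε).trans (Finset.sum_congr rfl fun i _ => (Int.cast_smul_eq_zsmul _ _ _).symm)
  refine ⟨V.subtype.comp (AddMonoidHom.toMultiplicativeLeft ψ), le_antisymm ?_ fun v hv => ?_, fun ε h i => ?_⟩
  · rintro _ ⟨x, rfl⟩
    exact Subtype.property _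
  · refine ⟨ofAdd fun i => ((b.repr (Additive.ofMul ⟨v, hv⟩) i).cast : ℤ), ?_⟩
    have := hψ fun i => ((b.repr (Additive.ofMul ⟨v, hv⟩) i).cast : ℤ)
    simp only [ZMod.intCast_zmod_cast, b.sum_repr] at this
    exact congrArg (fun x : Additive V => ((Additive.toMul x : V) : Y)) this
  · have h4 : ψ ε = 0 := Subtype.ext h
    rw [hψ] at h4
    exact (ZMod.intCast_zmod_eq_zero_iff_dvd _ 2).1 (Fintype.linearIndependent_iff.1 b.linearIndependent _ h4 i)

theorem mem_of_single {n : ℕ} {K : Subgroup (Multiplicative (Fin n → ℤ))} (h : ∀ i, ofAdd (Pi.single i 1) ∈ K)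
    (x : Multiplicative (Fin n → ℤ)) : x ∈ K := by
  have e : x = ∏ i, ofAdd (Pi.single i (1 : ℤ) : Fin n → ℤ) ^ (toAdd x i) := by
    apply toAdd.injective
    rw [toAdd_prod]
    simp only [toAdd_zpow, toAdd_ofAdd]
    exact pi_eq_sum_univ' _
  rw [e]
  exact prod_mem fun i _ => zpow_mem (h i) _

theorem le_of_basis {n : ℕ} (φ : Multiplicative (Fin n → ℤ) →* Y) {K : Subgroup Y}
    (h : ∀ i, φ (ofAdd (Pi.single i 1)) ∈ K) : φ.range ≤ K := by
  rintro _ ⟨x, rfl⟩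
  exact mem_of_single (K := K.comap φ) h x

end Grp

variable {p : ℕ} [Fact p.Prime] {k : Type} [Field k] [CharP k p] {Y : Type} [Group Y] {N : Type} [Fintype N]
  [DecidableEq N] {ρ : Y →* GL N k} {F : MulAut Y} {G : Subgroup Y} [IsAlgClosed k] {X : Datum p ρ F G}

/-- a basis of an elementary abelian subgroup of the torus -/
theorem exists_basis {V : Subgroup Y} (hT : V ≤ X.T) (h2 : ∀ v ∈ V, v * v = 1) {n : ℕ} (hc : Nat.card V = 2 ^ n) :
    ∃ u : Fin n → X.R → ℤ, (∀ v, v ∈ V ↔ ∃ ε : Fin n → ℤ, v = tv X (∑ i, ε i • u i)) ∧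
      ∀ ε : Fin n → ℤ, tv X (∑ i, ε i • u i) = 1 → ∀ i, 2 ∣ ε i := by
  obtain ⟨φ, rfl, h⟩ := exists_hom V h2 hc
  choose u hu using fun i : Fin n => exists_inv (X := X) (hT ⟨ofAdd (Pi.single i 1), rfl⟩) (h2 _ ⟨_, rfl⟩)
  let ψ : Multiplicative (Fin n → ℤ) →* Y := MonoidHom.mk' (fun x => tv X (∑ i, toAdd x i • u i)) fun x y => by
    rw [← tv_add, ← Finset.sum_add_distrib]
    exact congrArg _ (Finset.sum_congr rfl fun i _ => add_smul _ _ _)
  have e : ∀ x, φ x = ψ x := fun x => mem_of_single (K := φ.eqLocus ψ) (fun i => (hu i).trans (congrArg _ (by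
    simp [Pi.single_apply]))) x
  exact ⟨u, fun v => ⟨fun ⟨x, hx⟩ => ⟨toAdd x, hx.symm.trans (e x)⟩, fun ⟨ε, hv⟩ => ⟨ofAdd ε, (e _).trans hv.symm⟩⟩,
    fun ε h1 => h ε ((e _).trans h1)⟩

/-- the pure family of a pure subgroup of the torus -/
theorem exists_pu (hp : p ≠ 2) (h : L8 X) {V : Subgroup Y} (hT : V ≤ X.T) (h2 : ∀ v ∈ V, v * v = 1) (hV : Pure X V)
    {n : ℕ} (hc : Nat.card V = 2 ^ n) : ∃ u : Fin n → X.R → ℤ, Pu X u ∧
      (∀ v, v ∈ V ↔ ∃ ε : Fin n → ℤ, v = tv X (∑ i, ε i • u i)) ∧ (∀ i, tv X (u i) ∈ V) ∧ X.Sz V = Rf X u := by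
  obtain ⟨u, h1, h3⟩ := exists_basis hT h2 hc
  have h4 : ∀ i, tv X (u i) ∈ V := fun i => (h1 _).2 ⟨Pi.single i 1, congrArg _ (by simp [Pi.single_apply])⟩
  refine ⟨u, fun ε => ⟨fun e => hV _ ((h1 _).2 ⟨ε, rfl⟩) ((h.rt_iff hp).2 e), fun e => h3 ε (tv_of_dvd (h.ev _ e))⟩,
    h1, h4, Set.ext fun a => and_congr_right fun _ => ⟨fun e i => (χ_tv hp a _).1 (e _ (h4 i)), fun e z hz => ?_⟩⟩
  obtain ⟨ε, rfl⟩ := (h1 z).1 hz
  rw [χ_tv hp, dotProduct_sum]
  exact Finset.dvd_sum fun i _ => by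
    rw [dotProduct_smul]
    exact (e i).mul_left _

end Cfsg.Agent.KM.E2
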