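import Cfsg.Agent.KM.E2.IX
import Cfsg.Agent.KM.E2.Bas

/-!
# KM, `l = 2`, type `E₈` : pure elementary abelian subgroups of order sixteen are toral (helper27)

* **`boxP4`**.
-/

set_option autoImplicit false
set_option linter.unusedSectionVars false

namespace Cfsg.Agent.KM.E2

open Cfsg Cfsg.Agent.DL Cfsg.Agent.Nodes Cfsg.Agent.Nodes.Reps Cfsg.Agent.Nodes.BNOf Cfsg.Agent.Nodes.Coroot Matrix Subgroup
open Cfsg.Agent.KM.Ht Cfsg.Agent.KM.Tor
open Cfsg.Agent.TO.X5 (ct ct_S ct_mem conj_ct)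
open Cfsg.Agent.KM.Ev (conj_comm conj_pow' cj_mul' cj_eq_one)
open Cfsg.Agent.TO.X.Cn (mem_cen mem_WZ rf_mem_WZ)

namespace Q4

/-- the coordinate space -/
abbrev W4 : Type := Fin 4 → ZMod 2

/-- independent triples -/
def I3 (x y z : W4) : Prop := ∀ i j l : ZMod 2, i • x + j • y + l • z = 0 → i = 0 ∧ j = 0 ∧ l = 0

/-- bases -/
def I4 (x y z w : W4) : Prop := I3 x y z ∧ I3 x y w ∧ I3 x y (z + w) ∧
  ∀ v, ∃ i j l m : ZMod 2, v = i • x + j • y + l • z + m • w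

section Grp

variable {Y : Type} [Group Y]

theorem exists_e (V : Subgroup Y) (h2 : ∀ v ∈ V, v * v = 1) (hc : Nat.card V = 16) :
    ∃ e : W4 → Y, (∀ x y, e (x + y) = e x * e y) ∧ (∀ x, e x = 1 → x = 0) ∧ ∀ v, v ∈ V ↔ ∃ x, e x = v := by
  have : Finite V := Nat.finite_of_card_ne_zero (by rw [hc]; positivity)
  let _ : CommGroup V := { (inferInstance : Group V) with mul_comm := fun a b => Subtype.ext (comm_of_sq h2 a.2 b.2) }
  let _ : Module (ZMod 2) (Additive V) := AddCommGroup.zmodModule (n := 2) fun x => by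
    rw [two_nsmul]
    exact Subtype.ext (h2 _ (Additive.toMul x).2)
  have h3 : Module.finrank (ZMod 2) (Additive V) = 4 := by
    have := Module.natCard_eq_pow_finrank (K := ZMod 2) (V := Additive V)
    rw [Nat.card_zmod] at this
    exact Nat.pow_right_injective le_rfl (this.symm.trans hc)
  let b := (Module.finBasisOfFinrankEq (ZMod 2) (Additive V) h3).equivFun.symm
  exact ⟨fun x => (Additive.toMul (b x) : V), fun x y => congrArg (fun t : Additive V => ((Additive.toMul t : V) : Y)) (map_add b x y),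
    fun x h => b.map_eq_zero_iff.1 (Subtype.ext h), fun v =>
      ⟨fun hv => ⟨b.symm (Additive.ofMul ⟨v, hv⟩), congrArg (fun t : Additive V => ((Additive.toMul t : V) : Y))
        (b.apply_symm_apply _)⟩, fun ⟨x, e⟩ => e ▸ Subtype.property _⟩⟩

/-- components in a central product -/
theorem comm_of_prod {A B : Subgroup Y} (hc : ∀ x ∈ A, ∀ y ∈ B, x * y = y * x) (hz : ∀ z ∈ A, z ∈ B → z * z = 1)
    {c c' d d' f f' : Y} (h1 : c ∈ A) (h2 : c' ∈ B) (h3 : d ∈ A) (h4 : d' ∈ B) (h5 : f ∈ A) (h6 : f' ∈ B) (c2 : c * c = 1)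
    (d2 : d * d = 1) (f2 : f * f = 1) (h : c * c' * (d * d') = f * f') : c * (d * d') = d * d' * c := by
  have e : f⁻¹ * (c * d) = f' * (c' * d')⁻¹ := by
    rw [eq_mul_inv_iff_mul_eq, mul_assoc, inv_mul_eq_iff_eq_mul, ← h, mul_assoc, mul_assoc, ← mul_assoc d, hc d h3 c' h2,
      mul_assoc]
  have hB : f⁻¹ * (c * d) ∈ B := e ▸ mul_mem h6 (inv_mem (mul_mem h2 h4))
  have h7 := hz _ (mul_mem (inv_mem h5) (mul_mem h1 h3)) hB
  have h8 : c * d * (c * d) = 1 := by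
    rw [← mul_inv_cancel_left f (c * d), mul_assoc, ← mul_assoc _ f, ← hc f h5 _ hB, mul_assoc f, h7, mul_one, f2]
  have h9 : c * d = d * c := by
    rw [← inv_eq_of_mul_eq_one_right h8, _root_.mul_inv_rev, inv_eq_of_mul_eq_one_right c2, inv_eq_of_mul_eq_one_right d2]
  rw [← mul_assoc, h9, mul_assoc, hc c h1 d' h4, mul_assoc]

theorem nrm {A K : Subgroup Y} {g : Y} (h : ∀ g ∈ K, ∀ m ∈ A, g * m * g⁻¹ ∈ A) (hg : g ∈ K) : g ∈ normalizer (A : Set Y) :=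
  mem_normalizer_iff.2 fun m => ⟨h g hg m, fun e => by simpa [mul_assoc] using h _ (inv_mem hg) _ e⟩

end Grp

variable {p : ℕ} [Fact p.Prime] {k : Type} [Field k] [CharP k p] {Y : Type} [Group Y] {N : Type} [Fintype N]
  [DecidableEq N] {ρ : Y →* GL N k} {F : MulAut Y} {G : Subgroup Y} [IsAlgClosed k] {X : Datum p ρ F G}
  {e : W4 → Y} {x y z w : W4} {g : Y} {R A B : Set (X.I → ℤ)}

/-! ### roots -/

theorem T_le_S (hR : ∀ a ∈ R, X.Rt a) (hn : ∀ a ∈ R, -a ∈ R)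
    (h : ∀ v : X.R → ℤ, (2 : ℤ) • v ∈ Submodule.span ℤ (X.cor '' R)) : X.T ≤ X.S R := fun t ht => by
  classical
  have h1 : ∀ v ∈ Submodule.span ℤ (X.cor '' R), ∀ s : kˣ, X.τ (coch v s) ∈ X.S R := fun v hv => by
    induction hv using Submodule.span_induction with
    | mem _ hv =>
      obtain ⟨a, ha, rfl⟩ := hv
      exact fun s => RGD.Sup_mono (Set.insert_subset ha (Set.singleton_subset_iff.2 (hn a ha))) (ct_S (hR a ha) s)
    | zero => exact fun s => by rw [show coch (0 : X.R → ℤ) s = 1 from funext fun _ => zpow_zero _, map_one]; exact one_mem _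
    | add _ _ _ _ h5 h6 => exact fun s => by rw [coch_add, map_mul]; exact mul_mem (h5 s) (h6 s)
    | smul m _ _ h5 => exact fun s => by rw [coch_zsmul]; exact h5 _
  obtain ⟨c, rfl⟩ := (X.mem_T t).1 ht
  rw [← prod_coch_single c]
  refine prod_mem (S := (X.S R).comap X.τ) fun j _ => ?_
  obtain ⟨s, hs⟩ := exists_zpow_eq (k := k) two_ne_zero (c j)
  rw [← hs, ← coch_zsmul]
  exact h1 _ (h _) s

theorem sq_of_χ (h : ∀ m : X.R → ℤ, (2 : ℤ) • m ∈ Submodule.span ℤ (X.wt '' R)) (hg : g ∈ X.T) (h1 : ∀ a ∈ R, X.χ a g = 1) :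
    g * g = 1 := by
  classical
  obtain ⟨c, rfl⟩ := (X.mem_T g).1 hg
  have h2 : ∀ m ∈ Submodule.span ℤ (X.wt '' R), chr m c = 1 := fun m hm => by
    induction hm using Submodule.span_induction with
    | mem _ hv =>
      obtain ⟨a, ha, rfl⟩ := hv
      exact Units.ext ((X.χ_τ a c).symm.trans (h1 a ha))
    | zero => exact chr_zero c
    | add _ _ _ _ h5 h6 => rw [chr_add, h5, h6, one_mul]
    | smul m _ _ h5 => rw [chr_zsmul, h5, _root_.one_zpow]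
  rw [← map_mul, show c * c = 1 from funext fun j => ?_, map_one]
  have := h2 _ (h (Pi.single j 1))
  rwa [chr_zsmul, chr_single, zpow_ofNat, sq] at this

theorem eq_one_of_fix (h : ∀ m : X.R → ℤ, (2 : ℤ) • m ∈ Submodule.span ℤ (X.wt '' R)) {v : X.W}
    (h1 : ∀ a ∈ R, X.act v a = a) : v = 1 := by
  classical
  have h2 : ∀ m ∈ Submodule.span ℤ (X.wt '' R), m ᵥ* X.Wm v = m := fun m hm => by
    induction hm using Submodule.span_induction with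
    | mem _ hv =>
      obtain ⟨a, ha, rfl⟩ := hv
      simpa only [h1 a ha] using X.wt_act v a
    | zero => exact zero_vecMul _
    | add _ _ _ _ h5 h6 => rw [add_vecMul, h5, h6]
    | smul m _ _ h5 => rw [smul_vecMul, h5]
  refine X.Wm_injective (X.Wm_one ▸ Matrix.ext fun i j => ?_)
  have := congrFun (h2 _ (h (Pi.single i 1))) j
  rw [smul_vecMul, single_one_vecMul, Pi.smul_apply, Pi.smul_apply, smul_eq_mul, smul_eq_mul,
    mul_right_inj' two_ne_zero] at this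
  simpa [Matrix.one_apply, Pi.single_apply, eq_comm] using this

/-- an element of the Weyl group which preserves the lines of an orthogonal frame of roots -/
theorem mem_of_pm (hR : ∀ a ∈ R, X.Rt a) (ho : ∀ a ∈ R, ∀ b ∈ R, b = a ∨ b = -a ∨ pr X a b = 0)
    (h : ∀ m : X.R → ℤ, (2 : ℤ) • m ∈ Submodule.span ℤ (X.wt '' R)) {H : Subgroup X.W} (hH : ∀ a ∈ R, X.rf a ∈ H) (n : ℕ) :
    ∀ v : X.W, {a ∈ R | X.act v a ≠ a}.ncard = n → (∀ a ∈ R, X.act v a = a ∨ X.act v a = -a) → v ∈ H := by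
  induction n using Nat.strong_induction_on with
  | _ n ih =>
  intro v hn hv
  by_cases h1 : ∀ a ∈ R, X.act v a = a
  · exact eq_one_of_fix h h1 ▸ one_mem _
  push Not at h1
  obtain ⟨b, hb, h1⟩ := h1
  have h2 : X.act (v * X.rf b) b = b := by
    rw [act_mul', X.act_rf_self (hR b hb), Datum.act, map_neg, ← Datum.act, (hv b hb).resolve_left h1, neg_neg]
  have h3 : ∀ a ∈ R, X.act (v * X.rf b) a = a ∨ X.act (v * X.rf b) a = X.act v a := fun a ha => by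
    rcases ho a ha b hb with rfl | rfl | e
    · exact .inl h2
    · exact .inl (neg_injective (by rwa [Datum.act, map_neg] at h2))
    · exact .inr (by rw [act_mul', X.act_rf (hR b hb), ← pr_eq (hR b hb), e, zero_smul, sub_zero])
  have h4 := ih _ (hn ▸ Set.ncard_lt_ncard ⟨fun a ha => ⟨ha.1, (h3 a ha.1).resolve_left ha.2 ▸ ha.2⟩,
    fun e => (e ⟨hb, h1⟩).2 h2⟩ ((fin_of_rt hR).subset fun _ ha => ha.1)) (v * X.rf b) rfl
    fun a ha => (h3 a ha).elim .inl fun e => e ▸ hv a ha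
  exact (mul_mem_cancel_right (hH b hb)).1 h4

theorem conj_S (hA : ∀ a ∈ A, X.Rt a) (hc : ∀ s ∈ X.S A, ∀ t ∈ X.S B, s * t = t * s) (hR : R ⊆ A ∪ B)
    (hg : g ∈ X.T ⊔ X.S R) {m : Y} (hm : m ∈ X.S A) : g * m * g⁻¹ ∈ X.S A := by
  refine (mem_normalizer_iff.1 (sup_le (fun t => nrm fun t ht _ => X.conj_mem_S_of_T hA ht)
    (RGD.Sup_le fun a ha => ?_) hg) m).1 hm
  rcases hR ha with h | h
  · exact (RGD.le_Sup h).trans le_normalizer
  · exact fun t ht => nrm (K := X.S B) (fun t ht s hs => by rwa [← hc s hs t ht, mul_inv_cancel_right]) (RGD.le_Sup h ht)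

theorem sz2 (hp : p ≠ 2) (u : Fin 2 → X.R → ℤ) : X.Sz {tv X (u 0), tv X (u 1)} = Rf X u :=
  Set.ext fun a => and_congr_right fun _ => by simp [χ_tv hp, Fin.forall_fin_two]

theorem sz3 (hp : p ≠ 2) (a b c : X.R → ℤ) : X.Sz {tv X a, tv X b, tv X c} = Rf X ![a, b, c] :=
  Set.ext fun a => and_congr_right fun _ => by simp [χ_tv hp, Fin.forall_fin_succ]

/-! ### pure subgroups in coordinates -/

variable (X) in
/-- a pure embedding -/
structure Em (e : W4 → Y) : Prop where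
  add : ∀ x y, e (x + y) = e x * e y
  inj : ∀ x, e x = 1 → x = 0
  mem : ∀ x, e x ∈ G
  pure : ∀ x, ¬ RT X (e x)

theorem Em.conj (E : Em X e) (hg : g ∈ G) : Em X fun x => g⁻¹ * e x * g :=
  ⟨fun x y => by rw [E.add, cj_mul'], fun x h => E.inj x (cj_eq_one.1 h),
    fun x => mul_mem (mul_mem (inv_mem hg) (E.mem x)) hg, fun x h => E.pure x (h.of_conj hg)⟩

theorem Em.zpow (E : Em X e) (m : ℤ) (x : W4) : e ((m : ZMod 2) • x) = e x ^ m := by
  rw [Int.cast_smul_eq_zsmul]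
  exact map_zpow (MonoidHom.mk' (fun x : Multiplicative W4 => e x.toAdd) fun _ _ => E.add _ _) (Multiplicative.ofAdd x) m

theorem Em.sq (E : Em X e) (x : W4) : e x * e x = 1 := by
  rw [← E.add, show x + x = ((0 : ℤ) : ZMod 2) • x from funext fun i => (CharTwo.add_self_eq_zero _).trans (zero_mul _).symm,
    E.zpow, zpow_zero]

theorem Em.comm (E : Em X e) (x y : W4) : e x * e y = e y * e x := by rw [← E.add, add_comm, E.add]

theorem Em.cen (E : Em X e) (x y z : W4) : e z ∈ G ⊓ centralizer ({e x, e y} : Set Y) :=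
  ⟨E.mem z, by rintro _ (rfl | rfl) <;> exact E.comm _ _⟩

theorem Em.pu (hp : p ≠ 2) (h : L8 X) (E : Em X e) (I : I3 x y z) {a b c : X.R → ℤ} (hx : e x = tv X a) (hy : e y = tv X b)
    (hz : e z = tv X c) : Pu X ![a, b, c] := fun ε => by
  have h1 : tv X (∑ i, ε i • ![a, b, c] i) = e ((ε 0 : ZMod 2) • x + (ε 1 : ZMod 2) • y + (ε 2 : ZMod 2) • z) := by
    rw [Fin.sum_univ_three, tv_add, tv_add, tv_zsmul, tv_zsmul, tv_zsmul, E.add, E.add, E.zpow, E.zpow, E.zpow, hx, hy, hz]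
    rfl
  refine ⟨fun h2 => E.pure _ (h1 ▸ (h.rt_iff hp).2 h2), fun h2 => ?_⟩
  obtain ⟨k1, k2, k3⟩ := I _ _ _ (E.inj _ (h1.symm.trans (tv_of_dvd (h.ev _ h2))))
  rw [ZMod.intCast_zmod_eq_zero_iff_dvd] at k1 k2 k3
  exact Fin.forall_fin_succ.2 ⟨k1, Fin.forall_fin_two.2 ⟨k2, k3⟩⟩

theorem pu2 {a b c : X.R → ℤ} (h : Pu X ![a, b, c]) : Pu X ![a, b] := fun ε => by
  have h1 := h ![ε 0, ε 1, 0]
  rw [show ∑ i, ![ε 0, ε 1, 0] i • ![a, b, c] i = ∑ i, ε i • ![a, b] i by simp [Fin.sum_univ_succ]] at h1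
  exact ⟨h1.1, fun e => Fin.forall_fin_two.2 ⟨h1.2 e 0, h1.2 e 1⟩⟩

theorem tv_dec (h : L8 X) {v : X.R → ℤ} {c d : X.I → ℤ} (h1 : Ev X (v - X.cor c - X.cor d)) :
    tv X v = ct X c (-1) * ct X d (-1) := by
  rw [show v = v - X.cor c - X.cor d + (X.cor c + X.cor d) by abel, tv_add, tv_of_dvd (h.ev _ h1), one_mul, tv_add]
  rfl

section plane

variable (hp : p ≠ 2) (h : L8 X) {u : Fin 2 → X.R → ℤ} (P : P2c X u A B)
include h P

theorem rtA : ∀ a ∈ A, X.Rt a := fun _ ha => (P.eq.ge (.inl ha)).1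

theorem rtB : ∀ a ∈ B, X.Rt a := fun _ ha => (P.eq.ge (.inr ha)).1

theorem commAB : ∀ s ∈ X.S A, ∀ t ∈ X.S B, s * t = t * s := fun _ hs _ ht =>
  TO.X5.comm_S h.cz (fun a ha => h.toLS.lg (rtA h P a ha)) (rtB h P) (fun a ha b hb => by
    rw [← pr_eq (rtA h P a ha), h.toLS.symm (rtB h P b hb) (rtA h P a ha), P.orth a ha b hb]) hs ht

theorem sqAB : ∀ z ∈ X.S A, z ∈ X.S B → z * z = 1 := fun z h1 h2 => by
  have h3 : X.S (Rf X u) ≤ centralizer {z} := RGD.Sup_le fun a ha s hs => mem_centralizer_singleton_iff.2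
    ((P.eq.le ha).elim (fun e => commAB h P s (RGD.le_Sup e hs) z h2) fun e => (commAB h P z h1 s (RGD.le_Sup e hs)).symm)
  have h4 := T_le_S (fun _ ha => ha.1) (fun a ha => P.eq.ge ((P.eq.le ha).imp (P.n1 a) (P.n2 a))) P.y2
  have h5 : z ∈ X.T := X.centralizer_T.le ⟨X.S_le_G (rtA h P) h1, fun t ht => mem_centralizer_singleton_iff.1 (h3 (h4 ht))⟩
  exact sq_of_χ P.x2 h5 fun a ha => Ev.χ_of_comm ha.1 h5
    (mem_centralizer_singleton_iff.1 (h3 (RGD.le_Sup ha (X.x_mem ha.1 1))))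

theorem ctA {a : X.I → ℤ} (ha : a ∈ A) : ct X a (-1) ∈ X.S A :=
  RGD.Sup_mono (Set.insert_subset ha (Set.singleton_subset_iff.2 (P.n1 a ha))) (ct_S (rtA h P a ha) _)

theorem ctB {a : X.I → ℤ} (ha : a ∈ B) : ct X a (-1) ∈ X.S B :=
  RGD.Sup_mono (Set.insert_subset ha (Set.singleton_subset_iff.2 (P.n2 a ha))) (ct_S (rtB h P a ha) _)

include hp in
/-- the components of a pure element -/
theorem dc (E : Em X e) (I : I3 x y z) (hx : e x = tv X (u 0)) (hy : e y = tv X (u 1)) (hz : e z ∈ X.cen {e x, e y}) :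
    ∃ c ∈ X.S A, ∃ d ∈ X.S B, c * c = 1 ∧ e z = c * d := by
  have hZ : ({e x, e y} : Set Y) ⊆ X.T := Set.insert_subset (hx ▸ tv_mem _) (Set.singleton_subset_iff.2 (hy ▸ tv_mem _))
  obtain ⟨g, hg, h1⟩ := toral_cen hZ (Set.toFinite _) hz
    (not_dvd_ord Nat.prime_two hp.symm (j := 1) ((sq _).trans (E.sq z)))
  have E' := E.conj (X.cen_le_G _ hg)
  have h2 : ∀ t ∈ ({e x, e y} : Set Y), g⁻¹ * t * g = t := fun t ht => by
    rw [mul_assoc, X.cen_le_centralizer hZ hg t ht, inv_mul_cancel_left]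
  obtain ⟨v, hv⟩ := exists_inv h1 (E'.sq z)
  obtain ⟨c, hc, d, hd, h3, -⟩ := P.dec v (E'.pu hp h I ((h2 _ (.inl rfl)).trans hx) ((h2 _ (.inr rfl)).trans hy) hv)
  rw [hx, hy, Datum.cen, sz2 hp] at hg
  refine ⟨_, conj_S (rtA h P) (commAB h P) P.eq.le hg (ctA h P hc), _, conj_S (rtB h P)
    (fun s hs t ht => (commAB h P t ht s hs).symm) (P.eq.le.trans (Set.union_comm _ _).le) hg (ctB h P hd), ?_, ?_⟩
  · rw [conj_mul, Ev.ct_sq, mul_one, mul_inv_cancel]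
  · rw [conj_mul, ← tv_dec h h3, ← hv]; group

end plane

/-- **the main step** -/
theorem main (hp : p ≠ 2) (h : L8 X) (hP : P8 X) (E : Em X e) (I : I4 x y z w) (hx : e x ∈ X.T) (hy : e y ∈ X.T)
    (hz : e z ∈ X.T) (hw : e w ∈ X.cen {e x, e y}) : e w ∈ X.cen {e x, e y, e z} := by
  obtain ⟨a, ha⟩ := exists_inv hx (E.sq x)
  obtain ⟨b, hb⟩ := exists_inv hy (E.sq y)
  obtain ⟨v, hv⟩ := exists_inv hz (E.sq z)
  have U := E.pu hp h I.1 ha hb hv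
  obtain ⟨A, B, P⟩ := hP.p2 _ (pu2 U)
  have Q := hP.p3 _ U
  obtain ⟨c, hc, d, hd, h3, h4⟩ := P.dec v U
  obtain ⟨s, hs, s', hs', s2, es⟩ := dc hp h P E I.2.1 ha hb hw
  obtain ⟨f, hf, f', hf', f2, ef⟩ := dc hp h P E I.2.2.1 ha hb (E.add z w ▸ mul_mem (X.T_le_cen _ hz) hw)
  have h5 := comm_of_prod (commAB h P) (sqAB h P) (ctA h P hc) (ctB h P hd) hs hs' hf hf' (Ev.ct_sq c) s2 f2
    (by rw [← tv_dec h h3, ← hv, ← es, ← ef, E.add])
  rw [← es] at h5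
  have hZ : ({ct X c (-1), e x, e y, e z} : Set Y) ⊆ X.T := by
    rintro _ (rfl | rfl | rfl | rfl); exacts [ct_mem _ _, hx, hy, hz]
  obtain ⟨r, hr, m, ⟨n, hm⟩, h6, h7⟩ := X.exists_cen_form hZ (E.mem w) (by
    rintro _ (rfl | rfl | rfl | rfl); exacts [h5, E.comm _ _, E.comm _ _, E.comm _ _])
  have hc' : c ∈ Rf X ![a, b, v] :=
    ⟨rtA h P c hc, Fin.forall_fin_succ.2 ⟨(P.eq.ge (.inl hc)).2 0, Fin.forall_fin_two.2 ⟨(P.eq.ge (.inl hc)).2 1, h4⟩⟩⟩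
  have h8 : ∀ ε : Fin 3 → ℤ, tv X (∑ i, ε i • ![a, b, v] i) ∈ centralizer {m} := fun ε => by
    rw [Fin.sum_univ_three, tv_add, tv_add, tv_zsmul, tv_zsmul, tv_zsmul]
    exact mul_mem (mul_mem (zpow_mem (mem_centralizer_singleton_iff.2 (h6 _ (.inr (.inl ha.symm)))) _)
      (zpow_mem (mem_centralizer_singleton_iff.2 (h6 _ (.inr (.inr (.inl hb.symm))))) _))
      (zpow_mem (mem_centralizer_singleton_iff.2 (h6 _ (.inr (.inr (.inr hv.symm))))) _)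
  rw [h7]
  refine mul_mem (X.cen_anti (Set.subset_insert _ _) (X.S_le_cen _ hr)) ((mem_WZ X hm).1
    (mem_of_pm (fun _ ha => ha.1) Q.orth Q.x2 (fun β hβ => rf_mem_WZ X β ?_) _ n rfl fun β hβ => ?_))
  · rwa [ha, hb, hv, sz3 hp]
  obtain ⟨ε, h9⟩ := Q.ker (X.cor β) (fun b hb => by
    rcases Q.orth b hb β hβ with rfl | rfl | e
    · exact (show pr X β β = 2 from pr_self hβ.1).symm ▸ dvd_rfl
    · rw [X.cor_neg hb.1, dotProduct_neg]
      exact ((show pr X b b = 2 from pr_self hb.1).symm ▸ dvd_rfl : 2 ∣ pr X b b).neg_right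
    · exact (show X.wt b ⬝ᵥ X.cor β = 0 from e) ▸ dvd_zero _) c hc'
  have h10 := h9.resolve_left fun e => (U ε).1 ⟨β, hβ.1, neg_sub (X.cor β) _ ▸ e.neg⟩
  have h11 : ct X β (-1) ∈ centralizer {m} := by
    rw [← tv_cor, show X.cor β = X.cor β - X.cor c - ∑ i, ε i • ![a, b, v] i + (X.cor c + ∑ i, ε i • ![a, b, v] i) by abel,
      tv_add, tv_of_dvd (h.ev _ h10), one_mul, tv_add]
    exact mul_mem (mem_centralizer_singleton_iff.2 (h6 _ (.inl rfl))) (h8 ε)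
  refine h.toLS.ct_inj hp hβ.1 (hβ.1.act n) ?_
  rw [← conj_ct hm hβ.1, ← mem_centralizer_singleton_iff.1 h11, mul_inv_cancel_right, Ev.ct_sq]
  exact one_mem _

variable (X e) in
/-- toral triples -/
def T3 (x y z : W4) : Prop := ∃ g ∈ G, g⁻¹ * e x * g ∈ X.T ∧ g⁻¹ * e y * g ∈ X.T ∧ g⁻¹ * e z * g ∈ X.T

theorem step (hp : p ≠ 2) (E : Em X e) {Z : Set Y} (hZ : Z ⊆ X.T) (hf : Z.Finite) (hz : e z ∈ X.cen Z) :
    ∃ g ∈ G, g⁻¹ * e z * g ∈ X.T ∧ ∀ t ∈ Z, g⁻¹ * t * g = t := Ev.step hp hZ hf hz (j := 1) ((sq _).trans (E.sq z))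

theorem pair (hx : e x ∈ X.T) (hy : e y ∈ X.T) : ({e x, e y} : Set Y) ⊆ X.T :=
  Set.insert_subset hx (Set.singleton_subset_iff.2 hy)

theorem t3_of (hp : p ≠ 2) (E : Em X e) (hg : g ∈ G) (hx : g⁻¹ * e x * g ∈ X.T) (hy : g⁻¹ * e y * g ∈ X.T)
    (hz : g⁻¹ * e z * g ∈ X.cen {g⁻¹ * e x * g, g⁻¹ * e y * g}) : T3 X e x y z := by
  obtain ⟨c, hc, h1, h2⟩ := step hp (E.conj hg) (pair (e := fun x => g⁻¹ * e x * g) hx hy) (Set.toFinite _) hz
  exact ⟨_, mul_mem hg hc, by rwa [One.cj_two, h2 _ (.inl rfl)], by rwa [One.cj_two, h2 _ (.inr rfl)], One.cj_two _ g c ▸ h1⟩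

theorem tri (hp : p ≠ 2) (h : L8 X) (hP : P8 X) (E : Em X e) (hx : x ≠ 0) (y z w : W4) :
    T3 X e x y z ∨ T3 X e x y w ∨ T3 X e x y (z + w) := by
  obtain ⟨g, hg, k1⟩ := Ev.tor_one (X := X) hp (E.mem x) (E.sq x)
  have E1 := E.conj hg
  obtain ⟨c, hc, k2, k3⟩ := step hp E1 (Set.singleton_subset_iff.2 k1) (Set.finite_singleton _)
    (mem_cen h.toLS.pi1 k1 ((sq _).trans (E1.sq x)) (Nat.coprime_one_right _) (E1.mem y) (E1.comm y x))
  have hb := mul_mem hg hc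
  have E2 := E.conj hb
  have k4 : (g * c)⁻¹ * e x * (g * c) ∈ X.T := by rwa [One.cj_two, k3 _ rfl]
  have k5 : (g * c)⁻¹ * e y * (g * c) ∈ X.T := One.cj_two _ g c ▸ k2
  exact (boxIX X hp h hP _ k4 _ k5 (E2.sq x) (fun e => hx (E2.inj x e)) (E2.pure x) _ (E2.cen x y z) _
    (E2.cen x y w)).imp (t3_of hp E hb k4 k5) (Or.imp (t3_of hp E hb k4 k5) fun e => t3_of hp E hb k4 k5 (E2.add z w ▸ e))

theorem Em.all (E : Em X e) (I : I4 x y z w) (hx : e x ∈ X.T) (hy : e y ∈ X.T) (hz : e z ∈ X.T) (hw : e w ∈ X.T) (v : W4) :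
    e v ∈ X.T := by
  obtain ⟨i, j, l, m, rfl⟩ := I.2.2.2 v
  have h3 : ∀ (i : ZMod 2) v, e v ∈ X.T → e (i • v) ∈ X.T := fun i v hv => by
    rw [← ZMod.intCast_zmod_cast i, E.zpow]
    exact zpow_mem hv _
  rw [E.add, E.add, E.add]
  exact mul_mem (mul_mem (mul_mem (h3 i x hx) (h3 j y hy)) (h3 l z hz)) (h3 m w hw)

theorem fin1 (hp : p ≠ 2) (h : L8 X) (hP : P8 X) (E : Em X e) (I : I4 x y z w) (hx : e x ∈ X.T) (hy : e y ∈ X.T)
    (hz : e z ∈ X.T) (h2 : T3 X e x y w) : ∃ g ∈ G, ∀ v, g⁻¹ * e v * g ∈ X.T := by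
  obtain ⟨g, hg, j1, j2, j3⟩ := h2
  have hZ : ({e x, e y, e z} : Set Y) ⊆ X.T := by
    rintro _ (rfl | rfl | rfl); exacts [hx, hy, hz]
  obtain ⟨c, hc, k4, k5⟩ := step hp E hZ (Set.toFinite _) (main hp h hP E I hx hy hz
    (P4.mem_cen_of_tor (pair hx hy) hg (by rintro _ (rfl | rfl); exacts [j1, j2]) j3))
  exact ⟨c, hc, (E.conj hc).all I (by rwa [k5 _ (.inl rfl)]) (by rwa [k5 _ (.inr (.inl rfl))])
    (by rwa [k5 _ (.inr (.inr rfl))]) k4⟩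

theorem fin (hp : p ≠ 2) (h : L8 X) (hP : P8 X) (E : Em X e) (I : I4 x y z w) (h1 : T3 X e x y z) (h2 : T3 X e x y w) :
    ∃ g ∈ G, ∀ v, g⁻¹ * e v * g ∈ X.T := by
  obtain ⟨g, hg, k1, k2, k3⟩ := h1
  obtain ⟨g', hg', j1, j2, j3⟩ := h2
  have j : ∀ v, (g⁻¹ * g')⁻¹ * (g⁻¹ * e v * g) * (g⁻¹ * g') = g'⁻¹ * e v * g' := fun v => by group
  obtain ⟨c, hc, h3⟩ := fin1 hp h hP (E.conj hg) I k1 k2 k3
    ⟨_, mul_mem (inv_mem hg) hg', by rwa [j], by rwa [j], by rwa [j]⟩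
  exact ⟨_, mul_mem hg hc, fun v => by rw [One.cj_two]; exact h3 v⟩

theorem fin2 (hp : p ≠ 2) (h : L8 X) (hP : P8 X) (E : Em X e) (I : w ≠ 0 ∧ I4 x y z w ∧ I4 x z y w ∧ I4 x (y + z) y w)
    (h1 : T3 X e x y z) : ∃ g ∈ G, ∀ v, g⁻¹ * e v * g ∈ X.T := by
  have s : ∀ {a b c}, T3 X e a b c → T3 X e b c a := fun ⟨g, hg, k1, k2, k3⟩ => ⟨g, hg, k2, k3, k1⟩
  obtain ⟨g, hg, k1, k2, k3⟩ := id h1
  rcases tri hp h hP E I.1 x y z with h2 | h2 | h2
  · exact fin hp h hP E I.2.1 h1 (s h2)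
  · exact fin hp h hP E I.2.2.1 ⟨g, hg, k1, k3, k2⟩ (s h2)
  · exact fin hp h hP E I.2.2.2 ⟨g, hg, k1, by rw [E.add, cj_mul']; exact mul_mem k2 k3, k2⟩ (s h2)

end Q4

open Q4 in
/-- **[P4]** -/
theorem boxP4 : BoxP4 := by
  intro p _ k _ _ Y _ N _ _ ρ F G _ X hp h hP V hG h2 hV hc
  obtain ⟨e, e1, e2, e3⟩ := exists_e V h2 hc
  have E : Em X e := ⟨e1, e2, fun x => hG ((e3 _).2 ⟨x, rfl⟩), fun x => hV _ ((e3 _).2 ⟨x, rfl⟩)⟩
  suffices ∃ g ∈ G, ∀ v, g⁻¹ * e v * g ∈ X.T from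
    this.imp fun g hg => ⟨hg.1, fun v hv => let ⟨x, hx⟩ := (e3 v).1 hv; hx ▸ hg.2 x⟩
  rcases tri hp h hP E (x := ![1, 0, 0, 0]) (by decide) ![0, 1, 0, 0] ![0, 0, 1, 0] ![0, 0, 0, 1] with h1 | h1 | h1
  on_goal 1 => refine fin2 hp h hP E (w := ![0, 0, 0, 1]) ?_ h1
  on_goal 2 => refine fin2 hp h hP E (w := ![0, 0, 1, 0]) ?_ h1
  on_goal 3 => refine fin2 hp h hP E (w := ![0, 0, 1, 0]) ?_ h1
  all_goals
    unfold I4 I3
    refine ⟨?_, ⟨?_, ?_, ?_, ?_⟩, ⟨?_, ?_, ?_, ?_⟩, ?_, ?_, ?_, ?_⟩ <;> decide +kernel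

end Cfsg.Agent.KM.E2
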