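import Cfsg.Agent.KM.E2.P8a
import Cfsg.Agent.KM.Tor.K8

/-!
# KM, `l = 2` : pure families in the lattice `E₈` (helper95)

`boxP8 : BoxP8`; `P8X.nf` is the normal form of a pure family, `P8X.ns_co` the quadratic form.
-/

set_option autoImplicit false
set_option linter.unusedSectionVars false
set_option maxRecDepth 100000
set_option synthInstance.maxSize 100000

namespace Cfsg.Agent.KM.E2

namespace P8X

open Cfsg Cfsg.Lie Cfsg.Agent.DL Matrix Cfsg.Agent.KZ.DatX Cfsg.Agent.Nodes.RGDChev Cfsg.Agent.KM.Tor Submodule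
  Cfsg.Agent.ChevalleyStructure.CoxeterGeomTypes Cfsg.Agent.Tits.Roots
open Cfsg.Agent.KM.Ex (sr_dot)

/-- the form -/
def B (x y : Fin 8 → ℤ) : ℤ :=
  x 0 * (2 * y 0 - y 2) + x 1 * (2 * y 1 - y 3) + x 2 * (2 * y 2 - y 0 - y 3) + x 3 * (2 * y 3 - y 1 - y 2 - y 4) +
    x 4 * (2 * y 4 - y 3 - y 5) + x 5 * (2 * y 5 - y 4 - y 6) + x 6 * (2 * y 6 - y 5 - y 7) + x 7 * (2 * y 7 - y 6)

/-- the coroot map -/
def cL : (Fin 8 → ℤ) →ₗ[ℤ] Fin 8 → ℤ := vecMulLinear (Matrix.of (cartanOf chevE8 8))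

theorem cL_eq (y : Fin 8 → ℤ) : cL y = ![2 * y 0 - y 2, 2 * y 1 - y 3, 2 * y 2 - y 0 - y 3, 2 * y 3 - y 1 - y 2 - y 4,
    2 * y 4 - y 3 - y 5, 2 * y 5 - y 4 - y 6, 2 * y 6 - y 5 - y 7, 2 * y 7 - y 6] := by
  have h : cartanOf chevE8 8 = ![![2, 0, -1, 0, 0, 0, 0, 0], ![0, 2, 0, -1, 0, 0, 0, 0], ![-1, 0, 2, -1, 0, 0, 0, 0],
      ![0, -1, -1, 2, -1, 0, 0, 0], ![0, 0, 0, -1, 2, -1, 0, 0], ![0, 0, 0, 0, -1, 2, -1, 0], ![0, 0, 0, 0, 0, -1, 2, -1],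
      ![0, 0, 0, 0, 0, 0, -1, 2]] := by decide +kernel
  funext j
  change ∑ i, y i * cartanOf chevE8 8 i j = _
  rw [h, Fin.sum_univ_eight]
  fin_cases j <;> simp <;> ring

theorem dot_cL (x y : Fin 8 → ℤ) : x ⬝ᵥ cL y = B x y := by
  rw [cL_eq, dotProduct, Fin.sum_univ_eight]
  rfl

theorem cL_surj (u : Fin 8 → ℤ) : ∃ x, u = cL x :=
  ⟨![4 * u 0 + 5 * u 1 + 7 * u 2 + 10 * u 3 + 8 * u 4 + 6 * u 5 + 4 * u 6 + 2 * u 7,
    5 * u 0 + 8 * u 1 + 10 * u 2 + 15 * u 3 + 12 * u 4 + 9 * u 5 + 6 * u 6 + 3 * u 7,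
    7 * u 0 + 10 * u 1 + 14 * u 2 + 20 * u 3 + 16 * u 4 + 12 * u 5 + 8 * u 6 + 4 * u 7,
    10 * u 0 + 15 * u 1 + 20 * u 2 + 30 * u 3 + 24 * u 4 + 18 * u 5 + 12 * u 6 + 6 * u 7,
    8 * u 0 + 12 * u 1 + 16 * u 2 + 24 * u 3 + 20 * u 4 + 15 * u 5 + 10 * u 6 + 5 * u 7,
    6 * u 0 + 9 * u 1 + 12 * u 2 + 18 * u 3 + 15 * u 4 + 12 * u 5 + 8 * u 6 + 4 * u 7,
    4 * u 0 + 6 * u 1 + 8 * u 2 + 12 * u 3 + 10 * u 4 + 8 * u 5 + 6 * u 6 + 3 * u 7,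
    2 * u 0 + 3 * u 1 + 4 * u 2 + 6 * u 3 + 5 * u 4 + 4 * u 5 + 3 * u 6 + 2 * u 7], by
    rw [cL_eq]
    funext j
    fin_cases j <;> simp <;> ring⟩

theorem B_comm (x y : Fin 8 → ℤ) : B x y = B y x := by unfold B; ring

theorem B_add (x y z : Fin 8 → ℤ) : B (x + y) z = B x z + B y z := by simp only [B, Pi.add_apply]; ring

theorem B_sub (x y z : Fin 8 → ℤ) : B (x - y) z = B x z - B y z := by simp only [B, Pi.sub_apply]; ring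

theorem B_sq (x y : Fin 8 → ℤ) : B (x + y) (x + y) = B x x + 2 * B x y + B y y := by simp only [B, Pi.add_apply]; ring

theorem B_even (x : Fin 8 → ℤ) : 2 ∣ B x x :=
  ⟨x 0 * (x 0 - x 2) + x 1 * (x 1 - x 3) + x 2 * (x 2 - x 3) + x 3 * (x 3 - x 4) + x 4 * (x 4 - x 5) + x 5 * (x 5 - x 6) +
    x 6 * (x 6 - x 7) + x 7 * x 7, by unfold B; ring⟩

/-- congruence modulo two -/
def Cg (x y : Fin 8 → ℤ) : Prop := ∀ j, 2 ∣ x j - y j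

instance Cg.dec (x y : Fin 8 → ℤ) : Decidable (Cg x y) := by unfold Cg; infer_instance

variable {x y z : Fin 8 → ℤ}

theorem Cg.ex (h : Cg x y) : ∃ d, x = y + (2 : ℤ) • d :=
  ⟨fun j => (h j).choose, funext fun j => sub_eq_iff_eq_add'.1 (h j).choose_spec⟩

theorem Cg.trans (h : Cg x y) (h' : Cg y z) : Cg x z := fun j => by have := h j; have := h' j; omega

theorem Cg.symm (h : Cg x y) : Cg y x := fun j => by have := h j; omega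

theorem Cg.two (h : Cg x y) (z : Fin 8 → ℤ) : 2 ∣ B x z ↔ 2 ∣ B y z := by
  obtain ⟨d, rfl⟩ := h.ex
  rw [two_zsmul, B_add, B_add]
  omega

theorem Cg.eight (h : Cg x y) : 8 ∣ B (x - y) (x - y) := by
  obtain ⟨d, rfl⟩ := h.ex
  have := B_even d
  rw [add_sub_cancel_left, two_zsmul, B_sq]
  omega

theorem Cg.four (h : Cg x y) : 4 ∣ B x x - B y y := by
  obtain ⟨d, rfl⟩ := h.ex
  rw [two_zsmul, B_sq, B_sq, B_comm y (d + d), B_add]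
  omega

/-- the binary digits -/
def bv (m : ℕ) : Fin 8 → ℤ := fun i => (m / 2 ^ (i : ℕ) % 2 : ℕ)

theorem exists_bv (x : Fin 8 → ℤ) : ∃ m < 256, Cg x (bv m) := by
  refine ⟨(x 0 % 2 + 2 * (x 1 % 2) + 4 * (x 2 % 2) + 8 * (x 3 % 2) + 16 * (x 4 % 2) + 32 * (x 5 % 2) + 64 * (x 6 % 2) +
    128 * (x 7 % 2)).toNat, by omega, fun j => ?_⟩
  fin_cases j <;> simp only [bv, Fin.zero_eta, Fin.mk_one, Fin.reduceFinMk, Fin.isValue, Nat.reducePow] <;> omega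

/-- the standard family -/
def t (i : ℕ) : Fin 8 → ℤ := bv ([6, 18, 80, 136].getD i 0)

/-- the dual family -/
def f (i : ℕ) : Fin 8 → ℤ := bv ([7, 50, 88, 218].getD i 0)

/-- the root in a class -/
def tb : List ℕ := [0, 162, 141, 0, 135, 163, 0, 0, 130, 0, 142, 0, 136, 164, 147, 169, 126, 0, 0, 184, 0, 0, 152, 174, 131, 0,
  143, 0, 137, 165, 148, 170, 123, 0, 0, 188, 0, 0, 156, 178, 0, 204, 0, 194, 0, 0, 0, 0, 127, 0, 0, 185, 0, 0, 153, 175, 132,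
  0, 144, 0, 138, 166, 149, 171, 121, 0, 0, 191, 0, 0, 159, 181, 0, 207, 0, 197, 0, 0, 0, 0, 0, 214, 239, 0, 226, 219, 0, 0, 0,
  210, 0, 200, 0, 0, 0, 0, 124, 0, 0, 189, 0, 0, 157, 179, 0, 205, 0, 195, 0, 0, 0, 0, 128, 0, 0, 186, 0, 0, 154, 176, 133, 0,
  145, 0, 139, 167, 150, 172, 120, 0, 0, 193, 0, 0, 161, 183, 0, 209, 0, 199, 0, 0, 0, 0, 0, 216, 237, 0, 228, 221, 0, 0, 0,
  212, 0, 202, 0, 0, 0, 0, 0, 218, 235, 0, 230, 223, 0, 0, 232, 0, 234, 0, 231, 224, 233, 225, 0, 217, 236, 0, 229, 222, 0, 0,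
  0, 213, 0, 203, 0, 0, 0, 0, 122, 0, 0, 192, 0, 0, 160, 182, 0, 208, 0, 198, 0, 0, 0, 0, 0, 215, 238, 0, 227, 220, 0, 0, 0,
  211, 0, 201, 0, 0, 0, 0, 125, 0, 0, 190, 0, 0, 158, 180, 0, 206, 0, 196, 0, 0, 0, 0, 129, 0, 0, 187, 0, 0, 155, 177, 134, 0,
  146, 0, 140, 168, 151, 173]

theorem tb_spec : ∀ m < 256, 4 ∣ B (bv m) (bv m) ∨ (tb.getD m 0 < chevE8.nroots ∧ Cg (bv m) (vec chevE8 8 (tb.getD m 0))) := by
  decide +kernel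

theorem step : ∀ n < 4, 4 ∣ B (t n) (t n) ∧ (∀ i : Fin n, 2 ∣ B (t n) (t i)) ∧ ∀ m < 256, 4 ∣ B (bv m) (bv m) →
    (∀ i : Fin n, 2 ∣ B (bv m) (t i)) → Cg (bv m) (∑ i : Fin n, B (bv m) (f i) • t i) ∨ ¬ 2 ∣ B (bv m) (t n) ∨
    ∃ z ∈ [3, 7, 9, 17, 33, 34, 40, 42, 72, 74, 138], 4 ∣ B (bv z) (bv z) ∧ (∀ i : Fin n, 2 ∣ B (bv z) (t i)) ∧
      ¬ 2 ∣ B (bv z) (t n) ∧ ¬ 2 ∣ B (bv m) (bv z) := by
  decide +kernel

/-- eight orthogonal roots -/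
def c8 (j : Fin 8) : Fin 8 → ℤ := vec chevE8 8 ([121, 126, 135, 141, 152, 159, 226, 239].getD j 0)

theorem two_eq (m : Fin 8 → ℤ) : (2 : ℤ) • m = ∑ i, m i • ∑ j, B (sr i) (c8 j) • c8 j := by
  simp only [← (by decide +kernel : ∀ i : Fin 8, (2 : ℤ) • sr i = ∑ j, B (sr i) (c8 j) • c8 j), smul_comm (m _), ← Finset.smul_sum]
  exact congrArg _ (funext fun j => by fin_cases j <;> simp [Fin.sum_univ_eight, sr])

theorem d8_eq {c : ℤ} (hc : x 0 = 2 * c) : x = c • c8 7 + ∑ i : Fin 7, (x i.succ - c * c8 7 i.succ) • sr i.succ := by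
  rw [show c8 7 = ![2, 3, 4, 6, 5, 4, 3, 2] by decide +kernel]
  funext j
  fin_cases j <;> simp [Fin.sum_univ_seven, sr, hc, mul_comm]

/-- the first `D₄` -/
def P₁ (a : Fin 8 → ℤ) : Prop := a 0 = 0 ∧ a 5 = 0 ∧ a 6 = 0 ∧ a 7 = 0

/-- the second `D₄` -/
def P₂ (a : Fin 8 → ℤ) : Prop := 2 * a 1 = a 3 ∧ 2 * a 2 = a 0 + a 3 ∧ 2 * a 3 = a 1 + a 2 + a 4 ∧ 2 * a 4 = a 3 + a 5

instance P₁.dec : DecidablePred P₁ := fun _ => by unfold P₁; infer_instance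

instance P₂.dec : DecidablePred P₂ := fun _ => by unfold P₂; infer_instance

theorem P₁.neg (h : P₁ x) : P₁ (-x) := by
  simp only [P₁, Pi.neg_apply] at h ⊢
  omega

theorem P₂.neg (h : P₂ x) : P₂ (-x) := by
  simp only [P₂, Pi.neg_apply] at h ⊢
  omega

theorem orth12 (hx : P₁ x) (hy : P₂ y) : B x y = 0 := by
  obtain ⟨a1, a2, a3, a4⟩ := hx
  obtain ⟨b1, b2, b3, b4⟩ := hy
  rw [B, a1, a2, a3, a4, b1, b2, b3, b4]
  ring

theorem dec2 : ∀ m < 256, 4 ∣ B (bv m) (bv m) → (∀ i : Fin 2, 2 ∣ B (bv m) (t i)) →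
    Cg (bv m) (∑ i : Fin 2, B (bv m) (f i) • t i) ∨ ∃ c ∈ [126, 135, 141, 152, 130, 131, 136, 137, 142, 143, 147, 148],
      ∃ d ∈ [120, 121, 122, 159, 160, 161, 226, 227, 228, 237, 238, 239], Cg (bv m) (vec chevE8 8 c + vec chevE8 8 d) ∧
        (c < chevE8.nroots ∧ P₁ (vec chevE8 8 c)) ∧ d < chevE8.nroots ∧ P₂ (vec chevE8 8 d) := by
  decide +kernel

theorem orth3 {i j : Fin 8} (hx : x = c8 i ∨ x = -c8 i) (hy : y = c8 j ∨ y = -c8 j) : y = x ∨ y = -x ∨ B x y = 0 :=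
  (by decide +kernel : ∀ i j, ∀ a ∈ [c8 i, -c8 i], ∀ b ∈ [c8 j, -c8 j], b = a ∨ b = -a ∨ B a b = 0) i j x
    (by simpa using hx) y (by simpa using hy)

theorem ker3 {j : Fin 8} (h : ∀ j, 2 ∣ B (c8 j) x) (hy : y = c8 j ∨ y = -c8 j) :
    ∃ ε : Fin 3 → ℤ, Cg x (∑ i, ε i • t i) ∨ Cg x (y + ∑ i, ε i • t i) := by
  obtain ⟨m, hm, e⟩ := exists_bv x
  exact ((by decide +kernel : ∀ m < 256, (∀ j, 2 ∣ B (bv m) (c8 j)) → ∀ j, ∀ c ∈ [c8 j, -c8 j],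
    Cg (bv m) (∑ i : Fin 3, B (bv m) (f i) • t i) ∨ Cg (bv m) (c + ∑ i : Fin 3, B (bv m - c) (f i) • t i)) m hm
    (fun j => (e.two _).1 (B_comm _ _ ▸ h j)) j y (by simpa using hy)).elim (fun h => ⟨_, .inl (e.trans h)⟩)
    fun h => ⟨_, .inr (e.trans h)⟩

theorem ker4 (h : ∀ i : Fin 4, 2 ∣ B x (t i)) : ∃ ε : Fin 4 → ℤ, Cg x (∑ i, ε i • t i) :=
  let ⟨m, hm, e⟩ := exists_bv x
  ⟨_, e.trans ((by decide +kernel : ∀ m < 256, (∀ i : Fin 4, 2 ∣ B (bv m) (t i)) →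
    Cg (bv m) (∑ i : Fin 4, B (bv m) (f i) • t i)) m hm fun i => (e.two _).1 (h i))⟩

theorem cg_of (h : ∀ i, 2 ∣ (cL x - cL y) i) : Cg x y := by
  simp only [cL_eq, Fin.forall_fin_succ, Pi.sub_apply, cons_val_zero, cons_val_succ] at h
  intro j
  fin_cases j <;> simp only [Fin.zero_eta, Fin.mk_one, Fin.reduceFinMk, Fin.isValue] <;> omega

variable {r : ℕ} [Fact r.Prime] {k : Type} [Field k] [CharP k r] [IsAlgClosed k] {Mx : Matrix (Fin 8) (Fin 8) ℤ}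
  (X : XF hpE8 r k Mx) {a b : Fin 8 → ℤ}

/-- the coroot map -/
def cX : (Fin 8 → ℤ) →ₗ[ℤ] X.D.R → ℤ := cL

/-- the root lattice -/
def rX : (Fin 8 → ℤ) ≃ₗ[ℤ] X.D.I → ℤ := LinearEquiv.refl _ _

/-- the weights -/
def wX : (Fin 8 → ℤ) ≃ₗ[ℤ] X.D.R → ℤ := LinearEquiv.refl _ _

theorem cor_c (ha : X.D.Rt (rX X a)) : X.D.cor (rX X a) = cX X a := cor_eq X K8.sl ha

theorem wt_c (a x : Fin 8 → ℤ) : X.D.wt (rX X a) ⬝ᵥ cX X x = B a x := dot_cL a x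

theorem pr_c (hb : X.D.Rt (rX X b)) : pr X.D (rX X a) (rX X b) = B a b := by rw [pr, cor_c X hb, wt_c]

theorem c_surj (u : X.D.R → ℤ) : ∃ x, u = cX X x := cL_surj u

theorem rt_v {s : ℕ} (h : s < chevE8.nroots) : X.D.Rt (rX X (vec chevE8 8 s)) := rt_vec X ⟨s, h⟩

theorem B_rt (ha : X.D.Rt (rX X a)) : B a a = 2 := forall_rt X (Q := fun a => B a a = 2) (by decide +kernel) a ha

theorem ev_co : Ev X.D (cX X x - cX X y) ↔ Cg x y := by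
  refine ⟨fun h => cg_of fun i => (sr_dot i (cL x - cL y)) ▸ h (sr i) (isRoot_sr _ _ i), fun h c _ => ?_⟩
  obtain ⟨c, rfl⟩ := (rX X).surjective c
  have := h.two c
  rw [← map_sub, wt_c, B_comm, B_sub]
  omega

theorem ns_co : Ns X.D (cX X x) ↔ ¬ 4 ∣ B x x := by
  refine ⟨fun ⟨a, ha, e⟩ => ?_, fun h => ?_⟩
  · obtain ⟨a, rfl⟩ := (rX X).surjective a
    rw [cor_c X ha, ev_co] at e
    have h1 := e.four
    rw [B_rt X ha] at h1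
    omega
  · obtain ⟨m, hm, e⟩ := exists_bv x
    have h1 := e.four
    obtain ⟨h2, h3⟩ := (tb_spec m hm).resolve_left (by omega)
    exact ⟨_, rt_v X h2, cor_c X (rt_v X h2) ▸ (ev_co X).2 (e.trans h3)⟩

theorem inj {a b : X.D.I → ℤ} (ha : X.D.Rt a) (hb : X.D.Rt b) (h : Ev X.D (X.D.cor a - X.D.cor b)) : b = a ∨ b = -a := by
  by_contra h1
  rw [not_or] at h1
  have h2 := Base.cpr_mul_lt hb ha h1.1 h1.2
  rw [← X.D.pair_cor ha, ← X.D.pair_cor hb] at h2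
  obtain ⟨a, rfl⟩ := (rX X).surjective a
  obtain ⟨b, rfl⟩ := (rX X).surjective b
  change pr X.D (rX X b) (rX X a) * pr X.D (rX X a) (rX X b) < 4 at h2
  rw [cor_c X ha, cor_c X hb, ev_co] at h
  have h3 := h.eight
  rw [pr_c X ha, pr_c X hb, B_comm b a] at h2
  rw [B_sub, B_comm a, B_comm b, B_sub, B_sub, B_rt X ha, B_rt X hb, B_comm b a] at h3
  have h4 : B a b < 2 := by nlinarith
  have h5 : -2 < B a b := by nlinarith
  omega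

/-- one reflection -/
theorem move (hx : 4 ∣ B x x) (hy : 4 ∣ B y y) (h : ¬ 2 ∣ B x y) : ∃ w : X.D.W, Ev X.D (cX X x - X.D.Wm w *ᵥ cX X y) ∧
    ∀ s, 2 ∣ B x s → 2 ∣ B y s → Ev X.D (cX X s - X.D.Wm w *ᵥ cX X s) := by
  obtain ⟨a, ha, h1⟩ := (ns_co X (x := x + y)).2 (by rw [B_sq]; omega)
  obtain ⟨a, rfl⟩ := (rX X).surjective a
  rw [cor_c X ha, ev_co] at h1
  have h2 : ∀ s, X.D.Wm (X.D.rf (rX X a)) *ᵥ cX X s = cX X (s - B a s • a) := fun s => by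
    rw [X.D.Wm_rf ha, sub_mulVec, one_mulVec, vecMulVec_mulVec, cor_c X ha, map_sub, map_zsmul, wt_c, op_smul_eq_smul]
  refine ⟨X.D.rf (rX X a), h2 y ▸ (ev_co X).2 fun j => ?_, fun s h3 h4 => h2 s ▸ (ev_co X).2 fun j => ?_⟩
  · have h3 := h1.two y
    have h4 := h1 j
    obtain ⟨c, hc⟩ : ∃ c, B a y = 2 * c + 1 := ⟨B a y / 2, by rw [B_add] at h3; omega⟩
    rw [Pi.sub_apply, Pi.smul_apply, hc, smul_eq_mul, add_mul, mul_assoc]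
    rw [Pi.add_apply] at h4
    omega
  · rw [Pi.sub_apply, sub_sub_cancel]
    exact ((h1.two s).1 (by rw [B_add]; omega)).mul_right _

/-- the standard family -/
def S (n : ℕ) : Fin n → X.D.R → ℤ := fun i => cX X (t i)

theorem sum_S {n : ℕ} (ε : Fin n → ℤ) : ∑ i, ε i • S X n i = cX X (∑ i, ε i • t i) := by simp only [map_sum, map_zsmul, S]

theorem cond {n : ℕ} (hn : n ≤ 4)
    (h : ∀ ε : Fin n → ℤ, ¬ Ns X.D (∑ i, ε i • S X n i + cX X x) ∧ ¬ Ev X.D (∑ i, ε i • S X n i + cX X x)) :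
    ∃ m < 256, Cg x (bv m) ∧ 4 ∣ B (bv m) (bv m) ∧ (∀ i : Fin n, 2 ∣ B (bv m) (t i)) ∧
      ¬ Cg (bv m) (∑ i : Fin n, B (bv m) (f i) • t i) := by
  obtain ⟨m, hm, e⟩ := exists_bv x
  simp only [sum_S, ← map_add, ns_co X, not_not] at h
  have h1 := (h 0).1
  simp only [Pi.zero_apply, zero_smul, Finset.sum_const_zero, zero_add] at h1
  have h2 := e.four
  refine ⟨m, hm, e, by omega, fun i => (e.two _).1 ?_, fun h3 => (h fun i => -B (bv m) (f i)).2 ?_⟩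
  · have h3 := (h (Pi.single i 1)).1
    have h4 := (step i (by omega)).1
    rw [Finset.sum_eq_single i (fun j _ hj => by rw [Pi.single_eq_of_ne hj, zero_smul]) (by simp), Pi.single_eq_same,
      one_smul, B_sq, B_comm (t i) x] at h3
    omega
  · simp only [neg_smul, Finset.sum_neg_distrib, neg_add_eq_sub, map_sub]
    exact (ev_co X).2 (e.trans h3)

/-- **the normal form of a pure family** -/
theorem nf : ∀ n ≤ 4, ∀ U : Fin n → X.D.R → ℤ, Pu X.D U → ∃ w, Tr w U (S X n) := by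
  intro n
  induction n with
  | zero => exact fun _ _ _ => ⟨1, fun i => i.elim0⟩
  | succ n ih =>
    intro hn U hU
    obtain ⟨w, hw⟩ := ih (by omega) _ (pu_init hU)
    obtain ⟨x, hx⟩ := c_surj X (X.D.Wm w⁻¹ *ᵥ U (Fin.last n))
    have h0 : Ev X.D (U (Fin.last n) - X.D.Wm w *ᵥ cX X x) := hx ▸ tr_self w _
    obtain ⟨m, hm, e, h1, h2, h3⟩ := cond X (x := x) (n := n) (by omega) fun ε => by
      have h1 := ev_add (hw.sum ε) h0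
      rw [← add_sub_add_comm, ← mulVec_add] at h1
      exact ⟨fun h2 => (pu_last hU ε).1 (ns_tr h1 h2), fun h2 => (pu_last hU ε).2 (ev_tr h1 h2)⟩
    obtain ⟨h4, h5, h6⟩ := step n (by omega)
    obtain ⟨v, h7, h8⟩ : ∃ v : X.D.W, Ev X.D (cX X (bv m) - X.D.Wm v *ᵥ cX X (t n)) ∧
        ∀ i : Fin n, Ev X.D (cX X (t i) - X.D.Wm v *ᵥ cX X (t i)) := by
      rcases (h6 m hm h1 h2).resolve_left h3 with h7 | ⟨z, -, a1, a2, a3, a4⟩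
      · exact (move X h1 h4 h7).imp fun v hv => ⟨hv.1, fun i => hv.2 _ (h2 i) (h5 i)⟩
      · obtain ⟨v, b1, b2⟩ := move X h1 a1 a4
        obtain ⟨v', c1, c2⟩ := move X a1 h4 a3
        exact ⟨v * v', tr_trans b1 c1, fun i => tr_trans (b2 _ (h2 i) (a2 i)) (c2 _ (a2 i) (h5 i))⟩
    refine ⟨w * v, Fin.lastCases (tr_trans h0 ?_) fun i => tr_trans (hw i) (h8 i)⟩
    exact sub_add_sub_cancel (cX X x) _ _ ▸ ev_add ((ev_co X).2 e) h7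

theorem mem_S {n : ℕ} : rX X a ∈ Rf X.D (S X n) ↔ X.D.Rt (rX X a) ∧ ∀ i : Fin n, 2 ∣ B a (t i) := by
  simp only [Rf, S, Set.mem_ofPred_eq, wt_c]

theorem span_c {Ψ : Set (X.D.I → ℤ)} (h0 : ∀ a ∈ Ψ, X.D.Rt a) (h : wX X x ∈ span ℤ (X.D.wt '' Ψ)) :
    cX X x ∈ span ℤ (X.D.cor '' Ψ) :=
  (span_le (p := (span ℤ (X.D.cor '' Ψ)).comap (cX X ∘ₗ (wX X).symm.toLinearMap))).2 (by
    rintro _ ⟨a, ha, rfl⟩
    exact subset_span ⟨a, ha, cor_c X (h0 a ha)⟩) h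

theorem c8_mem {n : ℕ} (hn : n ≤ 3) (j : Fin 8) : rX X (c8 j) ∈ Rf X.D (S X n) :=
  (mem_S X).2 ⟨rt_v X ((by decide +kernel : ∀ j : Fin 8, [121, 126, 135, 141, 152, 159, 226, 239].getD j 0 < chevE8.nroots) j),
    fun i => (by decide +kernel : ∀ j, ∀ i < 3, 2 ∣ B (c8 j) (t i)) j i (by omega)⟩

theorem x2 {n : ℕ} (hn : n ≤ 3) (m : X.D.R → ℤ) : (2 : ℤ) • m ∈ span ℤ (X.D.wt '' Rf X.D (S X n)) := by
  obtain ⟨m, rfl⟩ := (wX X).surjective m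
  rw [← map_zsmul, two_eq]
  simp only [map_sum, map_zsmul]
  exact sum_mem fun i _ => smul_mem _ _ (sum_mem fun j _ => smul_mem _ _ (subset_span ⟨_, c8_mem X hn j, rfl⟩))

theorem d8 (h : 2 ∣ x 0) : cX X x ∈ span ℤ (X.D.cor '' Rf X.D (S X 1)) := by
  obtain ⟨c, hc⟩ := h
  refine span_c X rf_rt ?_
  rw [d8_eq hc]
  simp only [map_add, map_sum, map_zsmul]
  exact add_mem (smul_mem _ _ (subset_span ⟨_, c8_mem X (by decide) 7, rfl⟩))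
    (sum_mem fun i _ => smul_mem _ _ (subset_span ⟨rX X (sr i.succ), (mem_S X).2 ⟨isRoot_sr _ _ _,
      (by decide +kernel : ∀ (j : Fin 7) (i : Fin 1), 2 ∣ B (sr j.succ) (t i)) i⟩, rfl⟩))

theorem p2c : P2c X.D (S X 2) (RP X P₁) (RP X P₂) := by
  refine ⟨Set.ext fun a => (mem_S X).trans ((and_congr_right (forall_rt X
      (Q := fun a => (∀ i : Fin 2, 2 ∣ B a (t i)) ↔ P₁ a ∨ P₂ a) (by decide +kernel) a)).trans and_or_left),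
    fun a ha => ⟨ha.1.neg, P₁.neg ha.2⟩, fun a ha => ⟨ha.1.neg, P₂.neg ha.2⟩,
    fun a ha b hb => (pr_c X hb.1).trans (orth12 ha.2 hb.2), x2 X (by decide), fun v => ?_, fun v hv => ?_⟩
  · obtain ⟨x, rfl⟩ := c_surj X v
    exact map_zsmul (cX X) 2 x ▸ span_c X rf_rt (map_zsmul (wX X) 2 x ▸ x2 X (by decide) _)
  · obtain ⟨x, rfl⟩ := c_surj X v
    obtain ⟨m, hm, e, h1, h2, h3⟩ := cond X (x := x) (n := 2) (by decide) fun ε => by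
      have := pu_last hv ε
      rw [Fin.sum_univ_two] at this ⊢
      exact this
    obtain ⟨c, -, d, -, h4, ⟨h5, h6⟩, h7, h8⟩ := (dec2 m hm h1 h2).resolve_left h3
    have hc := rt_v X h5
    have hd := rt_v X h7
    refine ⟨rX X _, ⟨hc, h6⟩, rX X _, ⟨hd, h8⟩, ?_, ?_⟩
    · rw [cor_c X hc, cor_c X hd, sub_sub, ← map_add, ev_co]
      exact e.trans h4
    · rw [wt_c, B_comm, (e.trans h4).two, B_add, B_rt X hc, B_comm, orth12 h6 h8]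
      decide

theorem p3c : P3c X.D (S X 3) := by
  have h1 : ∀ a, rX X a ∈ Rf X.D (S X 3) → ∃ j, a = c8 j ∨ a = -c8 j := fun a ha =>
    forall_rt X (Q := fun a => (∀ i : Fin 3, 2 ∣ B a (t i)) → ∃ j, a = c8 j ∨ a = -c8 j) (by decide +kernel) a ha.1
      ((mem_S X).1 ha).2
  refine ⟨⟨_, c8_mem X le_rfl 0⟩, fun a ha b hb => ?_, x2 X le_rfl, fun v hv c hc => ?_⟩
  · obtain ⟨i, hi⟩ := h1 a ha
    obtain ⟨j, hj⟩ := h1 b hb
    exact (orth3 hi hj).imp_right (Or.imp_right (pr_c X hb.1).trans)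
  · obtain ⟨x, rfl⟩ := c_surj X v
    obtain ⟨c, rfl⟩ := (rX X).surjective c
    obtain ⟨j, hj⟩ := h1 c hc
    refine (ker3 (fun j => wt_c X _ x ▸ hv _ (c8_mem X le_rfl j)) hj).imp fun ε h => ?_
    rwa [cor_c X hc.1, sub_sub, sum_S, ← map_add, ev_co, ev_co]

theorem lag : Lag X.D (S X 4) := fun a b ha hb h => by
  obtain ⟨a, rfl⟩ := (rX X).surjective a
  obtain ⟨b, rfl⟩ := (rX X).surjective b
  refine (ker4 (x := a - b) fun i => B_sub _ _ _ ▸ wt_c X a _ ▸ wt_c X b _ ▸ h i).imp fun ε h => ?_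
  rwa [cor_c X ha, cor_c X hb, sum_S, ← map_sub, ev_co]

theorem rf4 : Rf X.D (S X 4) = ∅ := Set.eq_empty_of_forall_notMem fun a ha =>
  forall_rt X (Q := fun a => ¬ ∀ i : Fin 4, 2 ∣ B a (t i)) (by decide +kernel) a ha.1 ((mem_S X).1 ha).2

end P8X

open P8X in
/-- **[P8]** -/
theorem boxP8 : BoxP8 := fun _ _ _ _ _ _ _ X => by
  refine ⟨fun u hu v v' => ?_, fun u hu => ?_, fun u hu => ?_, fun u hu => ?_⟩
  · obtain ⟨w, hw⟩ := nf X 1 (by decide) _ hu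
    have e : Tor.Rn X.D 2 u = Tor.im X.D w (Rf X.D (S X 1)) :=
      Eq.trans (Set.ext fun _ => and_congr_right fun _ => ⟨fun h => Fin.forall_fin_one.2 h, fun h => h 0⟩) hw.rf
    obtain ⟨x, hx⟩ := c_surj X (Matrix.mulVec (X.D.Wm w⁻¹) v)
    obtain ⟨y, hy⟩ := c_surj X (Matrix.mulVec (X.D.Wm w⁻¹) v')
    rw [e]
    rcases (by omega : 2 ∣ x 0 ∨ 2 ∣ y 0 ∨ 2 ∣ x 0 + y 0) with h | h | h
    · exact .inl (mem_cor w rf_rt (hx ▸ d8 X h))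
    · exact .inr (.inl (mem_cor w rf_rt (hy ▸ d8 X h)))
    · refine .inr (.inr (mem_cor w rf_rt ?_))
      rw [Matrix.mulVec_add, hx, hy, ← map_add]
      exact d8 X h
  · obtain ⟨w, hw⟩ := nf X 2 (by decide) _ hu
    exact ⟨_, _, p2c_tr hw (p2c X)⟩
  · obtain ⟨w, hw⟩ := nf X 3 (by decide) _ hu
    exact p3c_tr hw (p3c X)
  · obtain ⟨w, hw⟩ := nf X 4 le_rfl _ hu
    exact ⟨hw.rf.trans (by rw [rf4]; rfl), fun v hv a ha => inj X ha (ha.act _) ((lag_tr hw (lag X)).sq hv ha)⟩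

end Cfsg.Agent.KM.E2
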