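import Cfsg.Agent.KM.E2.Tool
import Cfsg.Agent.KM.Ev.Q2S

/-!
# KM, `l = 2`, types `E₇`, `E₈` : boxes SAT and TA (helper83)
-/

set_option autoImplicit false
set_option linter.unusedSectionVars false

namespace Cfsg.Agent.KM.E2

open Cfsg Cfsg.Lie Cfsg.Agent.DL Cfsg.Agent.Nodes.Reps Cfsg.Agent.Nodes.BNOf Matrix Subgroup Cfsg.Agent.KM.Ht
open Cfsg.Agent.KM.Tor Cfsg.Agent.BpExc.Zc Cfsg.Agent.Nodes.Coroot
open Cfsg.Agent.KM.Ev (Pe Lp)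
open Cfsg.Agent.TO.X.Cn (Pi1 exists_exp χ_exp χ_pow pow_mem_cen)

variable {p : ℕ} [Fact p.Prime] {k : Type} [Field k] [CharP k p] {Y : Type} [Group Y] {N : Type} [Fintype N]
  [DecidableEq N] {ρ : Y →* GL N k} {F : MulAut Y} {G : Subgroup Y} [IsAlgClosed k] {X : Datum p ρ F G}
  {Φ Ψ : Set (X.I → ℤ)} {A : Set Y} {t : Y}

theorem Hf.mono (h : Hf X Φ) (e : Φ ⊆ Ψ) : Hf X Ψ := let ⟨s, h1, h2, h3⟩ := h; ⟨s, h1, fun a ha => e (h2 a ha), h3⟩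

namespace TA

theorem sat (h : Sl X) (hn : ¬ Hf X (X.Sz A)) : Ev.Q2.Sat X (X.Sz A) :=
  (Ev.Q2.sat_or h (fun _ ha => ha.1) fun _ ha _ hb => Ev.Q2.sz_clo ha hb).resolve_right hn

theorem exists_bd (v : X.R → ℤ) : ∃ n : ℕ, ∀ a, X.Rt a → (X.wt a ⬝ᵥ v).natAbs ≤ n := by
  classical
  exact ⟨∑ a ∈ X.finite_roots.toFinset, (X.wt a ⬝ᵥ v).natAbs, fun a ha => Finset.single_le_sum
    (f := fun a => (X.wt a ⬝ᵥ v).natAbs) (fun _ _ => Nat.zero_le _) (X.finite_roots.mem_toFinset.2 ha)⟩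

/-- a Levi subsystem belongs to a `2`-element -/
theorem exists_two (hp : p ≠ 2) (hr : ∀ a ∈ Φ, X.Rt a) (h : Lvs X Φ) : ∃ s ∈ X.T, El 2 {s} ∧ X.Sz {s} = Φ := by
  obtain ⟨v, hv⟩ := h
  obtain ⟨n, hn⟩ := exists_bd v
  obtain ⟨ζ, hζ⟩ := exists_prim p k (n := 2 ^ n) fun h =>
    hp ((Nat.prime_dvd_prime_iff_eq Fact.out Nat.prime_two).1 ((Fact.out : p.Prime).dvd_of_dvd_pow h))
  refine ⟨_, X.τ_mem (coch v ζ), fun _ e => ⟨n, ?_⟩, Set.ext fun a => ⟨fun ha => (hv a ha.1).2 ?_, fun ha =>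
    ⟨hr a ha, fun _ e => e ▸ (χ_exp X a v ζ).2 ((hv a (hr a ha)).1 ha ▸ dvd_zero _)⟩⟩⟩
  · rw [e, ← map_pow, ← map_pow, ← hζ, pow_orderOf_eq_one, map_one, map_one]
  · have h1 := (χ_exp X a v ζ).1 (ha.2 _ rfl)
    rw [hζ, Int.natCast_dvd] at h1
    exact Int.natAbs_eq_zero.1 (Nat.eq_zero_of_dvd_of_lt h1 ((hn a ha.1).trans_lt (Nat.lt_pow_self one_lt_two)))

/-- one element for `t` and a Levi subsystem -/
theorem exists_mul (hr : ∀ a ∈ Φ, X.Rt a) (h : Lvs X Φ) (ht : t ∈ X.T) :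
    ∃ s ∈ X.T, Φ ⊆ X.Sz {s} ∧ X.Sz {t * s} ⊆ Φ ∩ X.Sz {t} := by
  obtain ⟨v, hv⟩ := h
  obtain ⟨n, hn⟩ := exists_bd v
  obtain ⟨ζ, u, h0, -, e⟩ := exists_exp X ht
  obtain ⟨l, h1, hl⟩ := Nat.exists_infinite_primes (n + p + orderOf ζ + 1)
  obtain ⟨η, hη⟩ := exists_prim p k (n := l) fun h => by
    have := (Nat.prime_dvd_prime_iff_eq Fact.out hl).1 h
    omega
  have h2 := X.τ_mem (coch v η)
  have h3 : ∀ a, X.wt a ⬝ᵥ v = 0 → X.χ a (X.τ (coch v η)) = 1 := fun a e => (χ_exp X a v η).2 (e ▸ dvd_zero _)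
  refine ⟨_, h2, fun a ha => ⟨hr a ha, fun _ e => e ▸ h3 a ((hv a (hr a ha)).1 ha)⟩, fun a ha => ?_⟩
  have h4 := ha.2 _ rfl
  have h5 := χ_pow X a (mul_mem ht h2) (orderOf ζ)
  rw [h4, one_pow, (show Commute t _ from X.T_comm ht h2).mul_pow, show t ^ orderOf ζ = 1 by
    rw [e, ← map_pow, ← map_pow, pow_orderOf_eq_one, map_one, map_one], one_mul, ← map_pow, ← map_pow, ← zpow_natCast,
    ← coch_zsmul, χ_exp, hη, dotProduct_smul, smul_eq_mul, Int.natCast_dvd, Int.natAbs_mul, Int.natAbs_natCast] at h5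
  have h6 := Int.natAbs_eq_zero.1 (Nat.eq_zero_of_dvd_of_lt ((hl.dvd_mul.1 h5).resolve_left
    (Nat.not_dvd_of_pos_of_lt h0 (by omega))) (by have := hn a ha.1; omega))
  rw [X.χ_mul a ht h2, h3 a h6, mul_one] at h4
  exact ⟨(hv a ha.1).2 h6, ha.1, fun _ e => e ▸ h4⟩

theorem Sz_pair (s t : Y) : X.Sz {t, s} = X.Sz {s} ∩ X.Sz {t} := Set.ext fun _ =>
  ⟨fun h => ⟨⟨h.1, fun _ e => h.2 _ (.inr e)⟩, h.1, fun _ e => h.2 _ (.inl e)⟩,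
    fun h => ⟨h.1.1, fun z e => e.elim (h.2.2 z) (h.1.2 z)⟩⟩

end TA

open TA

/-- **[SAT]** -/
theorem boxSat : BoxSat := fun _ _ h _ hA he hn => (sat h hn).le hA he

/-- **[TA]** -/
theorem boxTA : BoxTA := by
  intro p _ k _ _ Y _ N _ _ ρ F G _ X hp h
  refine ⟨fun P hP => ?_, fun Φ hr hΦ => ⟨fun y hy t ht e => ?_, fun t ht he hn => ?_, fun hn A hA h1 he hc => ?_⟩⟩
  · obtain ⟨Z, -, -, -, h1, h2⟩ := Ev.exists_Zp hp fun a ha => h.lg (hP a ha)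
    rw [← h1]
    refine qc_of_le fun z hz => ?_
    obtain ⟨a, ha, s, rfl⟩ := h2 z hz
    exact Ht.mem_Z0 (fun b hb => ((mem_Pe hP).1 (h1 ▸ hb)).2 a ha) s
  · obtain ⟨s, hs, h1, h2⟩ := exists_mul hr hΦ ht
    have h3 := X.cen_le_centralizer (Set.singleton_subset_iff.2 hs) (sup_le_sup_left (RGD.Sup_mono h1) _ hy) s rfl
    have h4 := pow_mem_cen h.pi1 (mul_mem ht hs) (sup_le X.T_le_G (X.S_le_G hr) hy)
      (by rw [← mul_assoc, ← e, mul_assoc, ← h3, mul_assoc])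
    rw [pow_one] at h4
    exact sup_le_sup_left (RGD.Sup_mono h2) _ h4
  · obtain ⟨s, hs, h1, rfl⟩ := exists_two hp hr hΦ
    rw [← Sz_pair] at hn ⊢
    exact qc_of_le ((sat h.sl hn).le (Set.insert_subset ht (Set.singleton_subset_iff.2 hs))
      fun z hz => hz.elim (he z) (h1 z))
  · obtain ⟨s, hs, h2, rfl⟩ := exists_two hp hr hΦ
    obtain ⟨j, hj⟩ := h2 s rfl
    have h3 := Ev.Q2.cc_one h.pi1 (Nat.coprime_one_right 2) hs hj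
    obtain ⟨g, hg, h4, h5⟩ := Ev.Q2.tor_rel h.pi1 (Nat.coprime_one_right 2) hp (Set.finite_singleton s)
      (Set.singleton_subset_iff.2 hs) h2 h3 (fun Z hZ => sat h.sl fun e => hn (e.mono (Sz_anti hZ))) hA
      (fun a ha => X.cen_le_G {s} (h1 ha)) he hc fun a ha b hb =>
        X.cen_le_centralizer (Set.singleton_subset_iff.2 hs) (h1 hb) a ha
    exact ⟨g, h3 g hg h4, h5⟩

end Cfsg.Agent.KM.E2
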