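import Cfsg.Agent.KM.E2.L7a
import Cfsg.Agent.KM.E2.Tool
import Cfsg.Agent.KM.Sc.Lat
import Cfsg.Agent.KM.Tor.K6

/-!
# KM, `l = 2`, type `E₇` : `boxL7` (helper84)

`Co X` : coordinates for the roots and the cocharacters of a simply connected datum of type `E₇`.
-/

set_option autoImplicit false
set_option linter.unusedSectionVars false

namespace Cfsg.Agent.KM.E2

open Cfsg Cfsg.Lie Cfsg.Agent.DL Cfsg.Agent.Nodes.Reps Matrix Finset Cfsg.Agent.KM.Tor Cfsg.Agent.BpExc.Zc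
  Cfsg.Agent.Tits.Roots Cfsg.Agent.KZ.DatX Cfsg.Agent.Nodes.BNOf
open Cfsg.Agent.KM.Ev (Pe)
open Cfsg.Agent.TO.X.Cn (Pi1 cl)

namespace L7c

variable {p : ℕ} [Fact p.Prime] {k : Type} [Field k] [CharP k p] {Y : Type} [Group Y] {N : Type} [Fintype N]
  [DecidableEq N] {ρ : Y →* GL N k} {F : MulAut Y} {G : Subgroup Y} [IsAlgClosed k] {X : Datum p ρ F G}
  {a b d : X.I → ℤ} {u v : X.R → ℤ}

theorem tri3 (h : Sl X) (ha : X.Rt a) (hb : X.Rt b) : a = b ∨ a = -b ∨ (-1 ≤ pr X a b ∧ pr X a b ≤ 1) :=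
  (em (a = b)).imp_right fun h1 => (em (a = -b)).imp_right fun h2 => TW.bd h ha hb h1 h2

theorem pr_neg' (a b : X.I → ℤ) : pr X (-a) b = -pr X a b := TW.pr_neg a b

/-- the commutator relations of a simply laced datum -/
theorem cz_of_sl (h : Sl X) : CommZ X.cs X.h X.X := fun a b ha hb h1 h2 u hu v hv => by
  refine RGD.Sup_mono (fun e he => ?_) (X.comm ha hb h1 h2 hu hv)
  obtain ⟨he, m, s, t, hm, hs, ht, e1⟩ := he
  have k : ∀ y, m * pr X e y = s * pr X a y + t * pr X b y := fun y => by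
    have := congrArg (fun z => X.wt z ⬝ᵥ X.cor y) e1
    simp only [map_add, map_zsmul, add_dotProduct, smul_dotProduct, smul_eq_mul] at this
    exact this
  have k1 := k a
  have k2 := k b
  have k3 := k e
  have s1 : pr X b a = pr X a b := h b a hb ha
  have s2 : pr X a e = pr X e a := h a e ha he
  have s3 : pr X b e = pr X e b := h b e hb he
  rw [pr_self ha, s1] at k1
  rw [pr_self hb] at k2
  rw [pr_self he, s2, s3] at k3
  obtain ⟨b1, b2⟩ := TW.bd h ha hb h1 h2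
  change -1 ≤ pr X a b at b1
  change pr X a b ≤ 1 at b2
  have c1 : pr X e a ≤ 1 := by
    rcases tri3 h he ha with rfl | rfl | e2
    · rw [pr_self he] at k1
      generalize pr X e b = z at *
      interval_cases z <;> omega
    · rw [pr_neg', pr_self ha]; omega
    · exact e2.2
  have c2 : pr X e b ≤ 1 := by
    rcases tri3 h he hb with rfl | rfl | e2
    · rw [pr_self he] at k2
      rw [s1] at k1
      generalize pr X a e = z at *
      interval_cases z <;> omega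
    · rw [pr_neg', pr_self hb]; omega
    · exact e2.2
  have c3 : m * pr X e a ≤ m := by nlinarith
  have c4 : m * pr X e b ≤ m := by nlinarith
  have c5 : s * pr X e a ≤ s := by nlinarith
  have c6 : t * pr X e b ≤ t := by nlinarith
  have c7 : s = m ∧ t = m := by
    generalize pr X a b = z at *
    interval_cases z <;> omega
  rw [c7.1, c7.2, ← smul_add] at e1
  exact ⟨he, 1, 1, one_pos, one_pos, by rw [one_smul, one_smul]; exact smul_right_injective _ hm.ne' e1⟩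

variable (X) in
/-- coordinates -/
structure Co where
  φ : (X.I → ℤ) →+ V
  ψ : (X.R → ℤ) ≃+ V
  rt : ∀ a, X.Rt a → R (φ a)
  sj : ∀ b, R b → ∃ a, X.Rt a ∧ φ a = b
  cor : ∀ a, X.Rt a → ψ (X.cor a) = φ a
  wt : ∀ a u, X.wt a ⬝ᵥ u = B (φ a) (ψ u)

namespace Co

variable (C : Co X)

theorem pr (a : X.I → ℤ) (hb : X.Rt b) : pr X a b = B (C.φ a) (C.φ b) := (C.wt _ _).trans (by rw [C.cor b hb])

theorem inj : Function.Injective C.φ := fun a b h =>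
  X.wt_injective (dotProduct_eq _ _ fun u => by rw [C.wt, C.wt, h])

theorem dvd (n : ℤ) : (∀ r, n ∣ u r) ↔ ∀ i, n ∣ C.ψ u i := ⟨fun h i => by
  choose v hv using h
  rw [show u = n • v from funext hv, map_zsmul]
  exact dvd_mul_right _ _, fun h r => by
  choose v hv using h
  rw [← C.ψ.symm_apply_apply u, show C.ψ u = n • v from funext hv, map_zsmul]
  exact dvd_mul_right _ _⟩

theorem ev : Ev X u ↔ E (C.ψ u) := ⟨fun h => (E_iff _).2 fun i => by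
  obtain ⟨a, ha, e⟩ := C.sj _ (R_sr i)
  rw [← e, ← C.wt]
  exact h a ha, fun h a _ => C.wt a u ▸ h.dvd _⟩

theorem bas : ∃ a : Fin 7 → X.I → ℤ, (∀ i, X.Rt (a i) ∧ C.φ (a i) = sr i) ∧ ∀ v, v = ∑ i, C.ψ v i • X.cor (a i) := by
  choose a h1 h2 using fun i => C.sj _ (R_sr i)
  refine ⟨a, fun i => ⟨h1 i, h2 i⟩, fun v => C.ψ.injective ?_⟩
  simp only [map_sum, map_zsmul, C.cor _ (h1 _), h2]
  exact pi_eq_sum_univ' _

theorem fn (e : V) : ∃ m : X.R → ℤ, ∀ u, m ⬝ᵥ u = e ⬝ᵥ C.ψ u := ⟨fun r => e ⬝ᵥ C.ψ (Pi.single r 1), fun u => by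
  conv_rhs => rw [pi_eq_sum_univ' u, map_sum, dotProduct_sum]
  exact sum_congr rfl fun r _ => by rw [map_zsmul, dotProduct_smul, smul_eq_mul, mul_comm]⟩

/-- change of the coordinates -/
noncomputable def tw (w : X.W) : Co X where
  φ := C.φ.comp (AddMonoidHom.mk' (X.act w) (TW.a_add w))
  ψ := AddEquiv.trans ⟨⟨(X.Wm w *ᵥ ·), (X.Wm w⁻¹ *ᵥ ·), fun v => by simpa only [inv_inv] using Wm_Wm_inv w⁻¹ v, Wm_Wm_inv w⟩,
    mulVec_add _⟩ C.ψ
  rt a h := C.rt _ (h.act w)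
  sj b h :=
    let ⟨a, h1, h2⟩ := C.sj b h
    ⟨_, h1.act w⁻¹, (congrArg C.φ (act_act_inv w a)).trans h2⟩
  cor a h := (congrArg C.ψ (X.cor_act w h).symm).trans (C.cor _ (h.act w))
  wt a u := Eq.trans (by rw [dot_Wm, act_inv_act]) (C.wt (X.act w a) (X.Wm w *ᵥ u))

theorem tw_rf (hb : X.Rt b) (a : X.I → ℤ) : (C.tw (X.rf b)).φ a = C.φ a - B (C.φ a) (C.φ b) • C.φ b := by
  change C.φ (X.act _ a) = _
  rw [TW.act_rf hb, map_sub, map_zsmul, ← C.pr a hb]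
  rfl

theorem desc (ha : X.Rt a) {P : Co X → Prop} {t : V} (h : ∀ C, P C → C.φ a = t ∨ ∃ i, B (C.φ a) (sr i) < 0 ∧
    ∀ e, X.Rt e → C.φ e = sr i → P (C.tw (X.rf e))) (hC : P C) : ∃ C, P C ∧ C.φ a = t := by
  have key : ∀ (n : ℕ) (C : Co X), P C → 17 - ∑ i, C.φ a i < n → ∃ C, P C ∧ C.φ a = t := fun n => by
    induction n with
    | zero => exact fun C _ e => absurd (R.all (P := fun x => ∑ i, x i ≤ 17) ht0 (C.rt a ha)) (by omega)
    | succ n ih =>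
      intro C hC e
      refine (h C hC).elim (fun e => ⟨C, hC, e⟩) fun ⟨i, h1, h2⟩ => ?_
      obtain ⟨b, hb, h3⟩ := C.sj _ (R_sr i)
      refine ih _ (h2 b hb h3) ?_
      have h4 := Ex.sr_dot i (fun _ => (1 : ℤ))
      simp only [dotProduct, mul_one] at h4
      simp only [C.tw_rf hb, h3, Pi.sub_apply, Pi.smul_apply, smul_eq_mul, sum_sub_distrib, ← mul_sum, h4]
      push_cast at e
      omega
  exact key ((17 - ∑ i, C.φ a i).toNat + 1) C hC (by push_cast; omega)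

include C

/-- the normal form of a system of type `A₂` -/
theorem nf (ha : X.Rt a) (hb : X.Rt b) (h : E2.pr X a b = -1) : ∃ C : Co X, C.φ a = th ∧ C.φ b = -sr 0 := by
  obtain ⟨C, -, h1⟩ := C.desc ha (P := fun _ => True) (t := th) (fun C _ =>
    (R.all (P := fun x => x = th ∨ ∃ i, B x (sr i) < 0) up1 (C.rt a ha)).imp_right
      fun ⟨i, e⟩ => ⟨i, e, fun _ _ _ => trivial⟩) trivial
  exact C.desc hb (P := fun C => C.φ a = th) (fun C e =>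
    (R.all (P := fun x => B th x = -1 → x = -sr 0 ∨ ∃ i, B x (sr i) < 0 ∧ B th (sr i) = 0) up2 (C.rt b hb)
      (e ▸ (C.pr a hb).symm.trans h)).imp_right fun ⟨i, e1, e2⟩ => ⟨i, e1, fun f hf e3 => by
        rw [C.tw_rf hf, e, e3, e2, zero_smul, sub_zero]⟩) h1

theorem ls : LS X where
  sl a b ha hb := (C.pr a hb).trans ((B_comm _ _).trans (C.pr b ha).symm)
  q v :=
    let ⟨_, h1, h2⟩ := C.bas
    Sc.mem_QL.1 (h2 v ▸ sum_mem fun i _ => zsmul_mem (Sc.cor_QL (h1 i).1) _)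
  cz := cz_of_sl fun a b ha hb => (C.pr a hb).trans ((B_comm _ _).trans (C.pr b ha).symm)
  nz a ha h := R.all (P := fun x => ¬ E x) nz0 (C.rt a ha) (C.cor a ha ▸ C.ev.1 h)
  inj a b ha hb h := by
    have h1 := C.ev.1 h
    rw [map_sub, C.cor a ha, C.cor b hb] at h1
    exact (R.all (P := fun y => E (C.φ a - y) → y = C.φ a ∨ y = -C.φ a) (R.all (P := fun x => ∀ u ∈ K7.L7,
      E (x - L7c.mk u) → L7c.mk u = x ∨ L7c.mk u = -x) inj0 (C.rt a ha)) (C.rt b hb) h1).imp (fun e => C.inj e)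
        fun e => C.inj (e.trans (map_neg _ _).symm)

theorem inv (u : X.R → ℤ) : Ev X u ∨ Ns X u := (inv1 (C.ψ u)).imp C.ev.2 fun ⟨b, hb, e⟩ =>
  let ⟨a, ha, e'⟩ := C.sj b hb
  ⟨a, ha, C.ev.2 (by rwa [map_sub, C.cor a ha, e'])⟩

theorem zero (ha : X.Rt a) (hb : X.Rt b) (h : 2 ∣ E2.pr X a b) (h1 : a ≠ b) (h2 : a ≠ -b) : E2.pr X a b = 0 := by
  have := C.ls.bd ha hb h1 h2
  omega

theorem zero' (ha : X.Rt a) (hb : X.Rt b) (h : 2 ∣ E2.pr X a b) (h1 : ¬ Ev X (X.cor a - X.cor b)) : E2.pr X a b = 0 :=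
  C.zero ha hb h (fun e => h1 (by rw [e, sub_self]; exact ev_of_dvd fun _ => dvd_zero _)) fun e => h1 (by
    rw [e, X.cor_neg hb, ← neg_add', ← two_zsmul]; exact (ev_two _).neg)

theorem tri (ha : X.Rt a) (hb : X.Rt b) (h : E2.pr X a b = 0) :
    ∃ c, X.Rt c ∧ E2.pr X a c = 0 ∧ E2.pr X b c = 0 ∧ Ev X (X.cor a + X.cor b + X.cor c) := by
  rcases C.inv (X.cor a + X.cor b) with h1 | ⟨c, hc, h1⟩
  · have h2 := C.ls.inj a b ha hb (by
      rw [show X.cor a - X.cor b = X.cor a + X.cor b - (2 : ℤ) • X.cor b by module]; exact h1.sub (ev_two _))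
    rw [C.ls.symm ha hb] at h
    rcases h2 with rfl | rfl
    · rw [pr_self hb] at h; omega
    · rw [pr_neg', pr_self ha] at h; omega
  have k : ∀ a b, X.Rt a → X.Rt b → E2.pr X a b = 0 → Ev X (X.cor a + X.cor b - X.cor c) → E2.pr X a c = 0 :=
    fun a b ha hb h h1 => C.zero' ha hc (by
      have h2 := h1 a ha
      rw [dotProduct_sub, dotProduct_add] at h2
      change 2 ∣ E2.pr X a a + E2.pr X a b - E2.pr X a c at h2
      rw [pr_self ha, h] at h2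
      omega) fun e => C.ls.nz b hb (by
        rw [show X.cor b = X.cor a + X.cor b - X.cor c - (X.cor a - X.cor c) by module]; exact h1.sub e)
  refine ⟨c, hc, k a b ha hb h h1, k b a hb ha (C.ls.symm ha hb ▸ h) (add_comm (X.cor a) _ ▸ h1), ?_⟩
  rw [show X.cor a + X.cor b + X.cor c = X.cor a + X.cor b - X.cor c + (2 : ℤ) • X.cor c by module]
  exact h1.add (ev_two _)

omit C in
theorem gn3 {U : AddSubgroup (X.R → ℤ)} (h : ¬ Gn X 2 U) : ∃ x ∈ U, ∃ y ∈ U, ∃ z ∈ U, ¬ Ev X x ∧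
    (∀ i : ℤ, ¬ Ev X (y - i • x)) ∧ ∀ i j : ℤ, ¬ Ev X (z - (i • x + j • y)) := by
  have k : ∀ x y, ∃ z ∈ U, ∀ i j : ℤ, ¬ Ev X (z - (i • x + j • y)) := fun x y => by
    by_contra e
    push Not at e
    exact h ⟨![x, y], fun v hv =>
      let ⟨i, j, e⟩ := e v hv
      ⟨![i, j], by rwa [Fin.sum_univ_two]⟩⟩
  obtain ⟨x, hx, h1⟩ := k 0 0
  obtain ⟨y, hy, h2⟩ := k x 0
  obtain ⟨z, hz, h3⟩ := k x y
  exact ⟨x, hx, y, hy, z, hz, by simpa using h1 0 0, fun i => by simpa using h2 i 0, h3⟩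

theorem sig2 {U : AddSubgroup (X.R → ℤ)} (h0 : ∀ u, Ev X u → u ∈ U) (h : ¬ Gn X 2 U) :
    ∃ a ∈ Ru X U, ∃ b ∈ Ru X U, E2.pr X a b = 0 := by
  obtain ⟨x, hx, y, hy, z, hz, h1, h2, h3⟩ := gn3 h
  have r : ∀ v ∈ U, ¬ Ev X v → ∃ a ∈ Ru X U, Ev X (v - X.cor a) := fun v hv e =>
    let ⟨a, ha, e⟩ := (C.inv v).resolve_left e
    ⟨a, ⟨ha, by simpa using sub_mem hv (h0 _ e)⟩, e⟩
  obtain ⟨a, ha, e⟩ := r x hx h1
  have k : ∀ v ∈ U, ¬ Ev X v → ¬ Ev X (v - x) → 2 ∣ X.wt a ⬝ᵥ v → ∃ a ∈ Ru X U, ∃ b ∈ Ru X U, E2.pr X a b = 0 :=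
    fun v hv e1 e2 e3 => by
      obtain ⟨b, hb, e4⟩ := r v hv e1
      refine ⟨a, ha, b, hb, C.zero' ha.1 hb.1 ?_ fun e5 => e2 ?_⟩
      · have h4 := e4 a ha.1
        rw [dotProduct_sub] at h4
        exact (dvd_sub_right e3).1 h4 |> fun h5 => h5
      · rw [show v - x = v - X.cor b - (x - X.cor a) - (X.cor a - X.cor b) by module]
        exact (e4.sub e).sub e5
  by_cases e1 : 2 ∣ X.wt a ⬝ᵥ y
  · exact k y hy (by simpa using h2 0) (by simpa using h2 1) e1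
  by_cases e2 : 2 ∣ X.wt a ⬝ᵥ z
  · exact k z hz (by simpa using h3 0 0) (by simpa using h3 1 0) e2
  refine k (z - y) (sub_mem hz hy) (by simpa using h3 0 1) (by simpa [sub_sub, add_comm] using h3 1 1) ?_
  rw [dotProduct_sub]
  omega

theorem sig1 {U : AddSubgroup (X.R → ℤ)} (h0 : ∀ u, Ev X u → u ∈ U) (h : ¬ Gn X 2 U) : ¬ Hf X (Sg X U) := by
  classical
  rintro ⟨s, s1, s2, s3, s4⟩
  let κ : (X.R → ℤ) →+ W := ka.comp C.ψ.toAddMonoidHom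
  have k0 : ∀ u, κ u = 0 ↔ Ev X u := fun u => (ka_eq _).trans C.ev.symm
  have k1 : ∀ u v, κ u = κ v ↔ Ev X (u - v) := fun u v => by rw [← k0, map_sub, sub_eq_zero]
  have k2 : ∀ a, X.Rt a → ∀ u, 2 ∣ X.wt a ⬝ᵥ u → J.toBilin' (κ (X.cor a)) (κ u) = 0 := fun a ha u e => by
    rw [C.wt, ← C.cor a ha] at e
    exact (om_ka _ _).trans ((ZMod.intCast_zmod_eq_zero_iff_dvd _ 2).2 e)
  have s5 : Ev X (∑ a ∈ s, X.cor a) := fun c hc => by
    rw [dotProduct_sum, sum_congr rfl fun a ha => C.ls.sl c a hc (s2 a ha).1, ← sum_dotProduct]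
    exact dvd_sum fun r _ => (s4 r).mul_right _
  have s6 : ∀ a ∈ s, ∀ b ∈ s, a ≠ b → ¬ Ev X (X.cor a - X.cor b) := fun a ha b hb e e1 => by
    have e2 := s3 b hb a ha e.symm
    rw [(C.ls.inj a b (s2 a ha).1 (s2 b hb).1 e1).resolve_left e.symm, pr_neg', pr_self (s2 a ha).1] at e2
    omega
  have s7 : 2 < #s := by
    have := s1.card_pos
    by_contra e
    rcases show #s = 1 ∨ #s = 2 by omega with e | e
    · obtain ⟨a, rfl⟩ := card_eq_one.1 e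
      exact C.ls.nz a (s2 a (mem_singleton_self a)).1 (sum_singleton X.cor a ▸ s5)
    · obtain ⟨a, b, e', rfl⟩ := card_eq_two.1 e
      rw [sum_pair e'] at s5
      refine s6 a (by simp) b (by simp) e' ?_
      rw [show X.cor a - X.cor b = X.cor a + X.cor b - (2 : ℤ) • X.cor b by module]
      exact s5.sub (ev_two _)
  obtain ⟨a, b, d, ha, hb, hd, ab, ad, bd⟩ := two_lt_card_iff.1 s7
  have n : ∀ a ∈ s, κ (X.cor a) ∉ AddSubgroup.toZModSubmodule 2 (U.map κ) := fun a ha ⟨u, hu, e⟩ =>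
    (s2 a ha).2.2 (by simpa using sub_mem hu (h0 _ ((k1 _ _).1 e)))
  have ne : ∀ a ∈ s, ∀ b ∈ s, a ≠ b → κ (X.cor a) ≠ κ (X.cor b) := fun a ha b hb e e1 => s6 a ha b hb e ((k1 _ _).1 e1)
  refine key (AddSubgroup.toZModSubmodule 2 (U.map κ)) ?_ (n a ha) (n b hb) (n d hd) (ne a ha b hb ab) (ne a ha d hd ad)
    (ne b hb d hd bd) ?_
  · obtain ⟨x, hx, y, hy, z, hz, h1, h2, h3⟩ := gn3 h
    have h4 : ∀ i, ![0, x, y, y - x, z] i ∈ U := fun i => by fin_cases i <;> simp [hx, hy, hz, sub_mem]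
    have h5 : ∀ i j, i < j → ¬ Ev X (![0, x, y, y - x, z] j - ![0, x, y, y - x, z] i) := fun i j => by
      have a0 : ¬ Ev X (-x) := fun e => h1 (neg_neg x ▸ e.neg)
      have a1 : ¬ Ev X y := by simpa using h2 0
      have a2 : ¬ Ev X (y - x) := by simpa using h2 1
      have a3 : ¬ Ev X (y - x - x) := by simpa only [two_zsmul, sub_sub] using h2 2
      have a4 : ¬ Ev X z := by simpa using h3 0 0
      have a5 : ¬ Ev X (z - x) := by simpa using h3 1 0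
      have a6 : ¬ Ev X (z - y) := by simpa using h3 0 1
      have a7 : ¬ Ev X (z - (y - x)) := by simpa only [neg_one_zsmul, one_smul, neg_add_eq_sub] using h3 (-1) 1
      fin_cases i <;> fin_cases j <;> simp [h1, a0, a1, a2, a3, a4, a5, a6, a7]
    have h6 : Function.Injective fun i => (⟨_, _, h4 i, rfl⟩ : AddSubgroup.toZModSubmodule 2 (U.map κ)) :=
      .of_lt_imp_ne fun i j e e' => h5 i j e ((k1 _ _).1 (congrArg Subtype.val e').symm)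
    simpa using Nat.card_le_card_of_injective _ h6
  · have k3 : ∀ e ∈ s, ∀ y, y ∈ AddSubgroup.toZModSubmodule 2 (U.map κ) ∨
        y ∈ ({κ (X.cor a), κ (X.cor b), κ (X.cor d)} : Set W) → J.toBilin' (κ (X.cor e)) y = 0 := fun e he y hy => by
      have k4 : ∀ f ∈ s, J.toBilin' (κ (X.cor e)) (κ (X.cor f)) = 0 := fun f hf => k2 e (s2 e he).1 _ (by
        by_cases e1 : e = f
        · exact e1 ▸ (pr_self (s2 e he).1).symm.dvd
        · exact (dvd_zero 2).trans (s3 e he f hf e1).symm.dvd)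
      rcases hy with ⟨u, hu, rfl⟩ | rfl | rfl | rfl
      exacts [k2 e (s2 e he).1 u ((s2 e he).2.1 u hu), k4 a ha, k4 b hb, k4 d hd]
    rintro x (rfl | rfl | rfl)
    exacts [k3 a ha, k3 b hb, k3 d hd]

theorem neg : ∃ w, X.Wm w = -1 := by
  have k : ∀ l : List V, (∀ e ∈ l, R e) → ∃ w, ∀ v, C.ψ (X.Wm w *ᵥ v) = l.foldr rf (C.ψ v) := fun l => by
    induction l with
    | nil => exact fun _ => ⟨1, fun v => by rw [X.Wm_one, one_mulVec]; rfl⟩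
    | cons e l ih =>
      intro h
      obtain ⟨w, hw⟩ := ih fun x hx => h x (List.mem_cons_of_mem _ hx)
      obtain ⟨a, ha, rfl⟩ := C.sj e (h e List.mem_cons_self)
      refine ⟨X.rf a * w, fun v => ?_⟩
      rw [X.Wm_mul, ← mulVec_mulVec, Sc.Wm_rf_vec ha, map_sub, map_zsmul, C.wt, hw, C.cor a ha]
      rfl
  obtain ⟨w, hw⟩ := k o7 o7_R
  obtain ⟨a, h1, h2⟩ := C.bas
  have h3 : ∀ i, X.Wm w *ᵥ X.cor (a i) = -X.cor (a i) := fun i => C.ψ.injective (by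
    rw [hw, map_neg, C.cor _ (h1 i).1, (h1 i).2, o7_neg])
  refine ⟨w, Matrix.ext_iff_mulVec.2 fun v => ?_⟩
  rw [neg_mulVec, one_mulVec, h2 v, mulVec_sum, ← sum_neg_distrib]
  exact sum_congr rfl fun i _ => by rw [mulVec_smul, h3, smul_neg]

omit C in
theorem pair_rt (ha : X.Rt a) (hb : X.Rt b) : ∀ c ∈ ({a, b} : Set (X.I → ℤ)), X.Rt c := by
  rintro c (rfl | rfl) <;> assumption

theorem mem_pe (ha : X.Rt a) (hb : X.Rt b) : d ∈ Pe X {a, b} ↔ X.Rt d ∧ B (C.φ d) (C.φ a) = 0 ∧ B (C.φ d) (C.φ b) = 0 := by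
  rw [mem_Pe (pair_rt ha hb), Set.forall_mem_insert, ← C.pr d ha, ← C.pr d hb]
  simp only [Set.mem_singleton_iff, forall_eq]

theorem mem_A2 {σ : Fin 6 → Fin 6} (hσ : Function.Injective σ) {i j l : Fin 6} (ij : i ≠ j) (il : i ≠ l) (jl : j ≠ l)
    (ha : C.φ a = c (σ i) (σ j)) (hb : C.φ b = c (σ j) (σ l)) :
    d ∈ A2 X a b ↔ ∃ x ∈ [i, j, l], ∃ y ∈ [i, j, l], x ≠ y ∧ C.φ d = c (σ x) (σ y) := by
  simp only [A2, Set.mem_insert_iff, Set.mem_singleton_iff, ← C.inj.eq_iff, map_add, map_neg, ha, hb, c, neg_sub,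
    sub_add_sub_cancel, List.mem_cons, List.not_mem_nil, or_false, exists_eq_or_imp, exists_eq_left, ne_eq, not_true,
    false_and, false_or, ij, il, jl, ij.symm, il.symm, jl.symm, not_false_eq_true, true_and]
  tauto

theorem a3 {w : X.W} (ha : X.Rt a) (hb : X.Rt b) (h1 : C.φ a = th) (h2 : C.φ b = -sr 0) (h3 : Ev X u) (h4 : ¬ ∀ r, 2 ∣ u r)
    (h5 : X.act w a = a) (h6 : X.act w b = b) (h7 : ∀ r, 4 ∣ (X.Wm w *ᵥ u + u) r) :
    ∃ a₁ b₁ a₂ b₂, A3c X a b u w a₁ b₁ a₂ b₂ := by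
  have p0 : ∀ i, ∃ j, ∀ v, ee i ⬝ᵥ C.ψ (X.Wm w *ᵥ v) = ee j ⬝ᵥ C.ψ v := fun i => by
    obtain ⟨m, hm⟩ := C.fn (ee i)
    let m' : V := fun r => m ⬝ᵥ X.Wm w *ᵥ C.ψ.symm (sr r)
    have k : ∀ v, ee i ⬝ᵥ C.ψ (X.Wm w *ᵥ v) = m' ⬝ᵥ C.ψ v := fun v => by
      conv_lhs => rw [← hm, ← C.ψ.symm_apply_apply v, pi_eq_sum_univ' (C.ψ v), map_sum, mulVec_sum, dotProduct_sum]
      exact sum_congr rfl fun r _ => by rw [map_zsmul, mulVec_smul, dotProduct_smul, smul_eq_mul, mul_comm]; rfl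
    have k' : ∀ d, X.Rt d → m' ⬝ᵥ C.φ d = ee i ⬝ᵥ C.φ (X.act w d) := fun d hd => by
      rw [← C.cor d hd, ← k, ← X.cor_act w hd, C.cor _ (hd.act w)]
    obtain ⟨j, e⟩ := min1 (m := m') (by rw [← h1, k' a ha, h5, h1, (ee_th i).1]) (by rw [← h2, k' b hb, h6, h2, (ee_th i).2])
      fun x hx => by
        obtain ⟨d, hd, rfl⟩ := C.sj x hx
        rw [k' d hd]
        exact R.all (P := fun x => ee i ⬝ᵥ x ∈ [(0 : ℤ), 1, -1]) (ee_R i) (C.rt _ (hd.act w))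
    exact ⟨j, e ▸ k⟩
  choose π hπ using p0
  have p1 : Function.Injective π := fun i j e => ee_inj (dotProduct_eq _ _ fun x => by
    rw [← C.ψ.apply_symm_apply x, ← Wm_Wm_inv w (C.ψ.symm x), hπ, hπ, e])
  have p2 : ∀ i, ¬ 2 ∣ ee i ⬝ᵥ C.ψ u := fun i e => ee_zz i (by
    have e1 : 2 ∣ ee i ⬝ᵥ (C.ψ u - zz) :=
      dvd_sum fun r _ => (((C.ev.1 h3).cases.resolve_left (mt (C.dvd 2).2 h4)) r).mul_left _
    rw [dotProduct_sub] at e1
    omega)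
  have p3 : ∀ i, 4 ∣ ee (π i) ⬝ᵥ C.ψ u + ee i ⬝ᵥ C.ψ u := fun i => by
    rw [← hπ, ← dotProduct_add, ← map_add]
    exact dvd_sum fun r _ => ((C.dvd 4).1 h7 r).mul_left _
  obtain ⟨σ, s1, s2⟩ := split (b := fun i => decide (4 ∣ ee i ⬝ᵥ C.ψ u - 1)) p1 fun i => by
    have := p2 i
    have := p3 i
    rw [← decide_not, decide_eq_decide]
    omega
  simp only [decide_eq_decide] at s2
  obtain ⟨τ, s3⟩ := (Finite.injective_iff_surjective.1 s1).hasRightInverse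
  have cr : ∀ i j : Fin 6, i ≠ j → ∃ d, X.Rt d ∧ C.φ d = c (σ i) (σ j) := fun i j e => C.sj _ (c_R _ _ (s1.ne e)).1
  obtain ⟨a₁, r1, e1⟩ := cr 0 1 (by decide)
  obtain ⟨b₁, r2, e2⟩ := cr 1 2 (by decide)
  obtain ⟨a₂, r3, e3⟩ := cr 3 4 (by decide)
  obtain ⟨b₂, r4, e4⟩ := cr 4 5 (by decide)
  have m1 := fun d => C.mem_A2 (d := d) s1 (by decide) (by decide) (by decide) e1 e2
  have m2 := fun d => C.mem_A2 (d := d) s1 (by decide) (by decide) (by decide) e3 e4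
  have ec : ∀ i j l, ee (σ i) ⬝ᵥ c (σ j) (σ l) = ee i ⬝ᵥ c j l := fun i j l => by simp only [ee_c, s1.eq_iff]
  have pe : ∀ d, d ∈ Pe X {a, b} ↔ ∃ i j, i ≠ j ∧ C.φ d = c (σ i) (σ j) := fun d => by
    rw [C.mem_pe ha hb, h1, h2]
    refine ⟨fun ⟨k1, k2, k3⟩ => ?_, fun ⟨i, j, k1, k2⟩ => ?_⟩
    · obtain ⟨i, j, k4, k5⟩ := R.all (P := fun x => B x th = 0 → B x (-sr 0) = 0 → ∃ i j, i ≠ j ∧ x = c i j) ex_c
        (C.rt d k1) k2 k3
      exact ⟨τ i, τ j, s3.injective.ne k4, by rw [s3, s3, k5]⟩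
    · obtain ⟨d', k3, k4⟩ := cr i j k1
      exact ⟨C.inj (k4.trans k2.symm) ▸ k3, k2 ▸ (c_R _ _ (s1.ne k1)).2⟩
  have l1 : ∀ i : Fin 6, i ∈ [(0 : Fin 6), 1, 2] ↔ i < 3 := by decide
  have l2 : ∀ i : Fin 6, i ∈ [(3 : Fin 6), 4, 5] ↔ ¬ i < 3 := by decide
  simp only [l1] at m1
  simp only [l2] at m2
  have q4 : ∀ d i j, C.φ d = c (σ i) (σ j) → (4 ∣ X.wt d ⬝ᵥ u ↔ (i < 3 ↔ j < 3)) := fun d i j e => by
    have := p2 (σ i)
    have := p2 (σ j)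
    rw [C.wt, e, B_c, ← s2, ← s2]
    omega
  refine ⟨a₁, b₁, a₂, b₂, ?_, ?_, Set.ext fun d => ?_, fun x hx y hy => ?_, fun x hx => ?_, ?_, ?_⟩
  · rw [C.pr _ r2, e1, e2, B_c, ec, ec]; decide
  · rw [C.pr _ r4, e3, e4, B_c, ec, ec]; decide
  · rw [Set.mem_union, m1, m2, Set.mem_inter_iff]
    refine ⟨fun ⟨k1, k2⟩ => ?_, fun k => ?_⟩
    · obtain ⟨i, j, k3, k4⟩ := (pe d).1 k2
      have k5 := (q4 d i j k4).1 k1.2
      by_cases k6 : i < 3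
      exacts [.inl ⟨i, k6, j, k5.1 k6, k3, k4⟩, .inr ⟨i, k6, j, mt k5.2 k6, k3, k4⟩]
    · obtain ⟨i, j, k3, k4, k5⟩ : ∃ i j, i ≠ j ∧ C.φ d = c (σ i) (σ j) ∧ (i < 3 ↔ j < 3) :=
        k.elim (fun ⟨i, k1, j, k2, k3, k4⟩ => ⟨i, j, k3, k4, iff_of_true k1 k2⟩)
          fun ⟨i, k1, j, k2, k3, k4⟩ => ⟨i, j, k3, k4, iff_of_false k1 k2⟩
      have k6 := (pe d).2 ⟨i, j, k3, k4⟩
      exact ⟨⟨k6.1, (q4 d i j k4).2 k5⟩, k6⟩
  · obtain ⟨i, k1, j, k2, -, k3⟩ := (m1 x).1 hx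
    obtain ⟨l, k4, m, k5, k6, k7⟩ := (m2 y).1 hy
    rw [C.pr _ ((pe y).2 ⟨l, m, k6, k7⟩).1, k3, k7, B_c, ec, ec, ee_c, ee_c, if_neg (by omega), if_neg (by omega),
      if_neg (by omega), if_neg (by omega)]
    rfl
  · obtain ⟨i, k1, j, k2, k3, k4⟩ := (m1 x).1 hx
    have k5 := (pe x).2 ⟨i, j, k3, k4⟩
    have k6 := (mem_Pe (pair_rt ha hb)).1 k5
    obtain ⟨l, m, k7, k8⟩ := (pe (X.act w x)).1 ((mem_Pe (pair_rt ha hb)).2 ⟨k5.1.act w, by
      rintro y (rfl | rfl)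
      · exact h5 ▸ (TW.pr_act w x ha).trans (k6.2 _ (.inl rfl))
      · exact h6 ▸ (TW.pr_act w x hb).trans (k6.2 _ (.inr rfl))⟩)
    have k9 : ∀ n, ee n ⬝ᵥ c l m = ee (τ (π (σ n))) ⬝ᵥ c i j := fun n => by
      rw [← ec, ← k8, ← C.cor _ (k5.1.act w), X.cor_act w k5.1, hπ, C.cor _ k5.1, k4, ← ec (τ _), s3]
    have k10 : ∀ n, τ (π (σ n)) < 3 → ¬ n < 3 := fun n e => by
      have := p2 (σ n)
      have := p3 (σ n)
      rw [← s2, s3] at e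
      rw [← s2]
      omega
    have k11 : ∀ n, ee n ⬝ᵥ c l m ≠ 0 → ¬ n < 3 := fun n e => k10 n (by
      rw [k9, ee_c] at e
      by_contra e'
      exact e (by rw [if_neg (by omega), if_neg (by omega)]; rfl))
    exact (m2 _).2 ⟨l, k11 l (by rw [ee_c, if_pos rfl, if_neg k7]; decide), m,
      k11 m (by rw [ee_c, if_neg k7.symm, if_pos rfl]; decide), k7, k8⟩
  · rw [C.dvd]
    simp only [map_add, map_sub, C.cor _ ha, C.cor _ hb, C.cor _ r1, C.cor _ r2, C.cor _ r3, C.cor _ r4, h1, h2, e1, e2, e3, e4]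
    exact glue1 σ s1
  · choose m hm using C.fn
    refine ⟨![m (ee (σ 0)), -m (ee (σ 2)), m (ee (σ 3)), -m (ee (σ 5))], fun i j => ?_⟩
    fin_cases i <;> fin_cases j <;>
      simp [hm, C.cor _ r1, C.cor _ r2, C.cor _ r3, C.cor _ r4, e1, e2, e3, e4, ec, ee_c]

theorem l7 : L7 X where
  toLS := C.ls
  z := ⟨C.ψ.symm zz, C.ev.2 (by rw [C.ψ.apply_symm_apply]; exact E_zz.1),
    by rw [C.dvd, C.ψ.apply_symm_apply]; exact E_zz.2,
    fun u h => by rw [C.dvd, C.dvd, map_sub, C.ψ.apply_symm_apply]; exact (C.ev.1 h).cases⟩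
  ctr m := by
    obtain ⟨a, h1, h2⟩ := C.bas
    let μ : V := fun i => m ⬝ᵥ X.cor (a i)
    have e : (2 : ℤ) • m = ∑ i, dd μ i • X.wt (a i) := dotProduct_eq _ _ fun u => by
      have e1 : C.φ (∑ i, dd μ i • a i) = dd μ := by
        simp only [map_sum, map_zsmul, (h1 _).2]
        exact (pi_eq_sum_univ' _).symm
      have e2 := C.wt (∑ i, dd μ i • a i) u
      simp only [e1, B_dd, map_sum X.wt, map_zsmul] at e2
      rw [e2, smul_dotProduct, smul_eq_mul]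
      conv_lhs => rw [h2 u, dotProduct_sum]
      exact congrArg _ (sum_congr rfl fun i _ => by rw [dotProduct_smul, smul_eq_mul, mul_comm])
    exact e ▸ sum_mem fun i _ => Submodule.smul_mem _ _ (Submodule.subset_span ⟨_, (h1 i).1, rfl⟩)
  inv := C.inv
  tri _ _ := C.tri
  sig _ h0 h := ⟨C.sig1 h0 h, C.sig2 h0 h⟩
  neg := C.neg
  sz a b d ha hb h hd h1 h2 := by
    have k : ∀ a b, X.Rt a → X.Rt b → E2.pr X a b = -1 → 2 ∣ E2.pr X d a → 2 ∣ E2.pr X d b → E2.pr X d a = 0 :=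
      fun a b ha hb h h1 h2 => C.zero hd ha h1 (fun e => by rw [e, h] at h2; omega) fun e => by
        rw [e, pr_neg', h] at h2; omega
    refine (mem_Pe (pair_rt ha hb)).2 ⟨hd, ?_⟩
    rintro y (rfl | rfl)
    exacts [k _ b ha hb h h1 h2, k _ a hb ha (C.ls.symm ha hb ▸ h) h2 h1]
  pp a b ha hb h v hv := by
    obtain ⟨C, h1, h2⟩ := C.nf ha hb h
    refine ⟨C.ψ v 6, 2 * C.ψ v 6 - C.ψ v 0, C.ψ.injective ((pp1 (v := C.ψ v) fun i e1 e2 => ?_).trans ?_)⟩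
    · obtain ⟨d, hd, e⟩ := C.sj _ (R_sr i)
      rw [← e, ← C.wt]
      exact hv d ((C.mem_pe ha hb).2 ⟨hd, by rw [e, h1, h2]; exact pp0 i e1 e2⟩)
    · rw [map_add, map_zsmul, map_zsmul, C.cor a ha, C.cor b hb, h1, h2]
  du a b ha hb h := by
    obtain ⟨C, h1, h2⟩ := C.nf ha hb h
    obtain ⟨d, hd, e⟩ := C.sj _ du0.1
    exact ⟨d, hd, by rw [C.pr a hd, h1, e, du0.2.1], by rw [C.pr b hd, h2, e, du0.2.2]⟩
  a3 a b u w ha hb h h3 _ _ h4 h5 h6 h7 :=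
    let ⟨C, h1, h2⟩ := C.nf ha hb h
    C.a3 ha hb h1 h2 h3 h4 h5 h6 h7

end Co

end L7c

open L7c in
theorem boxL7 : BoxL7 := fun r _ k _ _ _ e X Y _ N _ _ ρ F X' θ I h1 => by
  have cl7 : ∀ β : V, cl X.D β = cc β := fun β => (K6.cl_co X β).trans (co_eq β)
  have hR : I.Rg := I.rg h1 two_ne_zero fun (v : V) => ⟨dd v, ((cl7 _).trans (cc_dd v)).symm⟩
  have b0 : ∀ u, ∃ β : V, I.P *ᵥ u = cc β := fun u => ((hR _).2 ⟨u, rfl⟩).imp fun _ e => e.trans (cl7 _)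
  choose ψ hψ using b0
  have b1 : Function.Bijective (AddMonoidHom.mk' (M := X'.R → ℤ) (G := V) ψ fun u v =>
      cc_inj (by rw [cc_add, ← hψ, ← hψ, ← hψ, mulVec_add]; rfl)) :=
    ⟨fun u v h => I.P_inj ((hψ u).trans ((congrArg cc h).trans (hψ v).symm)), fun β =>
      let ⟨u, hu⟩ := (hR _).1 ⟨β, rfl⟩
      ⟨u, cc_inj ((hψ u).symm.trans (hu.trans (cl7 β)))⟩⟩
  have w1 : ∀ a' (a : V), X'.wt a' = X.D.wt a ᵥ* I.P → ∀ u, X'.wt a' ⬝ᵥ u = B a (ψ u) := fun a' a h u => by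
    rw [h, ← dotProduct_mulVec, hψ]
    exact dot_cc _ _
  have b2 : ∀ i, ∃ b : V, ∀ u, X'.wt (sr i) ⬝ᵥ u = B b (ψ u) := fun i =>
    let ⟨b, _, h⟩ := I.root _ (isRoot_sr X'.cs X'.h i)
    ⟨b, w1 _ b h⟩
  choose b hb using b2
  let φ : (X'.I → ℤ) →+ V := AddMonoidHom.mk' (fun a => ∑ i, a i • b i) fun x y => by
    simp only [Pi.add_apply, add_smul, sum_add_distrib]
  have w2 : ∀ a u, X'.wt a ⬝ᵥ u = B (φ a) (ψ u) := fun a u => by
    conv_lhs => rw [pi_eq_sum_univ' a, map_sum, sum_dotProduct]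
    refine Eq.trans (sum_congr rfl fun i _ => ?_) ((sum_dotProduct _ _ _).symm.trans (dot_cc _ _))
    rw [map_zsmul, smul_dotProduct, smul_dotProduct, dot_cc, ← hb]
    rfl
  have w3 : ∀ a' (a : V), X'.wt a' = X.D.wt a ᵥ* I.P → φ a' = a := fun a' a h => B_inj fun x => by
    obtain ⟨u, rfl⟩ := b1.2 x
    exact (w2 a' u).symm.trans (w1 a' a h u)
  refine ⟨Co.l7 ⟨φ, AddEquiv.ofBijective _ b1, fun a ha => ?_, fun a ha => ?_, fun a ha => ?_, w2⟩,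
    Matrix.ext_iff_mulVec.2 fun u => I.P_inj ?_⟩
  · obtain ⟨a', h2, h3⟩ := I.root a ha
    exact w3 a a' h3 ▸ (R_iff _).2 ((X.rt_iff _).1 h2)
  · obtain ⟨a', h2, h3⟩ := I.root' a ((X.rt_iff _).2 ((R_iff _).1 ha))
    exact ⟨a', h2, w3 a' a h3⟩
  · obtain ⟨a', h2, h3⟩ := I.root a ha
    exact cc_inj ((hψ _).symm.trans ((I.cor ha h2 h3).trans ((cor_eq X K7.sl h2).trans ((co_eq _).trans
      (congrArg L7c.cc (w3 a a' h3).symm)))))
  · rw [← I.Mx_P, smul_mulVec, one_mulVec, mulVec_smul]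
    exact (smul_mulVec _ _ _).trans (congrArg _ (one_mulVec _))

end Cfsg.Agent.KM.E2
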