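import Cfsg.Agent.KM.E2.Defs
import Cfsg.Agent.BH.Reg.A
import Cfsg.Agent.TO.Can1
import Cfsg.Agent.S0963

/-!
# KM, `l = 2`, box BL: the canonical character of a normal subgroup of index two (helper24)
-/

set_option autoImplicit false
set_option linter.style.haveILetI false
set_option linter.unusedSectionVars false
set_option maxHeartbeats 400000

namespace Cfsg.Agent.KM.E2

namespace BL

open Cfsg Subgroup Cfsg.Agent Cfsg.Agent.Blocks Cfsg.Agent.Characters.Core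
open Cfsg.Agent.TID.Red Cfsg.Agent.KM.BK Cfsg.Agent.TO Cfsg.Agent.H592.Transport

variable {p : ℕ} [Fact p.Prime] {M : Ideal AlgInt} {G : Type*} [Group G] [Finite G] {b : Set (IrrCharacter G)}
  {D : Subgroup G} {θ : G → ℂ}

/-- the block of a subgroup which contains the centralizer of the defect group -/
theorem can_sub (h : Can p M b D θ) {J : Subgroup G} (hJ : Ce D ≤ J) :
    ∃ c : Set (IrrCharacter J), IsInducedBlock M J c b ∧ Can p M c (D.subgroupOf J) fun x => θ x := by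
  have := h.prime
  have hD : D ≤ J := h.ab.trans hJ
  let e : Ce (D.subgroupOf J) ≃* Ce D :=
    { toFun := fun x => ⟨(x : J), (Cn.mem_Ce_sub hD _).1 x.2⟩
      invFun := fun y => ⟨⟨y, hJ y.2⟩, (Cn.mem_Ce_sub hD _).2 y.2⟩
      left_inv := fun _ => rfl
      right_inv := fun _ => rfl
      map_mul' := fun _ _ => rfl }
  have h1 : D.subgroupOf J ≤ Ce (D.subgroupOf J) := fun d hd => (Cn.mem_Ce_sub hD d).2 (h.ab hd)
  have h2 := isPBlock_trSet e h.he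
  obtain ⟨c, h3⟩ := S0919.result p M h.hM (D.subgroupOf J) _ h.pg.comap_subtype h1 le_rfl
    (centralizer_le_normalizer _) _ h2
  have h4 : IsInducedBlock M J c b := (IndH.trans_iff (ι₁ := (Ce (D.subgroupOf J)).subtype) (ι₂ := J.subtype)
    (ι := J.subtype.comp (Ce (D.subgroupOf J)).subtype) (fun _ => rfl) h3).1
    (IndH.src e (ι := (Ce D).subtype) (fun _ => rfl) h.ind)
  obtain ⟨E, h5, h6⟩ := S0917.result p M h.hM _ _ h2 c h3.2.1 h3 _ (isDefectGroup_trSet e h.hdef)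
  obtain ⟨E', h7, h8⟩ := S0917.result p M h.hM _ _ h4.1 b h.hb h4 E h5
  have h9 : D.subgroupOf J = E := eq_of_le_of_card_ge (fun d hd => h6 ⟨⟨d, h1 hd⟩, hd, rfl⟩) (by
    rw [← card_map_of_injective J.subtype_injective, Nat.card_congr (subgroupOfEquivOfLe hD).toEquiv,
      S0908.result p M h.hM b h.hb D h.hD, ← S0908.result p M h.hM b h.hb E' h7]
    exact card_le_of_le h8)
  refine ⟨c, h4, (Can.of_tst h.hM ((H649.isBrauerPairOf_iff_isInducedBlock h.hM h4.1 h.pg.comap_subtype h2).2 h3)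
    (by rw [← h9] at h5; exact h5) h1 ⟨tr e h.chr, tr_mem_trSet.2 h.chr_mem, fun _ => rfl⟩ (fun d hd => h.triv d hd) fun g hg => ?_).1⟩
  exact h.zero _ fun h10 => hg ((Cn.mem_Ce_sub hD g).2 h10)

theorem ov_center {N : Subgroup G} [N.Normal] {χ : IrrCharacter G} {ξ : IrrCharacter N}
    (h : Ov N.subtype (χ : G → ℂ) (ξ : N → ℂ)) {z : N} (hz : (z : G) ∈ center G) :
    (χ : G → ℂ) z / (χ : G → ℂ) 1 = (ξ : N → ℂ) z / (ξ : N → ℂ) 1 := by
  letI := Fintype.ofFinite G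
  letI := Fintype.ofFinite N
  have h1 := (S0963.result N χ ξ).1 ((ov_subtype_iff _ _ _).1 h) z
  rwa [Cn.central_center _ hz, Cn.induced_center _ hz z.2] at h1

theorem bl (h : Can 2 M b D θ) {J₀ J : Subgroup G} (h0 : J₀ ≤ J) (hC : Ce D ≤ J) (hi : J₀.relIndex J = 2)
    (hD : ¬ D ≤ J₀) (hz : ∀ a ∈ D, a ∈ J₀ → ∀ g ∈ J₀, a * g = g * a) :
    ∃ η : G → ℂ, IsIrrCharacter J₀ (fun g => η g) ∧ (∀ a ∈ D, a ∈ J₀ → η a = η 1) ∧
      (∀ g ∈ J₀, ∀ x, IsPPart 2 g x → x ∉ D → η g = 0) ∧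
      (∀ t ∈ In D θ, (∀ g ∈ J, t * g * t⁻¹ ∈ J) → (∀ g ∈ J₀, t * g * t⁻¹ ∈ J₀) →
        ∀ g ∈ J₀, η (t * g * t⁻¹) = η g) ∧
      ∀ s ∈ J₀, (∀ g ∈ J, s * g = g * s) → ¬ 2 ∣ orderOf s → η s * θ 1 = θ s * η 1 := by
  have := h.prime
  have hM := h.hM
  obtain ⟨c, -, hc⟩ := can_sub h hC
  have hn : (J₀.subgroupOf J).Normal := normal_of_index_eq_two hi
  obtain ⟨β, h1, h2, h3⟩ := BH.Reg.exists_stable hM (J₀.subgroupOf J).subtype_injective
    (by rw [range_subtype]; exact hn) hc.hb hc.hD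
  obtain ⟨T, hT⟩ := exists_isStab h1
  have h4 : T = ⊤ := by
    obtain ⟨d, h5, h6⟩ := SetLike.not_le_iff_exists.1 hD
    refine top_le_iff.1 fun g _ => ?_
    by_cases h7 : g ∈ J₀.subgroupOf J
    · exact hT.le h1 h7
    · let d' : J := ⟨d, hC (h.ab h5)⟩
      have h8 : g * d' ∈ J₀.subgroupOf J := (mul_mem_iff_of_index_two hi).2 (iff_of_false h7 h6)
      exact (mul_mem_cancel_right ((isStab_iff.1 hT d').2 (h3 d' h5))).1 (hT.le h1 h8)
  subst h4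
  obtain rfl := BH.Reg.cov_eq hM hc.hb h1 hT h2
  have h5 := defect_cov hM hc.hb hc.hD h1
  set Q := (D.subgroupOf J ⊓ J₀.subgroupOf J).subgroupOf (J₀.subgroupOf J) with hQ
  have hq : ∀ n : J₀.subgroupOf J, n ∈ Q ↔ ((n : J) : G) ∈ D := fun n => ⟨fun k => k.1, fun k => ⟨k, n.2⟩⟩
  have h6 : Q ⊔ centralizer (Q : Set (J₀.subgroupOf J)) = ⊤ := top_le_iff.1 fun g _ =>
    mem_sup_right (mem_centralizer_iff.2 fun a ha => Subtype.ext (Subtype.ext (hz _ ((hq a).1 ha) a.2 _ g.2)))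
  have h7 : IsPGroup 2 Q := H592.Defect.isPGroup_of_isDefectGroup h5
  obtain ⟨ξ, ⟨h8, h9⟩, h10⟩ := (S0968.result 2 M hM Q h7 h6 _ h1 h5).1
  obtain ⟨η, hη⟩ : ∃ η : G → ℂ, ∀ n : J₀.subgroupOf J, η (n : J) = (ξ : J₀.subgroupOf J → ℂ) n :=
    ⟨extendByZero J (extendByZero (J₀.subgroupOf J) ξ), fun n =>
      (extendByZero_of_mem J _ n.1.2).trans (extendByZero_of_mem (J₀.subgroupOf J) _ n.2)⟩
  obtain ⟨χ, h11, h12⟩ := id h8
  refine ⟨η, ?_, fun a ha hb => ?_, fun g hg x k1 k2 => ?_, fun t ht k1 k2 g hg => ?_, fun s hs k1 k2 => ?_⟩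
  · have k1 : (fun g : J₀ => η g) = tr (subgroupOfEquivOfLe h0).symm ξ :=
      funext fun g => hη ((subgroupOfEquivOfLe h0).symm g)
    rw [k1]
    exact Subtype.property _
  · exact (hη ⟨⟨a, h0 hb⟩, hb⟩).trans ((h9 _ ((hq _).2 ha)).trans (hη 1).symm)
  · obtain ⟨ζ, -, k3⟩ := ((S4714.result 2 M hM Q h7 h6 _ h1 h5 ξ h8 h9).1 ξ).1 h8
    refine (hη ⟨⟨g, h0 hg⟩, hg⟩).trans (k3 _ fun y hy k4 => k2 ?_)
    obtain ⟨y', k5, k6, ⟨k, k7⟩, k8⟩ := hy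
    have k9 : IsPPart 2 g ((y : J) : G) := ⟨((y' : J) : G), congrArg (fun z : J₀.subgroupOf J => ((z : J) : G)) k5,
      congrArg (fun z : J₀.subgroupOf J => ((z : J) : G)) k6.eq,
      ⟨k, by rw [orderOf_coe, orderOf_coe, k7]⟩, by rwa [orderOf_coe, orderOf_coe]⟩
    rw [Blocks.PPart.isPPart_unique k1 k9]
    exact (hq y).1 k4
  · letI := Fintype.ofFinite G
    let α : J ≃* J := cjOn J (mem_normalizer_fintype k1)
    let γ : J₀.subgroupOf J ≃* J₀.subgroupOf J := (subgroupOfEquivOfLe h0).trans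
      ((cjOn J₀ (mem_normalizer_fintype k2)).trans (subgroupOfEquivOfLe h0).symm)
    have k3 : α ∈ LA (D.subgroupOf J) fun x : J => θ x := ⟨fun x => ht.1 x, fun x => ht.2 x⟩
    obtain ⟨χ', k4, k5⟩ := (hc.le_Stab k3 χ).2 ⟨χ, h11, rfl⟩
    have k6 : tr γ ξ = ξ := h10 _ ⟨⟨χ', k4, Ov.congr (fun a => congrFun k5 _)
      ((ov_src_iff γ (ι' := (J₀.subgroupOf J).subtype.comp γ.toMonoidHom) (fun _ => rfl) _ ξ).2 h12)⟩, fun x hx => by
        rw [tr_apply, tr_apply, map_one]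
        exact h9 _ ((hq _).2 ((ht.1 _).2 ((hq x).1 hx)))⟩
    rw [show η g = _ from hη ⟨⟨g, h0 hg⟩, hg⟩, ← k6]
    exact hη (γ ⟨⟨g, h0 hg⟩, hg⟩)
  · have k3 : (⟨s, h0 hs⟩ : J) ∈ center J := mem_center_iff.2 fun g => Subtype.ext (k1 g g.2).symm
    have k4 := hc.cent k3 (by rwa [IsPRegular, ← orderOf_coe]) ⟨χ, h11, rfl⟩ 1
    have k5 := ov_center h12 (z := ⟨⟨s, h0 hs⟩, hs⟩) k3
    rw [div_eq_div_iff (isIrr_apply_one_ne_zero χ.2) (isIrr_apply_one_ne_zero ξ.2), ← hη, ← hη] at k5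
    rw [mul_one] at k4
    refine mul_right_cancel₀ (isIrr_apply_one_ne_zero χ.2) ?_
    have k6 : θ s * (χ : J → ℂ) 1 = (χ : J → ℂ) ⟨s, h0 hs⟩ * θ 1 := k4
    have k7 : (χ : J → ℂ) ⟨s, h0 hs⟩ * η 1 = η s * (χ : J → ℂ) 1 := k5
    linear_combination -θ 1 * k7 - η 1 * k6

end BL

/-- **[BL]** -/
theorem boxBL : BoxBL := fun _ _ _ _ _ _ _ _ _ _ h h0 hC hi hD hz => BL.bl h h0 hC hi hD hz

end Cfsg.Agent.KM.E2
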