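import Cfsg.Agent.KM.E2.E7a
import Cfsg.Agent.KM.Glue
import Cfsg.Agent.TO.KExt
import Cfsg.Agent.Blocks.RegularCount

/-!
# KM, `l = 2`, type `E₇` : the blocks and the row (helper28)

* `L7.no_sq` : the special configuration does not occur; `L7.hz`; **`at_e7_of`**.
-/

set_option autoImplicit false
set_option linter.unusedSectionVars false

namespace Cfsg.Agent.KM.E2

open Cfsg Cfsg.Lie Cfsg.Agent.DL Cfsg.Agent.Nodes.Reps Cfsg.Agent.Nodes.BNOf Matrix Subgroup Cfsg.Agent.KM.Ht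
open Cfsg.Agent.KM.Tor Cfsg.Agent.BpExc.Zc Cfsg.Agent.KZ.DatX Cfsg.Agent.Nodes.RGDChev
open Cfsg.Agent.TO.X5 (ct ct_mem)
open Cfsg.Agent.KM.Ev (Pe Lp Lp_comm Lp_le_G)
open Cfsg.Agent.TO (Can Ce In Cu)

theorem ppart_map {A B : Type} [Group A] [Group B] (f : A →* B) {g x : A} (h : IsPPart 2 g x) : IsPPart 2 (f g) (f x) :=
  let ⟨y, e, c, ⟨_, hk⟩, hy⟩ := h
  ⟨f y, by rw [← map_mul, e], c.map f, ((Nat.dvd_prime_pow Nat.prime_two).1 (hk ▸ orderOf_map_dvd f x)).imp fun _ h => h.2,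
    fun h => hy (h.trans (orderOf_map_dvd f y))⟩

theorem mem_dn {Y K : Type} [Group Y] [Group K] {H Z A : Subgroup Y} {π : H →* K} (hk : ∀ h : H, π h = 1 ↔ (h : Y) ∈ Z)
    (hZ : Z ≤ A) (h : H) : π h ∈ (A.subgroupOf H).map π ↔ (h : Y) ∈ A :=
  ⟨fun ⟨g, hg, e⟩ => (mul_mem_cancel_left (inv_mem (show (g : Y) ∈ A from hg))).1
    (hZ ((hk (g⁻¹ * h)).1 (by rw [map_mul, map_inv, e, inv_mul_cancel]))), fun e => ⟨h, e, rfl⟩⟩

variable {p : ℕ} [Fact p.Prime] {k : Type} [Field k] [CharP k p] {Y : Type} [Group Y] {N : Type} [Fintype N]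
  [DecidableEq N] {ρ : Y →* GL N k} {F : MulAut Y} {G : Subgroup Y} [IsAlgClosed k] {X : Datum p ρ F G}
  {α β : X.I → ℤ} {e : ℕ} {w : X.W} {ε : ℤ} {n b x y s g : Y}

theorem St_cen (ha : X.Rt α) (hb : X.Rt β) (hs : s ∈ St X α β) : s ∈ X.T ∧ ∀ g ∈ Lp X {α, β}, g * s = s * g :=
  (closure_le (X.T ⊓ centralizer (Lp X {α, β} : Set Y))).2 (by
    rintro _ (⟨c, rfl⟩ | ⟨c, rfl⟩)
    exacts [⟨ct_mem _ _, fun g hg => (Lp_comm ha (.inl rfl) hg c).symm⟩,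
      ⟨ct_mem _ _, fun g hg => (Lp_comm hb (.inr rfl) hg c).symm⟩]) hs

variable (hp : p ≠ 2) (L : L7 X) {K : Type} [Group K] [Finite K] {π : GF F G →* K} (hπ : Function.Surjective π)
  (hk : ∀ h, π h = 1 ↔ (h : Y) ∈ ZG X) {M : Ideal AlgInt} {B : Set (IrrCharacter K)} {D : Subgroup K} {θ : K → ℂ}
include hp L hπ hk

/-- **the special configuration does not occur** -/
theorem L7.no_sq (hBL : BoxBL) (hS2 : BoxS2) (c : Can 2 M B D θ)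
    (S : Sq X (up π D) (up π (Ce D)) (up π (In D θ)) α β e w ε n b x y) : False := by
  classical
  have : Fact (Nat.Prime 2) := ⟨Nat.prime_two⟩
  have H := S.sp.lz
  have := H.fin
  have hT : X.T ≤ Lp X {α, β} := le_sup_left
  obtain ⟨x, rfl⟩ : ∃ x' : GF F G, (x' : Y) = x := ⟨⟨x, H.DH S.xD⟩, rfl⟩
  obtain ⟨y, rfl⟩ : ∃ y' : GF F G, (y' : Y) = y := ⟨⟨y, H.DH S.yD⟩, rfl⟩
  obtain ⟨n, rfl⟩ : ∃ n' : GF F G, (n' : Y) = n := ⟨⟨n, S.nG⟩, rfl⟩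
  obtain ⟨J₀, m0⟩ : ∃ J₀ : Subgroup K, ∀ h : GF F G, π h ∈ J₀ ↔ (h : Y) ∈ Jz X α β x :=
    ⟨_, mem_dn hk fun z hz => ⟨⟨H.DH (H.zD hz), hT hz.1⟩, mem_centralizer_singleton_iff.2 (ZG_comm hz x.2.1).symm⟩⟩
  obtain ⟨J₁, m1⟩ : ∃ J₁ : Subgroup K, ∀ h : GF F G, π h ∈ J₁ ↔ (h : Y) ∈ Lp X {α, β} := ⟨_, mem_dn hk fun z hz => hT hz.1⟩
  have mz : ∀ h : GF F G, (h : Y) ∈ Jz X α β x ↔ (h : Y) ∈ Lp X {α, β} ∧ Commute (h : Y) x := fun h =>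
    ⟨fun e => ⟨e.1.2, mem_centralizer_singleton_iff.1 e.2⟩, fun e => ⟨⟨h.2, e.1⟩, mem_centralizer_singleton_iff.2 e.2⟩⟩
  have m2 : ∀ h : GF F G, π h ∈ Cu (π x) ↔ (h : Y) * x * (h : Y)⁻¹ = x ∨ (h : Y) * x * (h : Y)⁻¹ = (x : Y)⁻¹ := fun h => by
    rw [mem_centralizer_singleton_iff, ← mul_inv_eq_iff_eq_mul, ← mul_inv_eq_one, ← map_inv, ← map_inv, ← map_mul,
      ← map_mul, ← map_mul, hk]
    refine ⟨fun e => (L.two hp S.xZ S.x1 e).imp mul_inv_eq_one.1 fun e => (mul_inv_eq_iff_eq_mul.1 e).trans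
      (eq_inv_of_mul_eq_one_left ((mul_assoc _ _ _).trans (L.sq S.xZ))), fun e => ?_⟩
    show (h : Y) * x * (h : Y)⁻¹ * (x : Y)⁻¹ ∈ ZG X
    rcases e with e | e <;> rw [e]
    exacts [(mul_inv_cancel (x : Y)).symm ▸ one_mem _, _root_.mul_inv_rev (x : Y) x ▸ inv_mem S.xZ]
  have x1 : (x : Y) ≠ (x : Y)⁻¹ := fun e => S.x1 (mul_eq_one_iff_eq_inv.2 e)
  have hy := S.sp.le S.yD
  obtain ⟨η, k1, k2, k3, k4, k5⟩ := hBL K M B D θ J₀ (J₁ ⊓ Cu (π x)) c.hb c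
    (fun g hg => by
      obtain ⟨h, rfl⟩ := hπ g
      have h1 := (mz h).1 ((m0 h).1 hg)
      exact ⟨(m1 h).2 h1.1, (m2 h).2 (.inl h1.2.mul_inv_cancel)⟩)
    (fun g hg => by
      obtain ⟨h, rfl⟩ := hπ g
      exact ⟨(m1 h).2 (S.cl (coe_mem_up.2 hg)), mem_centralizer_singleton_iff.2 (hg _ (coe_mem_up.1 S.xD)).symm⟩)
    (relIndex_eq_two_iff.2 ⟨π y, ⟨(m1 y).2 hy, (m2 y).2 (.inr S.yx)⟩, fun g hg => by
      obtain ⟨h, rfl⟩ := hπ g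
      have h1 := (m1 h).1 hg.1
      have h2 : ((h * y : GF F G) : Y) * x * ((h * y : GF F G) : Y)⁻¹ = (h * x * (h : Y)⁻¹)⁻¹ := by
        rw [coe_mul, conj_inv, ← S.yx]; group
      rw [← map_mul, m0, m0, mz, mz]
      rcases (m2 h).1 hg.2 with e | e
      · exact .inr ⟨⟨h1, mul_inv_eq_iff_eq_mul.1 e⟩, fun h3 => x1 (h3.2.mul_inv_cancel.symm.trans (h2.trans (congrArg _ e)))⟩
      · exact .inl ⟨⟨mul_mem h1 hy, mul_inv_eq_iff_eq_mul.1 (by rw [h2, e, inv_inv])⟩,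
          fun h3 => x1 (h3.2.mul_inv_cancel.symm.trans e)⟩⟩)
    (fun h => x1 (((mz y).1 ((m0 y).1 (h (coe_mem_up.1 S.yD)))).2.mul_inv_cancel.symm.trans S.yx))
    fun a ha h1 g hg => by
      obtain ⟨a, rfl⟩ := hπ a
      obtain ⟨g, rfl⟩ := hπ g
      obtain ⟨s, hs, i, e⟩ := S.cx a (coe_mem_up.2 ha) ((mz a).1 ((m0 a).1 h1)).2
      have h2 := (mz g).1 ((m0 g).1 hg)
      rw [← map_mul, ← map_mul]
      exact congrArg π (Subtype.ext (show Commute (a : Y) g from e ▸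
        Commute.mul_left ((St_cen S.sp.ra S.sp.rb hs).2 g h2.1).symm (h2.2.symm.pow_left i)))
  let χ : Y → ℂ := fun g => if h : g ∈ GF F G then η (π ⟨g, h⟩) else 0
  have hχ : ∀ h : GF F G, χ h = η (π h) := fun h => dif_pos h.2
  have h1 : χ 1 = η 1 := (hχ 1).trans (congrArg η (map_one π))
  have hJ : Jz X α β x ≤ GF F G := inf_le_left.trans inf_le_left
  have h2 : ∀ t ∈ up π (In D θ), (∀ g ∈ Lp X {α, β}, t * g * t⁻¹ ∈ Lp X {α, β}) → (t * x * t⁻¹ = x ∨ t * x * t⁻¹ = (x : Y)⁻¹) →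
      ∀ g ∈ Jz X α β x, χ (t * g * t⁻¹) = χ g := fun t ht h3 h4 g hg => by
    obtain ⟨t, rfl⟩ : ∃ t' : GF F G, (t' : Y) = t := ⟨⟨t, H.le ht⟩, rfl⟩
    obtain ⟨g, rfl⟩ : ∃ g' : GF F G, (g' : Y) = g := ⟨⟨g, hJ hg⟩, rfl⟩
    have h5 : ∀ h, π t * π h * (π t)⁻¹ = π (t * h * t⁻¹) := fun h => by rw [map_mul, map_mul, map_inv]
    refine (hχ (t * g * t⁻¹)).trans (((h5 g) ▸ k4 _ (coe_mem_up.1 ht) (fun u hu => ?_) (fun u hu => ?_) _
      ((m0 g).2 hg)).trans (hχ g).symm)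
    · obtain ⟨u, rfl⟩ := hπ u
      exact ⟨h5 u ▸ (m1 _).2 (h3 _ ((m1 u).1 hu.1)), (Cu (π x)).mul_mem (mul_mem ((m2 t).2 h4) hu.2) (inv_mem ((m2 t).2 h4))⟩
    · obtain ⟨u, rfl⟩ := hπ u
      have h6 := (mz u).1 ((m0 u).1 hu)
      have h7 := h6.2.conj (t : Y)
      exact h5 u ▸ (m0 _).2 ((mz _).2 ⟨h3 _ h6.1, h4.elim (fun e => e ▸ h7) fun e => Commute.inv_right_iff.1 (e ▸ h7)⟩)
  have h3 := hS2 X hp L _ _ _ α β e w ε n b x y χ S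
    (by
      have := Characters.Core.isIrr_comp ((π.comp (inclusion hJ)).codRestrict J₀ fun g => (m0 _).2 g.2) (fun g => by
        obtain ⟨h, e⟩ := hπ g
        exact ⟨⟨h, (m0 h).1 (e ▸ g.2)⟩, Subtype.ext e⟩) k1
      exact (funext fun g => hχ (inclusion hJ g) : (fun g : Jz X α β x => χ g) = _) ▸ this)
    (fun a ha h => (hχ ⟨a, hJ h⟩).trans ((k2 _ (coe_mem_up.1 ha) ((m0 _).2 h)).trans h1.symm))
    (fun g t h ht => (hχ (inclusion hJ g)).trans (k3 _ ((m0 _).2 g.2) _ (ppart_map (π.comp (inclusion hJ)) h)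
      fun e => ht ((coe_mem_up (x := inclusion hJ t)).2 e)))
    (h2 b S.bΓ (fun g hg => by
      obtain ⟨s, hs, t, ht, rfl⟩ := (X.mem_TS fun _ h => h.1).1 hg
      rw [← mul_assoc, S.bS s hs, mul_assoc, mul_assoc, ← mul_assoc b]
      exact mul_mem (mem_sup_right hs) (hT (X.conj_mem_T ⟨_, S.br⟩ ht))) (.inl (mul_inv_eq_iff_eq_mul.2 S.bx)))
    (h2 y (H.CΓ (H.DC S.yD)) (fun g hg => mul_mem (mul_mem hy hg) (inv_mem hy)) (.inr S.yx))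
  have h4 : ∀ s : GF F G, (s : Y) ∈ St X α β → π s ∈ Ce D := fun s hs d hd => by
    obtain ⟨d, rfl⟩ := hπ d
    rw [← map_mul, ← map_mul]
    exact congrArg π (Subtype.ext ((St_cen S.sp.ra S.sp.rb hs).2 d (S.sp.le (coe_mem_up.2 hd))))
  have h5 : ∀ s : GF F G, (s : Y) ∈ St X α β → θ (π s) = θ 1 := fun s hs => by
    obtain ⟨u, v, rfl, -, hu, hv, ⟨j, hj⟩, h6⟩ := Blocks.RegularCount.exists_pPart (p := 2) s
    have h7 : ∀ a ∈ zpowers (u * v), (a : Y) ∈ St X α β := by rintro _ ⟨i, rfl⟩; exact zpow_mem hs i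
    have h8 := St_cen S.sp.ra S.sp.rb (h7 v hv)
    have h9 := k5 (π v) ((m0 v).2 ((mz v).2 ⟨hT h8.1, (h8.2 x (S.sp.le S.xD)).symm⟩)) (fun g hg => by
      obtain ⟨g, rfl⟩ := hπ g
      rw [← map_mul, ← map_mul]
      exact congrArg π (Subtype.ext (h8.2 g ((m1 g).1 hg.1)).symm)) fun h => h6 (h.trans (orderOf_map_dvd π v))
    rw [← hχ, h3 v (h7 v hv) v.2.2, h1, mul_comm] at h9
    rw [map_mul, c.mul_ker (h4 u (h7 u hu)) (c.triv _ (coe_mem_up.1 (S.tw u (h7 u hu) u.2.2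
      ⟨j, congrArg Subtype.val (hj ▸ pow_orderOf_eq_one u)⟩))) (h4 v (h7 v hv))]
    exact (mul_right_cancel₀ (Characters.Central.irr_one_ne_zero k1) h9).symm
  have h6 : ∀ d, π n * d * (π n)⁻¹ ∈ D ↔ d ∈ D := fun d => by
    obtain ⟨d, rfl⟩ := hπ d
    rw [← map_inv, ← map_mul, ← map_mul, ← coe_mem_up, ← coe_mem_up]
    exact S.nD d
  refine S.nΓ (coe_mem_up.2 ⟨h6, fun g => ?_⟩)
  by_cases hg : g ∈ Ce D
  · obtain ⟨h, rfl⟩ := hπ g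
    have h7 := S.nL h (S.cl (coe_mem_up.2 hg))
    rw [← c.mul_ker (h4 (n * h * n⁻¹ * h⁻¹) h7) (h5 _ h7) hg, ← map_mul, inv_mul_cancel_right, map_mul, map_mul, map_inv]
    rfl
  · rw [c.zero g hg]
    exact c.zero _ fun e => hg ((TO.LA_Ce (α := MulAut.conj (π n)) h6 g).1 e)

theorem L7.hz (hBL : BoxBL) (hA1 : BoxA1) (hS1 : BoxS1) (hS2 : BoxS2) (hq : X.QS) (I : Inn X e w) (hZ : ZG X ≤ GF F G)
    (hM : IsPModular 2 M) (hB : IsPBlock M B) (hD : IsDefectGroup 2 M B D) (hc : IsMulCommutative D) : BK.HZ 2 B := by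
  have : Fact (Nat.Prime 2) := ⟨Nat.prime_two⟩
  have := X.amb.finite_GF G
  obtain ⟨θ, c⟩ := TO.boxCAN0 K 2 M B D hM hB hD fun a ha b hb => BK.ab_iff.2 hc b hb a ha
  by_cases h16 : Nat.card D ≤ 16
  · exact Two.hz_small hM hB hD (BK.ab_iff.2 hc) h16
  refine (boxK Y K _ _ π M B D θ hπ hZ hk (fun z hz g hg => (ZG_comm hz hg.1).symm)
    (fun z => ⟨1, Subtype.ext ((pow_two _).trans (L.sq z.2))⟩) hB c).elim id fun H => ?_
  obtain ⟨y, hy, hN, A⟩ := hA1 X hp L.toLS _ _ _ _ H le_rfl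
  have L' := L.conj hy hN
  rw [← ZG_conj hy hN] at H hk
  obtain ⟨V, hV⟩ := L'.exV hp H A
  by_cases h4 : (ZG (X.conj hy hN)).relIndex V ≤ 4
  · obtain ⟨α, β, S⟩ := L'.sp hp H A hV (by
      obtain ⟨z, hz, z1, -⟩ := L'.exz hp
      have : Finite (up π D) := Finite.of_injective _ (inclusion_injective H.DH)
      have h1 := card_mul_index ((up π ⊥).subgroupOf (up π D))
      have h3 : (⟨z, H.zD hz⟩ : up π D) ∈ (up π ⊥).subgroupOf (up π D) := mem_up.2 ⟨H.DH (H.zD hz), (hk _).2 hz⟩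
      have h2 := (one_lt_card_iff_ne_bot ((up π ⊥).subgroupOf (up π D))).2 fun e => by
        rw [e, mem_bot] at h3
        exact z1 (congrArg Subtype.val h3)
      rw [show ((up π ⊥).subgroupOf (up π D)).index = _ from relIndex_up hπ ⊥ D, relIndex_bot_left] at h1
      nlinarith) h4
    obtain ⟨ε, n, b, x, y', S'⟩ := hS1 _ hp L' e _ (I.conj hy hN) _ _ _ α β S
    exact (L'.no_sq hp hπ hk hBL hS2 c S').elim
  obtain ⟨B', k1, k2, k3⟩ := Two.dom hM π hπ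
    (fun z hz => mem_center_iff.2 fun g => Subtype.ext (ZG_comm ((hk z).1 hz) g.2.1))
    (fun z => ⟨1, Subtype.ext (Subtype.ext ((pow_two _).trans (L'.sq ((hk _).1 z.2))))⟩) hB hD
  exact k3 (hz_of_toral hq Nat.prime_two hp.symm hM k1 k2
    (toral_conj hy hN (L'.toral hp H A hV (I.conj hy hN) hM k1 k2 rfl h4)))

omit hp L hπ hk in
/-- **the row `E₇` at the prime two** -/
theorem at_e7_of (hBL : BoxBL) (hA1 : BoxA1) (hS1 : BoxS1) (hS2 : BoxS2) (hL : BoxL7) : At CE7 2 :=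
  fun _ _ _ _ _ ⟨F, _, _, h1, ⟨i⟩⟩ => by
  have : Fact (Nat.Prime 2) := ⟨Nat.prime_two⟩
  obtain ⟨r, e, _, _, hr, he, hF⟩ := Nt.exists_char F h1
  have := Finite.of_equiv _ i.toEquiv
  refine Row.of_equiv i (Two.row_of_mult (S2106.result hF) (k := 1) (BD.card_cyc _ ▸ Nat.gcd_dvd_left _ _)
    fun M hM B D hB hD hc => ?_)
  obtain ⟨k, _, _, _, X, t, -, Y, _, N, _, _, ρ, F', X', θ, s, ⟨I⟩, h2, h3⟩ := Sc.sc_E7 hF
  obtain ⟨L, h4⟩ := hL r k e X Y N ρ F' X' θ I s.pi1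
  have h5 : ∀ z, z ∈ ZG X' ↔ z ∈ center Y := fun z =>
    ⟨fun h => mem_center_iff.2 fun g => ZG_comm h trivial, fun h => mem_ZG trivial fun g _ => mem_center_iff.1 h g⟩
  refine L.hz hr.symm s.surj (fun h => ?_) hBL hA1 hS1 hS2 s.qs (w := 1) ⟨he, by rw [h4, X'.Wm_one]⟩ (fun z hz => ⟨trivial, ?_⟩)
    hM hB hD hc
  · rw [h5, ← h2, MonoidHom.mem_ker, ← h3, map_eq_one_iff _ t.ov.inj]
  · by_cases e : z = 1
    · exact e ▸ map_one F'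
    refine (L.two hr.symm hz e ((h5 _).2 (mem_center_iff.2 fun g => ?_))).resolve_left fun e' =>
      e (F'.injective (e'.trans (map_one _).symm))
    obtain ⟨g, rfl⟩ := F'.surjective g
    exact (map_mul F' g z).symm.trans ((congrArg F' (ZG_comm hz trivial)).trans (map_mul F' z g))

end Cfsg.Agent.KM.E2
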