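import Cfsg.Agent.KM.E2.S1d

/-!
# KM, `l = 2`, `E₇` : box [S1] (helper34)
-/

set_option autoImplicit false
set_option linter.unusedSectionVars false
set_option maxHeartbeats 200000

namespace Cfsg.Agent.KM.E2

open Cfsg Cfsg.Lie Cfsg.Agent.DL Cfsg.Agent.Nodes.Reps Cfsg.Agent.Nodes.BNOf Matrix Subgroup Cfsg.Agent.KM.Ht
open Cfsg.Agent.KM.Tor Cfsg.Agent.BpExc.Zc Cfsg.Agent.TO.X5 Cfsg.Agent.Nodes.Coroot
open Cfsg.Agent.KM.Ev (Pe Lp ord_neg Lp_comm exists_Zp ct_sq χ_ct_iff)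

namespace S1

variable {p : ℕ} [Fact p.Prime] {k : Type} [Field k] [CharP k p] {Y : Type} [Group Y] {N : Type} [Fintype N]
  [DecidableEq N] {ρ : Y →* GL N k} {F : MulAut Y} {G : Subgroup Y} [IsAlgClosed k] {X : Datum p ρ F G}
  {α β : X.I → ℤ} {a b z g n m d v x y : Y} {D C Γ : Subgroup Y} {ι : kˣ}

theorem dvd_of (hι : orderOf ι = 4) {i j : ℤ} (e : ι ^ i = ι ^ j) : 4 ∣ i - j := by
  have := orderOf_dvd_iff_zpow_eq_one.2 (show ι ^ (i - j) = 1 by rw [_root_.zpow_sub, e, mul_inv_cancel])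
  rwa [hι] at this

theorem AB.sign (H : AB X α β) {w : X.W} (hg : ∀ a, X.Rt a → X.g a = X.act w a) (h1 : F (ct X α (-1)) = ct X α (-1))
    (h2 : F (ct X β (-1)) = ct X β (-1)) : ∃ ε : ℤ, (ε = 1 ∨ ε = -1) ∧ X.act w α = ε • α ∧ X.act w β = ε • β := by
  have key : ∀ a, X.Rt a → F (ct X a (-1)) = ct X a (-1) → X.act w a = a ∨ X.act w a = -a := fun a ha e => by
    rw [F_ct ha, hg a ha, (((Fact.out : p.Prime).odd_of_ne_two H.hp).pow).neg_one_pow] at e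
    exact eq_of_z H.hp H.l.toLS ha (ha.act w) (by rw [e, ct_sq]; exact one_mem _)
  have h3 : cpr X.cs X.h (X.act w α) (X.act w β) = -1 := (cpr_rep _ _ w α H.rb).trans H.c1
  rcases key α H.ra h1 with e | e <;> rcases key β H.rb h2 with e' | e'
  · exact ⟨1, .inl rfl, by rw [e, one_smul], by rw [e', one_smul]⟩
  · rw [e, e', cpr_neg_right _ _ _ H.rb, H.c1] at h3; omega
  · rw [e, e', cpr_neg _ _ _ H.rb, H.c1] at h3; omega
  · exact ⟨-1, .inr rfl, by rw [e, neg_one_smul], by rw [e', neg_one_smul]⟩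

variable (h : Sp X D C Γ α β) (H : AB X α β)
include h H

theorem C_L (hι : orderOf ι = 4) (h1 : ph X α β ι 1 ∈ Aq X α β) (h2 : ph X α β 1 ι ∈ Aq X α β) : C ≤ Lp X {α, β} := by
  intro c hc
  have key : ∀ a ∈ Aq X α β, c * a * c⁻¹ = a := fun a ha => mul_inv_eq_one.1 (H.eq_one
    (mul_mem (conj_A h H (h.lz.CΓ hc) ha).1 (inv_mem ha.1)) (((h.lz.mem c).1 hc).2 a (A_le h H ha)))
  obtain ⟨i, j, m, l, h3, h4, -, e⟩ := ac_Γ h H (h.lz.CΓ hc)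
  have h5 := H.ext ((e _ _).symm.trans (key _ h1))
  have h6 := H.ext ((e _ _).symm.trans (key _ h2))
  simp only [_root_.one_zpow, mul_one, one_mul] at h5 h6
  have a1 := dvd_of hι (h5.1.trans (zpow_one ι).symm)
  have a2 := dvd_of hι (h5.2.trans (zpow_zero ι).symm)
  have a3 := dvd_of hι (h6.1.trans (zpow_zero ι).symm)
  have a4 := dvd_of hι (h6.2.trans (zpow_one ι).symm)
  obtain ⟨rfl, rfl⟩ : i = 1 ∧ j = 0 := by unfold Hx at h3; omega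
  obtain ⟨rfl, rfl⟩ : m = 0 ∧ l = 1 := by unfold Hx at h4; omega
  exact H.mem_L (h.lz.le (h.lz.CΓ hc)).1 e.comm

theorem n_not (hA : Act (ZG X) D C Γ) (e : Ac X α β n (-1) 0 1 1) : n ∉ Γ := fun hn => by
  have h1 : Ac X α β (n * n) 1 0 0 1 := by simpa using e.mul e
  have h2 := hA.pow n hn _ h.tb (by
    rw [← ph_right (α := α), h1.comm, mul_inv_cancel_right, mul_inv_cancel]; exact one_mem _)
  rw [← ph_right (α := α), e, ← ph_inv, ← ph_mul] at h2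
  have h3 := (H.inj h2).1
  rw [_root_.one_zpow, one_mul, zpow_one, inv_one, mul_one] at h3
  have h4 := ord_neg (k := k) H.hp
  rw [h3, orderOf_one] at h4
  omega

theorem b_mem (hA : Act (ZG X) D C Γ) (hr : Ac X α β n 0 1 (-1) (-1)) (hn : n ∈ GF F G)
    (hu : Un n (St X α β) (Lp X {α, β})) (hι : orderOf ι = 4) (h1 : ph X α β ι 1 ∈ Aq X α β) : n ∈ Γ := by
  obtain ⟨b, hb, h2, v, hv, h3, h4⟩ := h.ex
  have key : ∀ m ∈ GF F G, (∀ v, n * v = v * n → m * v = v * m) →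
      (∀ s t, b * m * ph X α β s t = ph X α β s t * (b * m)) → m ∈ Γ := fun m hm h5 h6 => by
    have h7 := mul_mem (h.lz.le hb) hm
    have h8 := H.mem_L h7.1 h6
    refine (mul_mem_cancel_left hb).1 (h.lz.CΓ ((h.lz.mem _).2 ⟨h7, fun d hd => ?_⟩))
    obtain ⟨a, ha, u, hu', h9, rfl⟩ := dec h H hn hu hr hd
    have e1 : b * m * u * (b * m)⁻¹ = b * u * b⁻¹ := by rw [mul_assoc b, h5 u h9]; group
    have e2 := h.lz.iv b hb u hu'
    have e3 : n * (b * u * b⁻¹) = b * u * b⁻¹ * n := by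
      have e4 := H.sl (hu _ h8) (h.le e2)
      rw [← e1] at e4 ⊢
      generalize b * m = c at *
      calc _ = (n * c * n⁻¹ * c⁻¹) * (c * (n * u) * c⁻¹) * c * n⁻¹ * c⁻¹ * (n * c * n⁻¹ * c⁻¹)⁻¹ * n * c * n⁻¹ * c⁻¹ *
            (n * c * n⁻¹ * c⁻¹)⁻¹ * n := by group
        _ = (n * c * n⁻¹ * c⁻¹) * (c * u * c⁻¹) * (n * c * n⁻¹ * c⁻¹)⁻¹ * n := by rw [h9]; group
        _ = _ := by rw [e4]; group
    have e5 := inv_Z h H hr (mul_mem e2 (inv_mem hu')) (h2 u hu' (sq_Z h H hr hu' h9 hn))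
      (by rw [← mul_assoc, e3, mul_assoc, mul_assoc _ u⁻¹, (Commute.inv_right h9).eq]) hn
    rwa [← mul_assoc, ← H.sl ha.1 h8, show a * (b * m) * u * (b * m)⁻¹ * (a * u)⁻¹ = a * (b * m * u * (b * m)⁻¹ * u⁻¹) * a⁻¹ by group,
      e1, ← z_comm e5 (Aq_GF ha).1, mul_inv_cancel_right]
  have cube : ¬ Ac X α β (b * b * b) (-1) 0 0 (-1) := fun e => by
    have e1 : Ac X α β (b * b * b * (b * b * b)) 1 0 0 1 := by simpa using e.mul e
    have e2 := hA.pow _ (mul_mem (mul_mem hb hb) hb) _ (A_le h H h1) (by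
      rw [e1.comm, mul_inv_cancel_right, mul_inv_cancel]; exact one_mem _)
    rw [e, ← ph_inv, ← ph_mul] at e2
    have e3 := (H.inj e2).1
    rw [zpow_zero, mul_one, mul_inv_eq_one] at e3
    have := dvd_of hι (e3.trans (zpow_one ι).symm)
    omega
  obtain ⟨i, j, m, l, a1, a2, a3, e⟩ := ac_Γ h H hb
  rcases hx_cases a1 a2 a3 with ⟨a4, a5, a6, a7, -⟩ | ⟨rfl, rfl, rfl, rfl⟩ | ⟨rfl, rfl, rfl, rfl⟩ | ⟨rfl, rfl, rfl, rfl⟩ |
    ⟨rfl, rfl, rfl, rfl⟩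
  · have e1 := e.mul e
    rw [a4, a5, a6, a7] at e1
    obtain ⟨a, ha, e2⟩ := inv_A h hv h3
    obtain ⟨s, t, rfl⟩ := exists_ph ha.1
    have e3 := z_comm e2 (h.lz.le (mul_mem hb hb)).1
    rw [mul_assoc, ← e1.comm, ← mul_assoc, ← mul_assoc (b * b), mul_left_inj] at e3
    exact (h4 (hA.pow b hb v hv (by rw [← e3, mul_inv_cancel_right, mul_inv_cancel]; exact one_mem _))).elim
  · refine (Γ.inv_mem_iff).1 (key _ (inv_mem hn) (fun v e => (Commute.inv_left e).eq) fun s t => ?_)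
    have e1 := hr (s * t⁻¹)⁻¹ s⁻¹
    have e2 := e (s * t⁻¹)⁻¹ s⁻¹
    have e3 : ph X α β ((s * t⁻¹)⁻¹ ^ (0 : ℤ) * s⁻¹ ^ (-1 : ℤ)) ((s * t⁻¹)⁻¹ ^ (1 : ℤ) * s⁻¹ ^ (-1 : ℤ)) = ph X α β s t := by
      congr 1 <;> simp [mul_comm]
    rw [e3] at e1 e2
    calc _ = b * n⁻¹ * (n * ph X α β (s * t⁻¹)⁻¹ s⁻¹ * n⁻¹) := by rw [e1]
      _ = b * ph X α β (s * t⁻¹)⁻¹ s⁻¹ * b⁻¹ * (b * n⁻¹) := by group
      _ = _ := by rw [e2]
  · exact key n hn (fun _ e => e) (show Ac X α β (b * n) 1 0 0 1 by simpa using e.mul hr).comm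
  · exact (cube (by simpa using (e.mul e).mul e)).elim
  · exact (cube (by simpa using (e.mul e).mul e)).elim

end S1

open S1 in
/-- **[S1]** -/
theorem boxS1_of (hG : BoxG) (hFR : BoxFR) : BoxS1 := by
  intro p _ k _ _ Y _ N _ _ ρ F G _ X hp h7 e w hw D C Γ α β h
  have H : AB X α β := ⟨hp, h7, h.ra, h.rb, h.ab⟩
  have hA := hG Y _ _ _ _ _ h.lz
  obtain ⟨h1, h2⟩ := hFR X e w h7.toLS hw
  obtain ⟨ε, hε, wa, wb⟩ := H.sign h1 (D_GF h h.ta).2 (D_GF h h.tb).2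
  obtain ⟨f1, n, hn, n1, n2⟩ := (h2 ε hε).2 α h.ra wa
  obtain ⟨f2, m, hm, m1, m2⟩ := (h2 ε hε).2 β h.rb wb
  have hF : ∀ s t, F (ph X α β s t) = ph X α β (s ^ (ε * (p : ℤ) ^ e)) (t ^ (ε * (p : ℤ) ^ e)) := fun s t => by
    rw [ph, map_mul, f1, f2, ph]
  have u1 : Un n (St X α β) (Lp X {α, β}) := fun _ => H.un (.inl rfl) n1 n2
  have u2 : Un (n * m) (St X α β) (Lp X {α, β}) :=
    un_mul (fun _ hg => (le_sup_left : X.T ≤ Lp X _) (St_T hg)) u1 fun _ => H.un (.inr rfl) m1 m2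
  have hr : Ac X α β (n * m) 0 1 (-1) (-1) := by simpa using (H.ac1 n2).mul (H.ac2 m2)
  have hb := mul_mem hn hm
  have q := q4 h H hr hb u2 hF
  obtain ⟨ι, hι⟩ := exists_prim p k (n := 4) fun h4 => hp ((Nat.prime_dvd_prime_iff_eq Fact.out Nat.prime_two).1
    ((Fact.out : p.Prime).dvd_of_dvd_pow (n := 2) h4))
  have i1 : ι ^ (ε * (p : ℤ) ^ e) = ι := by
    rw [← sub_add_cancel (ε * (p : ℤ) ^ e) 1, _root_.zpow_add, orderOf_dvd_iff_zpow_eq_one.1 (hι ▸ q), one_mul, zpow_one]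
  have i2 : ι ^ 2 ^ 2 = 1 := orderOf_dvd_iff_pow_eq_one.1 (hι ▸ dvd_rfl)
  have a1 : ph X α β ι 1 ∈ Aq X α β := ⟨ph_St _ _, by rw [hF, i1, _root_.one_zpow], 2, by rw [← ph_pow, i2, one_pow, ph_one]⟩
  have a2 : ph X α β 1 ι ∈ Aq X α β := ⟨ph_St _ _, by rw [hF, i1, _root_.one_zpow], 2, by rw [← ph_pow, i2, one_pow, ph_one]⟩
  obtain ⟨x, hx, y, hy, x1, x2, y1, xy, bx⟩ := exists_xy h H hr hb u2
  exact ⟨ε, n, n * m, x, y, h, hw, hε, wa, wb, q, C_L h H hι a1 a2, fun s h1 h2 h3 => A_le h H ⟨h1, h2, h3⟩, hn,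
    nD h H hn u1, n_not h H hA (H.ac1 n2), u1, b_mem h H hA hr hb u2 hι a1, n2.mul m2,
    fun s hs => by rw [mul_assoc, H.cS (.inr rfl) m1 hs, ← mul_assoc, H.cS (.inl rfl) n1 hs, mul_assoc],
    hx, hy, x1, x2, y1, conj_x h H hx x1 x2 hy xy, bx, fun d hd e =>
      let ⟨a, ha, i, e'⟩ := cen_x h H hr hb u2 hx x1 x2 hy y1 xy bx hd e
      ⟨a, ha.1, i, e'⟩⟩

end Cfsg.Agent.KM.E2
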