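import Cfsg.Agent.KM.E2.S2a
import Cfsg.Agent.KM.Si.L

/-!
# KM, `l = 2`, type `E₇` : `boxS2_of` (helper5)
-/

set_option autoImplicit false
set_option linter.unusedSectionVars false

namespace Cfsg.Agent.KM.E2

namespace S2

open Cfsg Cfsg.Lie Cfsg.Agent.DL Cfsg.Agent.Nodes.Reps Cfsg.Agent.Nodes.BNOf Matrix Subgroup Cfsg.Agent.KM.Ht
open Cfsg.Agent.KM.Tor Cfsg.Agent.BpExc.Zc Cfsg.Agent.Nodes.Coroot
open Cfsg.Agent.TO.X5 (ct Lg ct_mem conj_ct ct_mul χ_ct ct_neg)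
open Cfsg.Agent.KM.Ev (Pe Lp Lp_comm Lp_le_G)
open Cfsg.Agent.TO.X.Cn (exists_exp χ_exp stab_vec)
open Cfsg.Agent.KM.Tor.E6 (τ_eq_iff fix_iff)

variable {p : ℕ} [Fact p.Prime] {k : Type} [Field k] [CharP k p] {Y : Type} [Group Y] {N : Type} [Fintype N]
  [DecidableEq N] {ρ : Y →* GL N k} {F : MulAut Y} {G : Subgroup Y} [IsAlgClosed k] {X : Datum p ρ F G}
  {a a' α β a₁ b₁ a₂ b₂ : X.I → ℤ} {s t g m b x y : Y} {c d ι ω : kˣ} {e : ℕ} {v w : X.W} {ε : ℤ} {u : X.R → ℤ}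

/-! ### type `A₂` -/

theorem A2_co (L : LS X) (ha : X.Rt α) (hb : X.Rt β) (ab : pr X α β = -1) (h : a ∈ A2 X α β) : ∃ i j : ℤ,
    X.wt a = i • X.wt α + j • X.wt β ∧ X.cor a = i • X.cor α + j • X.cor β ∧ ((i = 1 ∧ j = 0) ∨ (i = 0 ∧ j = 1) ∨
      (i = 1 ∧ j = 1) ∨ (i = -1 ∧ j = 0) ∨ (i = 0 ∧ j = -1) ∨ (i = -1 ∧ j = -1)) := by
  have h1 := TO.X5.cor_add ha hb (pr_eq hb α ▸ ab) (pr_eq ha β ▸ L.symm ha hb ▸ ab)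
  have h2 : X.Rt (α + β) := by
    have : X.Rt (X.act (X.rf β) α) := ha.act (X.rf β)
    rwa [show X.act (X.rf β) α = α + β from (TW.act_rf hb α).trans (by rw [show TW.pr X α β = -1 from ab]; module)] at this
  rcases h with rfl | rfl | rfl | rfl | rfl | rfl
  · exact ⟨1, 0, by module, by module, by omega⟩
  · exact ⟨0, 1, by module, by module, by omega⟩
  · exact ⟨1, 1, by rw [map_add]; module, by rw [h1]; module, by omega⟩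
  · exact ⟨-1, 0, by rw [map_neg]; module, by rw [X.cor_neg ha]; module, by omega⟩
  · exact ⟨0, -1, by rw [map_neg]; module, by rw [X.cor_neg hb]; module, by omega⟩
  · exact ⟨-1, -1, by rw [map_neg, map_add]; module, by rw [X.cor_neg h2, h1]; module, by omega⟩

theorem A2_pr (L : LS X) (ha : X.Rt α) (hb : X.Rt β) (ab : pr X α β = -1) (h : a ∈ A2 X α β) :
    3 ∣ pr X a α - pr X a β ∧ ∀ a' ∈ A2 X α β, pr X a a' ≠ 0 := by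
  have h1 := pr_self ha
  have h2 := pr_self hb
  have h3 := (L.symm hb ha).trans ab
  obtain ⟨i, j, e, -, h4⟩ := A2_co L ha hb ab h
  unfold pr at *
  refine ⟨?_, fun a' h' => ?_⟩
  · simp only [e, add_dotProduct, smul_dotProduct, h1, h2, h3, ab, smul_eq_mul]
    omega
  · obtain ⟨i', j', -, e', h5⟩ := A2_co L ha hb ab h'
    simp only [e, e', add_dotProduct, smul_dotProduct, dotProduct_add, dotProduct_smul, h1, h2, h3, ab, smul_eq_mul]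
    rcases h5 with ⟨rfl, rfl⟩ | ⟨rfl, rfl⟩ | ⟨rfl, rfl⟩ | ⟨rfl, rfl⟩ | ⟨rfl, rfl⟩ | ⟨rfl, rfl⟩ <;> omega

theorem A3_rt (A : A3c X α β u v a₁ b₁ a₂ b₂) (h : a ∈ A2 X a₁ b₁ ∪ A2 X a₂ b₂) : X.Rt a := (A.eq.ge h).1.1

/-- the two components are interchanged with the right sign -/
theorem swap (L : LS X) (A : A3c X α β u v a₁ b₁ a₂ b₂) (ha : X.Rt α) (hb : X.Rt β) (h1 : X.act v α = α) (h2 : X.act v β = β)
    (h3 : ∀ a ∈ Rn X 4 u ∩ Pe X {α, β}, X.act v a ∈ Rn X 4 u ∩ Pe X {α, β}) :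
    ∃ κ, X.Wm v *ᵥ (X.cor a₁ - X.cor b₁) = X.cor a₂ - X.cor b₂ + (3 : ℤ) • κ := by
  have r1 := A3_rt A (.inl (.inl rfl))
  have r2 := A3_rt A (.inl (.inr (.inl rfl)))
  have r3 := A3_rt A (.inr (.inl rfl))
  have r4 := A3_rt A (.inr (.inr (.inl rfl)))
  have h4 : ∀ a ∈ A2 X a₂ b₂, X.act v a ∈ A2 X a₁ b₁ := fun a h => (A.eq.le (h3 a (A.eq.ge (.inr h)))).resolve_right fun h' =>
    (A2_pr L r3 r4 A.p2 (A.sw a₁ (.inl rfl))).2 _ h' ((TW.pr_act v a₁ (A3_rt A (.inr h))).trans (A.orth _ (.inl rfl) a h))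
  obtain ⟨i₁, j₁, -, e₁, -⟩ := A2_co L r3 r4 A.p2 (A.sw a₁ (.inl rfl))
  obtain ⟨i₂, j₂, -, e₂, -⟩ := A2_co L r3 r4 A.p2 (A.sw b₁ (.inr (.inl rfl)))
  obtain ⟨i₃, j₃, -, e₃, -⟩ := A2_co L r1 r2 A.p1 (h4 a₂ (.inl rfl))
  obtain ⟨i₄, j₄, -, e₄, -⟩ := A2_co L r1 r2 A.p1 (h4 b₂ (.inr (.inl rfl)))
  choose κ hκ using A.glue
  have h5 : X.cor α - X.cor β + (X.cor a₁ - X.cor b₁) + (X.cor a₂ - X.cor b₂) = (3 : ℤ) • κ := funext hκ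
  have h6 := congrArg (X.Wm v *ᵥ ·) h5
  simp only [mulVec_add, mulVec_sub, mulVec_smul, ← X.cor_act v ha, ← X.cor_act v hb, ← X.cor_act v r1, ← X.cor_act v r2,
    ← X.cor_act v r3, ← X.cor_act v r4, h1, h2, e₁, e₂, e₃, e₄] at h6
  obtain ⟨n, hn⟩ := A.du
  have h7 : ∀ i, n i ⬝ᵥ X.cor a₁ = (if i = 0 then 1 else 0) ∧ n i ⬝ᵥ X.cor b₁ = (if i = 1 then 1 else 0) ∧
      n i ⬝ᵥ X.cor a₂ = (if i = 2 then 1 else 0) ∧ n i ⬝ᵥ X.cor b₂ = if i = 3 then 1 else 0 :=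
    fun i => ⟨hn i 0, hn i 1, hn i 2, hn i 3⟩
  have h8 := fun i => congrArg (n i ⬝ᵥ ·) h5
  have h9 := fun i => congrArg (n i ⬝ᵥ ·) h6
  simp only [dotProduct_add, dotProduct_sub, dotProduct_smul, h7, smul_eq_mul] at h8 h9
  have k1 := h8 2
  have k2 := h8 3
  have k3 := h9 2
  have k4 := h9 3
  simp at k1 k2 k3 k4
  obtain ⟨i, hi⟩ : 3 ∣ i₁ - i₂ - 1 := by omega
  obtain ⟨j, hj⟩ : 3 ∣ j₁ - j₂ + 1 := by omega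
  refine ⟨i • X.cor a₂ + j • X.cor b₂, ?_⟩
  rw [mulVec_sub, ← X.cor_act v r1, ← X.cor_act v r2, e₁, e₂]
  linear_combination (norm := module) hi • X.cor a₂ + hj • X.cor b₂

theorem zc_eq (a a' : X.I → ℤ) (ω : kˣ) : ct X a ω * ct X a' ω⁻¹ = X.τ (coch (X.cor a - X.cor a') ω) := by
  rw [sub_eq_add_neg, coch_add, coch_neg, map_mul, ct, ct, map_inv]

theorem τ_three (h : ω ^ 3 = 1) (u κ : X.R → ℤ) : X.τ (coch (u + (3 : ℤ) • κ) ω) = X.τ (coch u ω) := by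
  rw [coch_add, coch_zsmul, zpow_ofNat, h, map_one, mul_one]

theorem χ_three (h : ω ^ 3 = 1) (ha : 3 ∣ X.wt a ⬝ᵥ u) : X.χ a (X.τ (coch u ω)) = 1 :=
  (χ_exp X a u ω).2 ((Int.natCast_dvd_natCast.2 (orderOf_dvd_of_pow_eq_one h)).trans ha)

theorem io_A2 {Z : Set Y} (hZ : Z ⊆ X.T) (hF : ∀ a ∈ X.Sz Z, X.g a ∈ X.Sz Z) {a b c : (X.sub hZ hF rfl).I → ℤ} :
    c ∈ A2 (X.sub hZ hF rfl) a b ↔ X.io Z c ∈ A2 X (X.io Z a) (X.io Z b) := by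
  simp only [A2, Set.mem_insert_iff, Set.mem_singleton_iff, ← map_add, ← map_neg, (X.io_injective Z).eq_iff]

namespace Cx

variable (h : Cx X α β e w ε b x y)
include h

theorem rA (c : kˣ) : b * ct X α c * b⁻¹ = ct X β c := by
  have h1 := kap h.ra h.rb h.ab h.br (ct_mem α c) (χ_ct' h.ra α c) (χ_ct' h.ra β c)
  rw [pr_self h.ra, h.ba, mul_inv_eq_iff_eq_mul, show c ^ (2 : ℤ) * c ^ (-1 : ℤ) = c by group, _root_.zpow_neg_one, inv_inv] at h1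
  rw [h1, X.T_comm (ct_mem _ _) (ct_mem β c), ct_inv, inv_mul_cancel_right]

theorem rB (c : kˣ) : b * ct X β c * b⁻¹ = ct X α c⁻¹ * ct X β c⁻¹ := by
  have h1 := kap h.ra h.rb h.ab h.br (ct_mem β c) (χ_ct' h.rb α c) (χ_ct' h.rb β c)
  rw [pr_self h.rb, h.ab, mul_inv_eq_iff_eq_mul, show c ^ (-1 : ℤ) * c ^ (2 : ℤ) = c by group] at h1
  rw [h1, mul_assoc, ← ct_mul, show (c ^ (2 : ℤ))⁻¹ * c = c⁻¹ by group]

theorem exp (hx : x ∈ X.T) : ∃ ι u, orderOf ι = 4 ∧ x = X.τ (coch u ι) ∧ Ev X u ∧ (¬ ∀ r, 2 ∣ u r) ∧ 4 ∣ X.wt α ⬝ᵥ u ∧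
    4 ∣ X.wt β ⬝ᵥ u := by
  have h1 := fun a => X.χ_act_of_comm (Set.singleton_subset_iff.2 hx) h.br (mem_centralizer_singleton_iff.2 h.bx) a rfl
  obtain ⟨a, k1, k2, k3⟩ := h.l7.du α β h.ra h.rb h.ab
  have h2 := h1 a
  rw [act_mul', TW.act_rf h.rb, show TW.pr X a β = 0 from (h.l7.symm k1 h.rb).trans k3, zero_smul, sub_zero, TW.act_rf h.ra,
    show TW.pr X a α = 1 from (h.l7.symm k1 h.ra).trans k2, one_smul, sub_eq_add_neg, X.χ_add, X.χ_neg,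
    mul_eq_left₀ (X.χ_ne_zero a x), inv_eq_one] at h2
  have h3 := h1 α
  rw [act_mul', TW.act_rf h.rb, show TW.pr X α β = -1 from h.ab, TW.a_sub, TW.a_smul, X.act_rf_self h.ra, TW.act_rf h.ra,
    show TW.pr X β α = -1 from h.ba, show -α - (-1 : ℤ) • (β - (-1 : ℤ) • α) = β by module, h2] at h3
  obtain ⟨ι, u, -, h4, rfl⟩ := exists_exp X hx
  obtain ⟨j, hj, h5⟩ := (Nat.dvd_prime_pow Nat.prime_two).1 (h4.trans (orderOf_dvd_of_pow_eq_one h.x4))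
  have h6 : orderOf ι = 4 := by
    by_contra h6
    refine h.x1 ?_
    rw [← map_mul, ← map_mul, ← sq, orderOf_dvd_iff_pow_eq_one.1 (show orderOf ι ∣ 2 by
      interval_cases j <;> simp_all), map_one, map_one]
  have h7 : X.τ (coch u ι) * X.τ (coch u ι) = tv X u := by rw [← map_mul, ← map_mul, ← sq, sq_four h6, tv]
  rw [χ_exp, h6] at h2 h3
  exact ⟨ι, u, h6, rfl, (tv_mem_ZG h.hp).1 (h7 ▸ h.xZ), fun e => h.x1 (h7.trans (tv_of_dvd e)), h2, h3⟩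

variable (hι : orderOf ι = 4) (hx : x = X.τ (coch u ι))
include hι hx

omit h hι in
theorem Z3_T : insert x (Z2 X α β ι) ⊆ X.T := Set.insert_subset (hx ▸ X.τ_mem _) Z2_T

omit hx in
theorem sz3' : X.Sz (insert x (Z2 X α β ι)) = Pe X {α, β} ∩ X.Sz {x} := by
  rw [← h.sz2 hι]
  exact Set.ext fun a => ⟨fun ha => ⟨Sz_anti (Set.subset_insert _ _) ha, Sz_anti (Set.singleton_subset_iff.2 (.inl rfl)) ha⟩,
    fun ha => ⟨ha.1.1, Set.forall_mem_insert.2 ⟨ha.2.2 x rfl, ha.1.2⟩⟩⟩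

theorem sz3 : X.Sz (insert x (Z2 X α β ι)) = Rn X 4 u ∩ Pe X {α, β} := by
  rw [h.sz3' hι, Set.inter_comm]
  congr 1
  refine Set.ext fun a => and_congr_right fun _ => (forall_eq (a' := x)).trans ?_
  rw [hx, χ_exp, hι]
  rfl

theorem J_eq (hTA : BoxTA) : Jz X α β x = GF F (X.cen (insert x (Z2 X α β ι))) := by
  obtain ⟨h1, h2⟩ := hTA X h.hp h.l7.toLS
  refine Subgroup.ext fun g => ⟨fun hg => ⟨?_, hg.1.1.2⟩, fun hg => ⟨⟨⟨X.cen_le_G _ hg.1, hg.2⟩,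
    h.cen2 hι ▸ X.cen_anti (Set.subset_insert _ _) hg.1⟩,
    mem_centralizer_singleton_iff.2 (X.cen_le_centralizer (Z3_T hx) hg.1 x (.inl rfl)).symm⟩⟩
  rw [Datum.cen, h.sz3' hι]
  exact (h2 _ (fun _ h => h.1) (h1 _ h.rt)).1 g hg.1.2 x (hx ▸ X.τ_mem _) (mem_centralizer_singleton_iff.1 hg.2).symm

theorem exists_w : ∃ v ∈ closure (X.rf '' X.Sz (insert x (Z2 X α β ι))), X.Mx = (ε * (p : ℤ) ^ e) • X.Wm v := by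
  obtain ⟨v, hv⟩ : ∃ v, X.Wm v = ε • X.Wm w := by
    obtain ⟨w₀, h0⟩ := h.l7.neg
    rcases h.sg with rfl | rfl
    exacts [⟨w, (one_smul _ _).symm⟩, ⟨w₀ * w, by rw [X.Wm_mul, h0, neg_one_mul, neg_one_smul]⟩]
  have h0 : ε * ε = 1 := by rcases h.sg with rfl | rfl <;> rfl
  have h1 : X.Mx = (ε * (p : ℤ) ^ e) • X.Wm v := by rw [hv, smul_smul, mul_right_comm, h0, one_mul, h.inn.2]
  have h2 : ∀ a ∈ ({α, β} : Set (X.I → ℤ)), X.Wm v *ᵥ X.cor a = X.cor a := fun a ha => by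
    rw [hv, smul_mulVec, ← X.cor_act w (h.rt a ha), h.wab a ha]
    rcases h.sg with rfl | rfl
    · rw [one_smul, one_smul]
    · rw [neg_one_smul, neg_one_smul, X.cor_neg (h.rt a ha), neg_neg]
  obtain ⟨ν, hν⟩ := fix_iff.1 (hx ▸ h.xF)
  obtain ⟨n, hn⟩ := h.q4
  rw [h1, eq_add_of_sub_eq hn, hι, smul_mulVec] at hν
  obtain ⟨γ, hγ⟩ := h.l7.q (ν - n • X.Wm v *ᵥ u)
  refine ⟨v, stab_vec X (n := 4 * 25) (by decide) (v := (25 : ℤ) • u + (4 : ℤ) • (X.cor α + (5 : ℤ) • X.cor β)) (β := γ) ?_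
    fun a ha h3 => subset_closure ⟨a, ?_, rfl⟩, h1⟩
  · simp only [mulVec_add, mulVec_smul, h2 α (.inl rfl), h2 β (.inr rfl), ← hγ]
    push_cast at hν
    linear_combination (norm := module) (25 : ℤ) • hν
  have h4 : ∀ c, X.Rt c → -2 ≤ pr X a c ∧ pr X a c ≤ 2 := fun c hc => by
    by_cases e1 : a = c
    · rw [e1, pr_self hc]; omega
    by_cases e2 : a = -c
    · rw [e2, show pr X (-c) c = -pr X c c from TW.pr_neg c c, pr_self hc]; omega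
    · have := h.l7.bd ha hc e1 e2
      omega
  have h5 := h4 α h.ra
  have h6 := h4 β h.rb
  simp only [dotProduct_add, dotProduct_smul, smul_eq_mul] at h3
  unfold pr at h5 h6
  rw [h.sz3 hι hx]
  refine ⟨⟨ha, by omega⟩, (mem_Pe h.rt).2 ⟨ha, ?_⟩⟩
  rintro _ (rfl | rfl) <;> unfold pr <;> omega

theorem exists_m : ∃ v m, ∃ c ∈ X.cen (insert x (Z2 X α β ι)), X.Rp v m ∧ y = c * m ∧ X.act v α = α ∧ X.act v β = β ∧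
    (∀ r, 4 ∣ (X.Wm v *ᵥ u + u) r) ∧ ∀ a ∈ Rn X 4 u ∩ Pe X {α, β}, X.act v a ∈ Rn X 4 u ∩ Pe X {α, β} := by
  have h0 : x ∈ X.T := hx ▸ X.τ_mem _
  obtain ⟨c, hc, m, ⟨v, hm⟩, h1, h2⟩ := X.exists_conj_form (s := ![x, ct X α ι, ct X β ι]) (t := ![x⁻¹, ct X α ι, ct X β ι])
    (fun i => by fin_cases i; exacts [h0, ct_mem _ _, ct_mem _ _])
    (fun i => by fin_cases i; exacts [inv_mem h0, ct_mem _ _, ct_mem _ _]) (Lp_le_G h.yL) fun i => by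
      fin_cases i
      exacts [mul_inv_eq_iff_eq_mul.1 h.yx, (Lp_comm h.ra (.inl rfl) h.yL ι).symm, (Lp_comm h.rb (.inr rfl) h.yL ι).symm]
  have h3 : X.Sz (Set.range ![x⁻¹, ct X α ι, ct X β ι]) ⊆ X.Sz (insert x (Z2 X α β ι)) := fun a ha => ⟨ha.1, by
    rintro _ (rfl | ⟨_, rfl | rfl, rfl⟩)
    exacts [inv_eq_one.1 ((X.χ_inv a h0).symm.trans (ha.2 _ ⟨0, rfl⟩)), ha.2 _ ⟨1, rfl⟩, ha.2 _ ⟨2, rfl⟩]⟩
  have h4 : m * x * m⁻¹ = x⁻¹ := mul_inv_eq_iff_eq_mul.2 (h1 0)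
  have h5 := act_eq h.l7.toLS h.hp hι h.ra hm (h1 1)
  have h6 := act_eq h.l7.toLS h.hp hι h.rb hm (h1 2)
  refine ⟨v, m, c, X.S_le_cen _ (RGD.Sup_mono h3 hc), hm, h2, h5, h6, fun r => ?_, fun a ha => ?_⟩
  · rw [hx, X.conj_τ hm, mon_coch, ← map_inv, ← coch_neg, τ_eq_iff, hι] at h4
    obtain ⟨κ, e⟩ := h4
    exact ⟨κ r, by rw [e]; simp⟩
  · rw [← h.sz3 hι hx, h.sz3' hι] at ha ⊢
    refine ⟨(mem_Pe h.rt).2 ⟨ha.1.1.act v, fun c hc => ?_⟩, ha.1.1.act v, fun _ e => ?_⟩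
    · have h7 := ((mem_Pe h.rt).1 ha.1).2 c hc
      rcases hc with rfl | rfl
      exacts [h5 ▸ (TW.pr_act v a h.ra).trans h7, h6 ▸ (TW.pr_act v a h.rb).trans h7]
    · have h7 := X.χ_rp hm a h0
      rwa [h4, ha.2.2 x rfl, X.χ_inv _ h0, inv_eq_one, ← Set.mem_singleton_iff.1 e] at h7

end Cx

/-- the hypotheses on the character -/
structure Ch (J S : Subgroup Y) (b x y : Y) (χ : Y → ℂ) : Prop where
  irr : IsIrrCharacter J fun g => χ g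
  van : ∀ g t : J, IsPPart 2 g t → (¬ ∃ s ∈ S, ∃ i : ℕ, (t : Y) = s * x ^ i) → χ g = 0
  ib : ∀ g ∈ J, χ (b * g * b⁻¹) = χ g
  iy : ∀ g ∈ J, χ (y * g * y⁻¹) = χ g

variable {χ : Y → ℂ} {ζ : Y → ℂˣ} {Z : Set Y}

theorem Zc_J (hZ : Z ⊆ X.T) (ht : t ∈ Zc X (X.Sz Z)) (hF : F t = t) : t ∈ Zj (GF F (X.cen Z)) :=
  ⟨⟨X.T_le_cen _ ht.1, hF⟩, fun _ hg => One.Zc_comm hZ ht hg.1⟩

/-- the centres of the two components -/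
theorem zz (L : LS X) (A : A3c X α β u v a₁ b₁ a₂ b₂) (hZ : Z ⊆ X.T) (hS : X.Sz Z = Rn X 4 u ∩ Pe X {α, β})
    (E : Ze (GF F (X.cen Z)) χ ζ) (hy : ∀ g ∈ GF F (X.cen Z), χ (y * g * y⁻¹) = χ g) (hg : g ∈ X.cen Z) (hm : X.Rp v m)
    (e : y = g * m) {κ : X.R → ℤ} (hκ : X.Wm v *ᵥ (X.cor a₁ - X.cor b₁) = X.cor a₂ - X.cor b₂ + (3 : ℤ) • κ) (hω : ω ^ 3 = 1)
    (h1 : ct X α ω * ct X β ω⁻¹ ∈ Zj (GF F (X.cen Z))) (h2 : ζ (ct X α ω * ct X β ω⁻¹) = 1) (hs : F s = s)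
    (h3 : s = ct X a₁ ω * ct X b₁ ω⁻¹ ∨ s = ct X a₂ ω * ct X b₂ ω⁻¹) : χ s = χ 1 := by
  have r1 := A3_rt A (.inl (.inl rfl))
  have r2 := A3_rt A (.inl (.inr (.inl rfl)))
  have r3 := A3_rt A (.inr (.inl rfl))
  have r4 := A3_rt A (.inr (.inr (.inl rfl)))
  simp only [zc_eq] at h1 h2 h3
  have k1 : X.τ (coch (X.cor a₁ - X.cor b₁) ω) ∈ Zc X (X.Sz Z) := ⟨X.τ_mem _, fun a ha => χ_three hω (by
    rw [dotProduct_sub]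
    rcases A.eq.le (hS.le ha) with h | h
    · exact (A2_pr L r1 r2 A.p1 h).1
    · rw [L.sl a a₁ ha.1 r1, L.sl a b₁ ha.1 r2]
      exact dvd_sub ⟨0, A.orth _ (.inl rfl) a h⟩ ⟨0, A.orth _ (.inr (.inl rfl)) a h⟩)⟩
  have k2 : X.τ (coch (X.cor a₂ - X.cor b₂) ω) ∈ Zc X (X.Sz Z) := ⟨X.τ_mem _, fun a ha => χ_three hω (by
    rw [dotProduct_sub]
    rcases A.eq.le (hS.le ha) with h | h
    · exact dvd_sub ⟨0, A.orth a h _ (.inl rfl)⟩ ⟨0, A.orth a h _ (.inr (.inl rfl))⟩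
    · exact (A2_pr L r3 r4 A.p2 h).1)⟩
  have k3 : y * X.τ (coch (X.cor a₁ - X.cor b₁) ω) * y⁻¹ = X.τ (coch (X.cor a₂ - X.cor b₂) ω) := by
    rw [e, show ∀ z, g * m * z * (g * m)⁻¹ = g * (m * z * m⁻¹) * g⁻¹ from fun _ => by group, X.conj_τ hm, mon_coch, hκ, τ_three hω,
      One.Zc_comm hZ k2 hg, mul_inv_cancel_right]
  have k4 : X.τ (coch (X.cor a₁ - X.cor b₁) ω) ^ 3 = 1 := by rw [← map_pow, ← map_pow, hω, map_one, map_one]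
  choose κ' hκ' using A.glue
  have k5 := τ_three (X := X) hω 0 κ'
  rw [zero_add, ← show _ = (3 : ℤ) • κ' from funext hκ', coch_add, coch_add, map_mul, map_mul,
    show coch (0 : X.R → ℤ) ω = 1 from funext fun _ => zpow_zero _, map_one] at k5
  have k6 := h1.1.2
  generalize X.τ (coch (X.cor a₁ - X.cor b₁) ω) = z₁, X.τ (coch (X.cor a₂ - X.cor b₂) ω) = z₂,
    X.τ (coch (X.cor α - X.cor β) ω) = z₃ at *
  have k7 := (congrArg F k5).trans ((map_one F).trans k5.symm)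
  rw [map_mul, map_mul, mem_fix.1 k6] at k7
  have k8 : F z₁ = z₁ ∧ F z₂ = z₂ := by
    rcases h3 with rfl | rfl
    · exact ⟨hs, mul_left_cancel (hs ▸ k7 :)⟩
    · exact ⟨mul_left_cancel (mul_right_cancel (hs ▸ k7 :)), hs⟩
  have m1 := Zc_J hZ k1 k8.1
  have m2 := Zc_J hZ k2 k8.2
  have m3 := E.inj m2 m1 (k3 ▸ hy _ m1.1)
  have m4 := congrArg ζ k5
  rw [E.mul (mul_mem h1 m1) m2, E.mul h1 m1, h2, one_mul, m3, E.one] at m4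
  have m5 := E.cube m1
  rw [k4, E.one, pow_three, m4, mul_one] at m5
  rcases h3 with rfl | rfl
  · rw [E.val m1, ← m5, Units.val_one, one_mul]
  · rw [E.val m2, m3, ← m5, Units.val_one, one_mul]

theorem pr_sub (hZ : Z ⊆ X.T) (hF : ∀ a ∈ X.Sz Z, X.g a ∈ X.Sz Z) {b : (X.sub hZ hF rfl).I → ℤ} (hb : (X.sub hZ hF rfl).Rt b)
    (a : (X.sub hZ hF rfl).I → ℤ) : pr (X.sub hZ hF rfl) a b = pr X (X.io Z a) (X.io Z b) := by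
  unfold pr
  rw [Ev.sub_cor hZ hF hb]
  rfl

theorem ct_sub (hZ : Z ⊆ X.T) (hF : ∀ a ∈ X.Sz Z, X.g a ∈ X.Sz Z) {b : (X.sub hZ hF rfl).I → ℤ} (hb : (X.sub hZ hF rfl).Rt b) :
    ct (X.sub hZ hF rfl) b = ct X (X.io Z b) := by
  unfold ct
  rw [Ev.sub_cor hZ hF hb]

theorem bs0 (hBS : BoxBS) (hp : p ≠ 2) (L : Sl X) (p1 : pr X a₁ b₁ = -1) (p2 : pr X a₂ b₂ = -1)
    (hS : ∀ a, X.Rt a ↔ a ∈ A2 X a₁ b₁ ∪ A2 X a₂ b₂) (ho : ∀ c ∈ A2 X a₁ b₁, ∀ d ∈ A2 X a₂ b₂, pr X c d = 0)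
    (du : Du X ![a₁, b₁, a₂, b₂]) (he : 0 < e) (sg : ε = 1 ∨ ε = -1) (hM : X.Mx = (ε * (p : ℤ) ^ e) • X.Wm v)
    (q4 : 4 ∣ ε * (p : ℤ) ^ e - 1) (q3 : 3 ∣ ε * (p : ℤ) ^ e - 1) (h1 : IsIrrCharacter (GF F G) fun g => χ g)
    (h2 : ∀ g t : GF F G, IsPPart 2 g t → (t : Y) ∉ ZG X → χ g = 0) {ν : GF F G →* ℂˣ} (h3 : ν ≠ 1)
    (h4 : ν ^ 3 = 1) (h5 : ∀ g, ν g * χ g = χ g)
    (h6 : ∀ (ω : kˣ) s, ω ^ 3 = 1 → F s = s → s = ct X a₁ ω * ct X b₁ ω⁻¹ → χ s = χ 1)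
    (h7 : ∀ (ω : kˣ) s, ω ^ 3 = 1 → F s = s → s = ct X a₂ ω * ct X b₂ ω⁻¹ → χ s = χ 1) : False :=
  have := X.amb.finite_GF G
  hBS X hp ![a₁, a₂] ![b₁, b₂] e v ε (fun g => χ g) ν L (Fin.forall_fin_two.2 ⟨p1, p2⟩) hS ho du he sg hM q4 q3 h1 h2 h3 h4 h5
    (Fin.forall_fin_two.2 ⟨fun ω z h e => h6 ω z h z.2.2 e, fun ω z h e => h7 ω z h z.2.2 e⟩)

set_option maxHeartbeats 400000 in
/-- the Bessel argument in the centraliser -/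
theorem bs (hBS : BoxBS) (hp : p ≠ 2) (L : LS X) (hZ : Z ⊆ X.T) (hF : ∀ a ∈ X.Sz Z, X.g a ∈ X.Sz Z)
    (p1 : pr X a₁ b₁ = -1) (p2 : pr X a₂ b₂ = -1) (hS : X.Sz Z = A2 X a₁ b₁ ∪ A2 X a₂ b₂)
    (ho : ∀ c ∈ A2 X a₁ b₁, ∀ d ∈ A2 X a₂ b₂, pr X c d = 0) (du : Du X ![a₁, b₁, a₂, b₂]) (he : 0 < e) (sg : ε = 1 ∨ ε = -1)
    (hv : v ∈ closure (X.rf '' X.Sz Z)) (hM : X.Mx = (ε * (p : ℤ) ^ e) • X.Wm v) (q4 : 4 ∣ ε * (p : ℤ) ^ e - 1)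
    (q3 : 3 ∣ ε * (p : ℤ) ^ e - 1) (h1 : IsIrrCharacter (GF F (X.cen Z)) fun g => χ g)
    (h2 : ∀ g t : GF F (X.cen Z), IsPPart 2 g t → (t : Y) ∉ Zc X (X.Sz Z) → χ g = 0) {ν : GF F (X.cen Z) →* ℂˣ} (h3 : ν ≠ 1)
    (h4 : ν ^ 3 = 1) (h5 : ∀ g, ν g * χ g = χ g) (h6 : ∀ (ω : kˣ) s, ω ^ 3 = 1 → F s = s →
      s = ct X a₁ ω * ct X b₁ ω⁻¹ ∨ s = ct X a₂ ω * ct X b₂ ω⁻¹ → χ s = χ 1) : False := by
  obtain ⟨v₁, rfl⟩ := (X.range_subW (Z := Z)).ge hv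
  have hr : ∀ a ∈ A2 X a₁ b₁ ∪ A2 X a₂ b₂, ∃ c : (X.sub hZ hF rfl).I → ℤ, (X.sub hZ hF rfl).Rt c ∧ X.io Z c = a :=
    fun a ha => (X.io_roots Z).ge (hS.ge ha)
  obtain ⟨c₁, r1, rfl⟩ := hr _ (.inl (.inl rfl))
  obtain ⟨d₁, r2, rfl⟩ := hr _ (.inl (.inr (.inl rfl)))
  obtain ⟨c₂, r3, rfl⟩ := hr _ (.inr (.inl rfl))
  obtain ⟨d₂, r4, rfl⟩ := hr _ (.inr (.inr (.inl rfl)))
  have hR : ∀ a, (X.sub hZ hF rfl).Rt a ↔ a ∈ A2 (X.sub hZ hF rfl) c₁ d₁ ∪ A2 (X.sub hZ hF rfl) c₂ d₂ := fun a =>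
    (X.sub_rt hZ hF rfl).trans (by rw [hS, Set.mem_union, Set.mem_union, io_A2, io_A2])
  have k1 : Sl (X.sub hZ hF rfl) := fun a b ha hb => (pr_sub hZ hF hb a).trans
    ((L.symm ((X.sub_rt hZ hF rfl).1 ha).1 ((X.sub_rt hZ hF rfl).1 hb).1).trans (pr_sub hZ hF ha b).symm)
  have k2 : Du (X.sub hZ hF rfl) ![c₁, d₁, c₂, d₂] := du.imp fun n hn i j => by
    rw [← hn i j]
    fin_cases j
    exacts [congrArg _ (Ev.sub_cor hZ hF r1), congrArg _ (Ev.sub_cor hZ hF r2), congrArg _ (Ev.sub_cor hZ hF r3),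
      congrArg _ (Ev.sub_cor hZ hF r4)]
  have k3 : (X.sub hZ hF rfl).Mx = (ε * (p : ℤ) ^ e) • (X.sub hZ hF rfl).Wm v₁ :=
    hM.trans (congrArg _ (Si.Lb.sub_Wm X hZ hF v₁).symm)
  have k4 : ∀ t ∈ Zc X (X.Sz Z), t ∈ ZG (X.sub hZ hF rfl) := fun t ht =>
    ⟨ht.1, fun a ha => ht.2 _ ((X.sub_rt hZ hF rfl).1 ha)⟩
  have k6 := fun ω s h h' (e : s = ct (X.sub hZ hF rfl) c₁ ω * ct (X.sub hZ hF rfl) d₁ ω⁻¹) =>
    h6 ω s h h' (.inl (by rw [e, ct_sub hZ hF r1, ct_sub hZ hF r2]))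
  have k7 := fun ω s h h' (e : s = ct (X.sub hZ hF rfl) c₂ ω * ct (X.sub hZ hF rfl) d₂ ω⁻¹) =>
    h6 ω s h h' (.inr (by rw [e, ct_sub hZ hF r3, ct_sub hZ hF r4]))
  have k8 : ∀ a ∈ A2 (X.sub hZ hF rfl) c₁ d₁, ∀ b ∈ A2 (X.sub hZ hF rfl) c₂ d₂, pr (X.sub hZ hF rfl) a b = 0 := fun a ha b hb =>
    (pr_sub hZ hF ((hR b).2 (.inr hb)) a).trans (ho _ ((io_A2 hZ hF).1 ha) _ ((io_A2 hZ hF).1 hb))
  have k9 := (pr_sub hZ hF r2 c₁).trans p1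
  have k10 := (pr_sub hZ hF r4 c₂).trans p2
  exact bs0 hBS hp k1 k9 k10 hR k8 k2 he sg k3 q4 q3 h1 (fun g t ht hn => h2 g t ht fun e => hn (k4 _ e)) h3 h4 h5 k6 k7

theorem main (hBS : BoxBS) (hFR : BoxFR) (hTA : BoxTA) (h : Cx X α β e w ε b x y) (hx : x ∈ X.T)
    (H : Ch (Jz X α β x) (St X α β) b x y χ) : ∀ s ∈ St X α β, F s = s → χ s = χ 1 := by
  obtain ⟨ι, u, hι, hu, u1, u2, u3, u4⟩ := h.exp hx
  have hJ := h.J_eq hι hu hTA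
  have sJ := fun s => h.St_J (s := s)
  have kJ := fun g => h.kap_J (g := g)
  have tJ : ∀ t ∈ X.T, F t = t → t ∈ Jz X α β x := fun t ht hF =>
    ⟨⟨⟨X.T_le_G ht, hF⟩, le_sup_left (a := X.T) ht⟩, mem_centralizer_singleton_iff.2 (X.T_comm ht hx)⟩
  rw [hJ] at H sJ kJ tJ
  obtain ⟨ζ, E⟩ := exists_ze H.irr
  have mA : ∀ c : kˣ, c ^ (ε * (p : ℤ) ^ e - 1) = 1 → ct X α c ∈ Zj _ := fun c hc =>
    sJ _ (subset_closure (.inl ⟨c, rfl⟩)) (h.fix_ct hFR (.inl rfl) hc)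
  have mB : ∀ c : kˣ, c ^ (ε * (p : ℤ) ^ e - 1) = 1 → ct X β c ∈ Zj _ := fun c hc =>
    sJ _ (subset_closure (.inr ⟨c, rfl⟩)) (h.fix_ct hFR (.inr rfl) hc)
  have mi : ∀ c : kˣ, c ^ (ε * (p : ℤ) ^ e - 1) = 1 → c⁻¹ ^ (ε * (p : ℤ) ^ e - 1) = 1 := fun c hc => by
    rw [_root_.inv_zpow, hc, inv_one]
  have e1 : ∀ c : kˣ, c ^ (ε * (p : ℤ) ^ e - 1) = 1 → ζ (ct X β c) = ζ (ct X α c) := fun c hc =>
    E.inj (mB c hc) (mA c hc) (h.rA c ▸ H.ib _ (mA c hc).1)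
  have e0 : ∀ c : kˣ, c ^ (ε * (p : ℤ) ^ e - 1) = 1 → ζ (ct X α c) * ζ (ct X α c⁻¹) = 1 := fun c hc => by
    rw [← E.mul (mA c hc) (mA _ (mi c hc)), ← ct_mul, mul_inv_cancel, ct_one, E.one]
  have e2 : ∀ c : kˣ, c ^ (ε * (p : ℤ) ^ e - 1) = 1 → ζ (ct X α c) ^ 3 = 1 := fun c hc => by
    have h1 := H.ib _ (mB _ (mi c hc)).1
    rw [h.rB, inv_inv] at h1
    have h2 := E.inj (mul_mem (mA c hc) (mB c hc)) (mB _ (mi c hc)) h1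
    rw [E.mul (mA c hc) (mB c hc), e1 c hc, e1 _ (mi c hc)] at h2
    rw [pow_three, h2, e0 c hc]
  have e3 : ∀ s ∈ St X α β, F s = s → ∃ c d : kˣ, c ^ (ε * (p : ℤ) ^ e - 1) = 1 ∧ d ^ (ε * (p : ℤ) ^ e - 1) = 1 ∧
      ζ s = ζ (ct X α c) * ζ (ct X α d) := fun s hs hF => by
    obtain ⟨c, d, rfl⟩ := mem_St hs
    obtain ⟨hc, hd⟩ := h.of_fix hFR hF
    exact ⟨c, d, hc, hd, by rw [E.mul (mA c hc) (mB d hd), e1 d hd]⟩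
  suffices k : ∀ c : kˣ, c ^ (ε * (p : ℤ) ^ e - 1) = 1 → ζ (ct X α c) = 1 from fun s hs hF => by
    obtain ⟨c, d, hc, hd, h1⟩ := e3 s hs hF
    rw [E.val (sJ s hs hF), h1, k c hc, k d hd, mul_one, Units.val_one, one_mul]
  intro c hc
  by_cases h3 : 3 ∣ ε * (p : ℤ) ^ e - 1
  swap
  · obtain ⟨i, j, h1⟩ := Int.prime_three.coprime_iff_not_dvd.2 h3
    have h2 : (c ^ i) ^ (ε * (p : ℤ) ^ e - 1) = 1 := by rw [← _root_.zpow_mul, mul_comm, _root_.zpow_mul, hc, _root_.one_zpow]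
    have h4 : c = (c ^ i) ^ 3 := by
      rw [← zpow_ofNat, ← _root_.zpow_mul, eq_sub_of_add_eq h1, _root_.zpow_sub, mul_comm j, _root_.zpow_mul, hc, _root_.one_zpow,
        zpow_one, inv_one, mul_one]
    rw [h4, ct_pow, E.cube (mA _ h2), e2 _ h2]
  obtain ⟨ν, n1, n2⟩ := E.exists_nu (fun g hg => sJ _ (kJ g hg).1 (kJ g hg).2) H.ib
  by_cases h4 : ν = 1
  · obtain ⟨a, -, k2, k3⟩ := h.l7.du α β h.ra h.rb h.ab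
    obtain ⟨t, ht, k4, k5⟩ := ((hFR X e w h.l7.toLS h.inn).2 ε h.sg).1 {α, β} (X.cor a) _ h.wab (mi c hc)
    have h5 := n1 ⟨t, tJ t ht k4⟩
    unfold pr at k2 k3
    rw [h4, kap h.ra h.rb h.ab h.br ht (k5 α (.inl rfl)) (k5 β (.inr rfl)), k2, k3] at h5
    simpa only [zpow_one, zpow_zero, mul_one, inv_inv, inv_one, ct_one, MonoidHom.one_apply] using h5.symm
  exfalso
  obtain ⟨v, m, g, hg, hm, y1, y2, y3, y4, y5⟩ := h.exists_m hι hu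
  obtain ⟨a₁, b₁, a₂, b₂, A⟩ := h.l7.a3 α β u v h.ra h.rb h.ab u1 u3 u4 u2 y2 y3 y4
  obtain ⟨κ, hκ⟩ := swap h.l7.toLS A h.ra h.rb y2 y3 y5
  obtain ⟨v₀, k1, k2⟩ := h.exists_w hι hu
  have hS := h.sz3 hι hu
  have hS' := h.sz3' hι
  have hZ := Cx.Z3_T (α := α) (β := β) hu
  have hF := fun a => X.g_mem_Sz (a := a) hZ (Set.forall_mem_insert.2 ⟨h.xF.symm ▸ .inl rfl,
    fun z hz => (h.fix_Z2 hFR hι z hz).symm ▸ .inr hz⟩)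
  generalize insert x (Z2 X α β ι) = Z at *
  refine bs hBS h.hp h.l7.toLS hZ hF A.p1 A.p2 (hS.trans A.eq) A.orth A.du h.inn.1 h.sg k1 k2 h.q4 h3 H.irr
    (fun g t ht hn => H.van g t ht fun ⟨s, hs, i, e⟩ => hn ⟨e ▸ mul_mem (St_T hs) (pow_mem hx i), fun a ha => ?_⟩) h4
    (MonoidHom.ext fun g => ?_) n2 fun ω z hω hz => ?_
  · have h5 := hS'.le ha
    have h6 := ((mem_Pe h.rt).1 h5.1).2
    obtain ⟨c, d, rfl⟩ := mem_St hs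
    rw [e, X.χ_mul _ (St_T hs) (pow_mem hx i), TO.X.Cn.χ_pow X _ hx, h5.2.2 x rfl, X.χ_mul _ (ct_mem _ _) (ct_mem _ _),
      χ_ct' h.ra, χ_ct' h.rb, h6 α (.inl rfl), h6 β (.inr rfl)]
    simp
  · obtain ⟨c, d, hc, hd, h5⟩ := e3 _ (kJ g g.2).1 (kJ g g.2).2
    rw [MonoidHom.pow_apply, n1, h5, mul_pow, e2 c hc, e2 d hd, mul_one, MonoidHom.one_apply]
  · have h5 : ω ^ (ε * (p : ℤ) ^ e - 1) = 1 :=
      orderOf_dvd_iff_zpow_eq_one.1 ((Int.natCast_dvd_natCast.2 (orderOf_dvd_of_pow_eq_one hω)).trans h3)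
    exact zz h.l7.toLS A hZ hS E H.iy hg hm y1 hκ hω (mul_mem (mA ω h5) (mB _ (mi ω h5)))
      (by rw [E.mul (mA ω h5) (mB _ (mi ω h5)), e1 _ (mi ω h5), e0 ω h5]) hz

end S2

open S2 in
/-- **[S2]** -/
theorem boxS2_of (hBS : BoxBS) (hFR : BoxFR) (hTA : BoxTA) : BoxS2 := by
  intro p _ k _ _ Y _ N _ _ ρ F G _ X hp L D C Γ α β e w ε n b x y χ Q h1 _ h3 h4 h5
  have hD := Q.sp.lz.DC.trans (Q.sp.lz.CΓ.trans Q.sp.lz.le)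
  have h : Cx X α β e w ε b x y := ⟨hp, L, Q.sp.ra, Q.sp.rb, Q.sp.ab, Q.inn, Q.sg, Q.wa, Q.wb, Q.q4, (Q.sp.lz.le Q.bΓ).2, Q.br,
    Q.bS, (hD Q.xD).2, Q.sp.le Q.xD, Q.sp.le Q.yD, Q.xZ, Q.x1, Q.yx, Q.bx⟩
  have H : Ch (Jz X α β x) (St X α β) b x y χ := ⟨h1, fun g t ht hn => h3 g t ht fun hd =>
    hn (Q.cx t hd (Subgroup.mem_centralizer_singleton_iff.1 t.2.2)), h4, h5⟩
  obtain ⟨ι, hι⟩ := h.exists_i
  obtain ⟨g, hg, hN, h6⟩ := TO.E6.exists_frame_cen X Z2_T (fun z hz => (h.fix_Z2 hFR hι z hz).symm ▸ hz) (h.cen2 hι ▸ h.xL) h.xF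
    (Tor.not_dvd_ord Nat.prime_two hp.symm h.x4)
  rw [h.cen2 hι] at hg
  rw [← Cx.Jz_conj hg hN, ← h.St_conj hg hN] at H
  rw [← h.St_conj hg hN]
  exact main hBS hFR hTA (h.conj hFR hg hN) (Nodes.Reps.mem_cj.2 h6) H

end Cfsg.Agent.KM.E2
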