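import Cfsg.Agent.KM.Ev.A1
import Cfsg.Agent.KM.Tor.Bad2
import Cfsg.Agent.TO.Defs

/-!
# KM, `l = 2`, types `E₇`, `E₈` : definitions and boxes (helper28)

`D` is abelian modulo the centre `Z` of the simply connected group, `Γ / C` is the inertial quotient (`Lz`).
-/

set_option autoImplicit false
set_option linter.unusedSectionVars false

namespace Cfsg.Agent.KM.E2

open Cfsg Cfsg.Lie Cfsg.Agent.DL Cfsg.Agent.Nodes.Reps Cfsg.Agent.Nodes.BNOf Matrix Subgroup Cfsg.Agent.KM.Ht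
open Cfsg.Agent.KZ.DatX Cfsg.Agent.Nodes.RGDChev Cfsg.Agent.KM.Tor Cfsg.Agent.BpExc.Zc
open Cfsg.Agent.TO.X5 (ct)
open Cfsg.Agent.KM.Ev (Pe Lp)
open Cfsg.Agent.TO.X.Cn (Pi1 cl)

/-! ### groups -/

section Grp

variable {Y : Type} [Group Y]

/-- `x` acts trivially on `B` modulo `A` -/
def Un (x : Y) (A B : Subgroup Y) : Prop := ∀ b ∈ B, x * b * x⁻¹ * b⁻¹ ∈ A

/-- `V` is invariant under `Γ` -/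
def Iv (Γ V : Subgroup Y) : Prop := ∀ x ∈ Γ, ∀ v ∈ V, x * v * x⁻¹ ∈ V

/-- the local setting -/
structure Lz (H Z D C Γ : Subgroup Y) : Prop where
  fin : Finite H
  zc : ∀ z ∈ Z, ∀ g ∈ H, z * g = g * z
  zD : Z ≤ D
  DC : D ≤ C
  CΓ : C ≤ Γ
  le : Γ ≤ H
  pg : IsPGroup 2 D
  mem : ∀ x, x ∈ C ↔ x ∈ H ∧ Un x Z D
  iv : Iv Γ D
  odd : ¬ 2 ∣ C.relIndex Γ
  big : 4 < C.relIndex Γ
  core : ∀ U ≤ H, IsPGroup 2 U → Iv C U → U ≤ D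

/-- an invariant section of `D / Z` -/
structure Sec (Z D Γ V W : Subgroup Y) : Prop where
  z : Z ≤ V
  le : V ≤ W
  d : W ≤ D
  iV : Iv Γ V
  iW : Iv Γ W

/-- coprime action -/
structure Act (Z D C Γ : Subgroup Y) : Prop where
  exW : ∃ W : Subgroup Y, ∀ d, d ∈ W ↔ d ∈ D ∧ d * d ∈ Z
  up : ∀ x ∈ Γ, ∀ A B : Subgroup Y, A ≤ D → B ≤ D → Un x Z A → Un x A B → Un x Z B
  mem : ∀ x ∈ Γ, (∀ d ∈ D, d * d ∈ Z → x * d * x⁻¹ * d⁻¹ ∈ Z) → x ∈ C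
  pow : ∀ x ∈ Γ, ∀ d ∈ D, x * x * d * (x * x)⁻¹ * d⁻¹ ∈ Z → x * d * x⁻¹ * d⁻¹ ∈ Z
  two : ∀ V W, Sec Z D Γ V W → V.relIndex W ≤ 3 → ∀ x ∈ Γ, Un x V W
  four : ∀ V W, Sec Z D Γ V W → V.relIndex W ≤ 7 → (∀ w ∈ W, w * w ∈ V) → ∃ x ∈ Γ, Un x V W ∧ x ∉ C
  fpf : ∀ V W, Sec Z D Γ V W → V.relIndex W ≤ 7 → ∀ x ∈ Γ, ¬ Un x V W → ∀ a ∈ W, x * a * x⁻¹ * a⁻¹ ∈ V → a ∈ V
  eight : ∀ V W, Sec Z D Γ V W → V.relIndex W ≤ 15 → (∀ w ∈ W, w * w ∈ V) → (∀ x ∈ Γ, Un x V W → x ∈ C) →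
    V.relIndex W = 8 ∧ ∀ a ∈ W, ∀ b ∈ W, a ∉ V → b ∉ V → ∃ x ∈ Γ, x * a * x⁻¹ * b⁻¹ ∈ V

/-- [G] -/
def BoxG : Prop := ∀ (Y : Type) [Group Y] (H Z D C Γ : Subgroup Y), Lz H Z D C Γ → Act Z D C Γ

/-- [AN] an anisotropic quadratic form over the field with two elements -/
def BoxAn : Prop := ∀ (Y : Type) [Group Y] (z : Y) (V W : Subgroup Y), Finite W → V ≤ W → z ∈ V → z ≠ 1 →
  (∀ w ∈ W, w * w = 1 ∨ w * w = z) → (∀ a ∈ W, ∀ b ∈ W, a * b = b * a ∨ a * b = b * a * z) →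
  (∀ v, v ∈ V ↔ v ∈ W ∧ v * v = 1) → (∀ v ∈ V, ∀ w ∈ W, v * w = w * v) →
  V.relIndex W ≤ 2 ∨ (V.relIndex W = 4 ∧ (∀ x ∈ W, x ∉ V → ∃ y ∈ W, x * y ≠ y * x) ∧
    ∀ x ∈ W, ∀ y ∈ W, x * y ≠ y * x → ∀ w ∈ W, w ∈ V ∨ w * x ∈ V ∨ w * y ∈ V ∨ w * x * y ∈ V)

/-- the preimage in `Y` -/
def up {H : Subgroup Y} {K : Type} [Group K] (π : H →* K) (A : Subgroup K) : Subgroup Y := (A.comap π).map H.subtype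

/-- [K] the setting of a block -/
def BoxK : Prop := ∀ (Y K : Type) [Group Y] [Group K] (H Z : Subgroup Y) [Finite H] [Finite K] (π : H →* K)
  (M : Ideal AlgInt) (b : Set (IrrCharacter K)) (D : Subgroup K) (θ : K → ℂ), Function.Surjective π → Z ≤ H →
  (∀ h : H, π h = 1 ↔ (h : Y) ∈ Z) → (∀ z ∈ Z, ∀ g ∈ H, z * g = g * z) → IsPGroup 2 Z → IsPBlock M b →
  TO.Can 2 M b D θ → BK.HZ 2 b ∨ Lz H Z (up π D) (up π (TO.Ce D)) (up π (TO.In D θ))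

/-- [BL] the canonical character of a normal subgroup of index two -/
def BoxBL : Prop := ∀ (K : Type) [Group K] [Finite K] (M : Ideal AlgInt) (b : Set (IrrCharacter K)) (D : Subgroup K)
  (θ : K → ℂ) (J₀ J : Subgroup K), IsPBlock M b → TO.Can 2 M b D θ → J₀ ≤ J → TO.Ce D ≤ J → J₀.relIndex J = 2 →
  ¬ D ≤ J₀ → (∀ a ∈ D, a ∈ J₀ → ∀ g ∈ J₀, a * g = g * a) →
  ∃ η : K → ℂ, IsIrrCharacter J₀ (fun g => η g) ∧ (∀ a ∈ D, a ∈ J₀ → η a = η 1) ∧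
    (∀ g ∈ J₀, ∀ x, IsPPart 2 g x → x ∉ D → η g = 0) ∧
    (∀ t ∈ TO.In D θ, (∀ g ∈ J, t * g * t⁻¹ ∈ J) → (∀ g ∈ J₀, t * g * t⁻¹ ∈ J₀) → ∀ g ∈ J₀, η (t * g * t⁻¹) = η g) ∧
    ∀ s ∈ J₀, (∀ g ∈ J, s * g = g * s) → ¬ 2 ∣ orderOf s → η s * θ 1 = θ s * η 1

end Grp

variable {p : ℕ} [Fact p.Prime] {k : Type} [Field k] [CharP k p] {Y : Type} [Group Y] {N : Type} [Fintype N]
  [DecidableEq N] {ρ : Y →* GL N k} {F : MulAut Y} {G : Subgroup Y} [IsAlgClosed k] (X : Datum p ρ F G)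

/-! ### lattices -/

/-- the Cartan integer -/
noncomputable def pr (a b : X.I → ℤ) : ℤ := X.wt a ⬝ᵥ X.cor b

/-- all roots are even on `u` -/
def Ev (u : X.R → ℤ) : Prop := ∀ c, X.Rt c → 2 ∣ X.wt c ⬝ᵥ u

/-- `u` is congruent to a coroot -/
def Ns (u : X.R → ℤ) : Prop := ∃ a, X.Rt a ∧ Ev X (u - X.cor a)

/-- `Φ` contains orthogonal roots with an even sum -/
def Hf (Φ : Set (X.I → ℤ)) : Prop := ∃ s : Finset (X.I → ℤ), s.Nonempty ∧ (∀ a ∈ s, a ∈ Φ) ∧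
  (∀ a ∈ s, ∀ b ∈ s, a ≠ b → pr X a b = 0) ∧ ∀ r, 2 ∣ (∑ a ∈ s, X.wt a) r

/-- the roots in `U` -/
def Ru (U : AddSubgroup (X.R → ℤ)) : Set (X.I → ℤ) := {a | X.Rt a ∧ X.cor a ∈ U}

/-- the roots which are even on `U` and not in `U` -/
def Sg (U : AddSubgroup (X.R → ℤ)) : Set (X.I → ℤ) := {b | X.Rt b ∧ (∀ u ∈ U, 2 ∣ X.wt b ⬝ᵥ u) ∧ X.cor b ∉ U}

/-- `U` is generated by `n` elements modulo `Ev` -/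
def Gn (n : ℕ) (U : AddSubgroup (X.R → ℤ)) : Prop :=
  ∃ u : Fin n → X.R → ℤ, ∀ v ∈ U, ∃ ε : Fin n → ℤ, Ev X (v - ∑ i, ε i • u i)

/-- a pure family -/
def Pu {n : ℕ} (u : Fin n → X.R → ℤ) : Prop :=
  ∀ ε : Fin n → ℤ, ¬ Ns X (∑ i, ε i • u i) ∧ (Ev X (∑ i, ε i • u i) → ∀ i, 2 ∣ ε i)

/-- the roots which are even on a family -/
def Rf {n : ℕ} (u : Fin n → X.R → ℤ) : Set (X.I → ℤ) := {b | X.Rt b ∧ ∀ i, 2 ∣ X.wt b ⬝ᵥ u i}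

/-- the coroots of a family are part of a basis -/
def Du {n : ℕ} (a : Fin n → X.I → ℤ) : Prop :=
  ∃ m : Fin n → X.R → ℤ, ∀ i j, m i ⬝ᵥ X.cor (a j) = if i = j then 1 else 0

/-- `F` acts as `p ^ e` times an element of the Weyl group -/
def Inn (e : ℕ) (w : X.W) : Prop := 0 < e ∧ X.Mx = ((p : ℤ) ^ e) • X.Wm w

/-- simply laced, simply connected -/
structure LS : Prop where
  sl : Sl X
  q : ∀ v, InQ X v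
  cz : CommZ X.cs X.h X.X
  nz : ∀ a, X.Rt a → ¬ Ev X (X.cor a)
  inj : ∀ a b, X.Rt a → X.Rt b → Ev X (X.cor a - X.cor b) → b = a ∨ b = -a

/-- the configuration `D₄ + D₄` -/
structure D4c (U : AddSubgroup (X.R → ℤ)) : Prop where
  sz : ∀ b, X.Rt b → (∀ u ∈ U, 2 ∣ X.wt b ⬝ᵥ u) → b ∈ Pe X (Ru X U)
  pp : ∀ v, Pp X (Pe X (Ru X U)) v → v ∈ U
  rad : ∃ r₁ ∈ U, ∃ r₂ ∈ U, ∀ u ∈ U, ¬ Ns X u ↔ Ev X u ∨ Ev X (u - r₁) ∨ Ev X (u - r₂) ∨ Ev X (u - r₁ - r₂)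
  quo : ∃ a₁ ∈ U, ∃ a₂ ∈ U, ∀ u ∈ U, ¬ Ns X u ∨ ¬ Ns X (u - a₁) ∨ ¬ Ns X (u - a₂) ∨ ¬ Ns X (u - a₁ - a₂)
  tri : ∀ (j : ℕ) u, Pe X (Ru X U) ⊆ Rn X (2 ^ j) u ∨ ¬ Hf X (Rn X (2 ^ j) u ∩ Pe X (Ru X U)) ∨
    ∃ c ∈ Pe X (Ru X U), ∃ i, j = i + 1 ∧ Pe X (Ru X U) ⊆ Rn X (2 ^ j) (u + (2 : ℤ) ^ i • X.cor c)
  ns : ∀ c ∈ Pe X (Ru X U), ∀ u ∈ U, Ns X (X.cor c + u) ↔ ¬ Ns X u
  uq : ∀ c ∈ Pe X (Ru X U), ∀ d ∈ Pe X (Ru X U), ∀ b ∈ Pe X (Ru X U), 2 ∣ pr X b c → 2 ∣ pr X b d →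
    Pe X (Ru X U) ⊆ Rn X 2 (X.cor c - X.cor d)

/-- the roots of a pure plane -/
structure P2c (u : Fin 2 → X.R → ℤ) (Φ₁ Φ₂ : Set (X.I → ℤ)) : Prop where
  eq : Rf X u = Φ₁ ∪ Φ₂
  n1 : ∀ a ∈ Φ₁, -a ∈ Φ₁
  n2 : ∀ a ∈ Φ₂, -a ∈ Φ₂
  orth : ∀ a ∈ Φ₁, ∀ b ∈ Φ₂, pr X a b = 0
  x2 : ∀ m : X.R → ℤ, (2 : ℤ) • m ∈ Submodule.span ℤ (X.wt '' Rf X u)
  y2 : ∀ v : X.R → ℤ, (2 : ℤ) • v ∈ Submodule.span ℤ (X.cor '' Rf X u)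
  dec : ∀ v, Pu X ![u 0, u 1, v] → ∃ c ∈ Φ₁, ∃ d ∈ Φ₂, Ev X (v - X.cor c - X.cor d) ∧ 2 ∣ X.wt c ⬝ᵥ v

/-- the roots of a pure space of dimension three -/
structure P3c (u : Fin 3 → X.R → ℤ) : Prop where
  ne : (Rf X u).Nonempty
  orth : ∀ a ∈ Rf X u, ∀ b ∈ Rf X u, b = a ∨ b = -a ∨ pr X a b = 0
  x2 : ∀ m : X.R → ℤ, (2 : ℤ) • m ∈ Submodule.span ℤ (X.wt '' Rf X u)
  ker : ∀ v, (∀ b ∈ Rf X u, 2 ∣ X.wt b ⬝ᵥ v) → ∀ c ∈ Rf X u, ∃ ε : Fin 3 → ℤ,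
    Ev X (v - ∑ i, ε i • u i) ∨ Ev X (v - X.cor c - ∑ i, ε i • u i)

/-- the lattice facts for `E₈`, first part -/
structure L8 : Prop extends LS X where
  ev : ∀ u, Ev X u → ∀ r, 2 ∣ u r
  zcs : ZCs X 2
  ctr : ∀ m : X.R → ℤ, m ∈ Submodule.span ℤ (X.wt '' {a | X.Rt a})
  qf1 : ∀ a u, X.Rt a → 2 ∣ X.wt a ⬝ᵥ u → Ns X u ∨ Ns X (u + X.cor a)
  qf2 : ∀ a b c, X.Rt a → X.Rt b → X.Rt c → Ns X (X.cor a + X.cor b) → Ns X (X.cor a + X.cor c) →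
    Ns X (X.cor b + X.cor c) → ¬ Ns X (X.cor a + X.cor b + X.cor c)
  d4 : ∀ U : AddSubgroup (X.R → ℤ), (∀ v, (2 : ℤ) • v ∈ U) →
    (∀ V : AddSubgroup (X.R → ℤ), (∀ v, (2 : ℤ) • v ∈ V) → (∀ a ∈ Ru X U, X.cor a ∈ V) → U ≤ V) → ¬ Gn X 3 U →
    Hf X (Sg X U) → D4c X U

/-- the lattice facts for `E₈`, pure families -/
structure P8 : Prop where
  p1 : ∀ u, Pu X ![u] → ∀ v w : X.R → ℤ, v ∈ Submodule.span ℤ (X.cor '' Rn X 2 u) ∨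
    w ∈ Submodule.span ℤ (X.cor '' Rn X 2 u) ∨ v + w ∈ Submodule.span ℤ (X.cor '' Rn X 2 u)
  p2 : ∀ u : Fin 2 → X.R → ℤ, Pu X u → ∃ Φ₁ Φ₂, P2c X u Φ₁ Φ₂
  p3 : ∀ u : Fin 3 → X.R → ℤ, Pu X u → P3c X u
  p4 : ∀ u : Fin 4 → X.R → ℤ, Pu X u → Rf X u = ∅ ∧
    ∀ w, (∀ i, Ev X (X.Wm w *ᵥ u i - u i)) → ∀ a, X.Rt a → X.act (w * w) a = a ∨ X.act (w * w) a = -a

/-- the configuration `3 A₂` -/
structure A3c (α β : X.I → ℤ) (u : X.R → ℤ) (w : X.W) (a₁ b₁ a₂ b₂ : X.I → ℤ) : Prop where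
  p1 : pr X a₁ b₁ = -1
  p2 : pr X a₂ b₂ = -1
  eq : Rn X 4 u ∩ Pe X {α, β} = A2 X a₁ b₁ ∪ A2 X a₂ b₂
  orth : ∀ c ∈ A2 X a₁ b₁, ∀ d ∈ A2 X a₂ b₂, pr X c d = 0
  sw : ∀ c ∈ A2 X a₁ b₁, X.act w c ∈ A2 X a₂ b₂
  glue : ∀ r, 3 ∣ (X.cor α - X.cor β + (X.cor a₁ - X.cor b₁) + (X.cor a₂ - X.cor b₂)) r
  du : Du X ![a₁, b₁, a₂, b₂]

/-- the lattice facts for `E₇` -/
structure L7 : Prop extends LS X where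
  z : ∃ z, Ev X z ∧ (¬ ∀ r, 2 ∣ z r) ∧ ∀ u, Ev X u → (∀ r, 2 ∣ u r) ∨ ∀ r, 2 ∣ (u - z) r
  ctr : ∀ m : X.R → ℤ, (2 : ℤ) • m ∈ Submodule.span ℤ (X.wt '' {a | X.Rt a})
  inv : ∀ u, Ev X u ∨ Ns X u
  tri : ∀ a b, X.Rt a → X.Rt b → pr X a b = 0 →
    ∃ c, X.Rt c ∧ pr X a c = 0 ∧ pr X b c = 0 ∧ Ev X (X.cor a + X.cor b + X.cor c)
  sig : ∀ U : AddSubgroup (X.R → ℤ), (∀ u, Ev X u → u ∈ U) → ¬ Gn X 2 U →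
    ¬ Hf X (Sg X U) ∧ ∃ a ∈ Ru X U, ∃ b ∈ Ru X U, pr X a b = 0
  neg : ∃ w, X.Wm w = -1
  sz : ∀ α β b, X.Rt α → X.Rt β → pr X α β = -1 → X.Rt b → 2 ∣ pr X b α → 2 ∣ pr X b β → b ∈ Pe X {α, β}
  pp : ∀ α β, X.Rt α → X.Rt β → pr X α β = -1 → ∀ v, Pp X (Pe X {α, β}) v → ∃ i j : ℤ, v = i • X.cor α + j • X.cor β
  du : ∀ α β, X.Rt α → X.Rt β → pr X α β = -1 → ∃ c, X.Rt c ∧ pr X α c = 1 ∧ pr X β c = 0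
  a3 : ∀ α β u w, X.Rt α → X.Rt β → pr X α β = -1 → Ev X u → 4 ∣ X.wt α ⬝ᵥ u → 4 ∣ X.wt β ⬝ᵥ u →
    (¬ ∀ r, 2 ∣ u r) → X.act w α = α → X.act w β = β → (∀ r, 4 ∣ (X.Wm w *ᵥ u + u) r) →
    ∃ a₁ b₁ a₂ b₂, A3c X α β u w a₁ b₁ a₂ b₂

/-! ### subgroups -/

/-- the centre -/
abbrev ZG : Subgroup Y := Zc X {a | X.Rt a}

/-- involutions of root type -/
def RT (t : Y) : Prop := ∃ g ∈ G, ∃ a, X.Rt a ∧ g⁻¹ * t * g = ct X a (-1)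

/-- the roots whose involution lies in `D` -/
def Ps (D : Subgroup Y) : Set (X.I → ℤ) := {a | X.Rt a ∧ ct X a (-1) ∈ D}

/-- the group generated by these involutions -/
def Vr (D : Subgroup Y) : Subgroup Y := closure ((fun a => ct X a (-1)) '' Ps X D)

/-- the exponents of the involutions in `V` -/
def Uv (V : Subgroup Y) : AddSubgroup (X.R → ℤ) where
  carrier := {u | X.τ (coch u (-1)) ∈ V}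
  zero_mem' := by
    show X.τ (coch 0 (-1)) ∈ V
    rw [show coch (0 : X.R → ℤ) (-1 : kˣ) = 1 from funext fun _ => zpow_zero _, map_one]
    exact one_mem _
  add_mem' := fun {a b} ha hb => by
    show X.τ (coch (a + b) (-1)) ∈ V
    rw [show coch (a + b) (-1 : kˣ) = coch a (-1) * coch b (-1) from funext fun _ => zpow_add _ _ _, map_mul]
    exact mul_mem ha hb
  neg_mem' := fun {a} ha => by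
    show X.τ (coch (-a) (-1)) ∈ V
    rw [show coch (-a) (-1 : kˣ) = (coch a (-1))⁻¹ from funext fun _ => zpow_neg _ _, map_inv]
    exact inv_mem ha

/-- the frame is adapted to the involutions of root type -/
structure Ad (D : Subgroup Y) : Prop where
  rt : ∀ t ∈ D, RT X t → ∃ a, X.Rt a ∧ t = ct X a (-1)
  le : ∃ c ∈ G, (∀ a ∈ Ps X D, c * ct X a (-1) = ct X a (-1) * c) ∧ ∀ d ∈ D, c⁻¹ * d * c ∈ Lp X (Ps X D)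

/-- no involution of root type -/
def Pure (D : Subgroup Y) : Prop := ∀ t ∈ D, ¬ RT X t

/-- the torus of two coroots -/
def St (α β : X.I → ℤ) : Subgroup Y := closure (Set.range (ct X α) ∪ Set.range (ct X β))

/-- the special configuration in `E₇` -/
structure Sp (D C Γ : Subgroup Y) (α β : X.I → ℤ) : Prop where
  lz : Lz (GF F G) (ZG X) D C Γ
  ra : X.Rt α
  rb : X.Rt β
  ab : pr X α β = -1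
  ta : ct X α (-1) ∈ D
  tb : ct X β (-1) ∈ D
  inv : ∀ v ∈ D, v * v = 1 → v ∈ ZG X ∨ v * ct X α (-1) ∈ ZG X ∨ v * ct X β (-1) ∈ ZG X ∨
    v * ct X α (-1) * ct X β (-1) ∈ ZG X
  le : D ≤ Lp X {α, β}
  nab : ∃ x ∈ D, x * x ∈ ZG X ∧ x * x ≠ 1
  ani : ∀ x ∈ D, x * x ∈ ZG X → x * x ≠ 1 → ∃ y ∈ D, y * y ∈ ZG X ∧ x * y ≠ y * x
  four : ∀ x ∈ D, ∀ y ∈ D, x * x ∈ ZG X → y * y ∈ ZG X → x * y ≠ y * x → ∀ w ∈ D, w * w ∈ ZG X →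
    w * w = 1 ∨ w * x * (w * x) = 1 ∨ w * y * (w * y) = 1 ∨ w * x * y * (w * x * y) = 1
  ex : ∃ b ∈ Γ, (∀ w ∈ D, w * w ∈ ZG X → b * w * b⁻¹ * w⁻¹ * (b * w * b⁻¹ * w⁻¹) = 1) ∧
    ∃ v ∈ D, v * v = 1 ∧ b * v * b⁻¹ * v⁻¹ ∉ ZG X
  big : 32 < Nat.card D

/-- its structure -/
structure Sq (D C Γ : Subgroup Y) (α β : X.I → ℤ) (e : ℕ) (w : X.W) (ε : ℤ) (n b x y : Y) : Prop where
  sp : Sp X D C Γ α β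
  inn : Inn X e w
  sg : ε = 1 ∨ ε = -1
  wa : X.act w α = ε • α
  wb : X.act w β = ε • β
  q4 : 4 ∣ ε * (p : ℤ) ^ e - 1
  cl : C ≤ Lp X {α, β}
  tw : ∀ s ∈ St X α β, F s = s → (∃ j : ℕ, s ^ 2 ^ j = 1) → s ∈ D
  nG : n ∈ GF F G
  nD : ∀ d, n * d * n⁻¹ ∈ D ↔ d ∈ D
  nΓ : n ∉ Γ
  nL : Un n (St X α β) (Lp X {α, β})
  bΓ : b ∈ Γ
  br : X.Rp (X.rf α * X.rf β) b
  bS : ∀ s ∈ X.S (Pe X {α, β}), b * s = s * b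
  xD : x ∈ D
  yD : y ∈ D
  xZ : x * x ∈ ZG X
  x1 : x * x ≠ 1
  yZ : y * y ∈ ZG X
  yx : y * x * y⁻¹ = x⁻¹
  bx : b * x = x * b
  cx : ∀ d ∈ D, d * x = x * d → ∃ s ∈ St X α β, ∃ i : ℕ, d = s * x ^ i

/-- the centraliser of `x` in the Levi subgroup -/
def Jz (α β : X.I → ℤ) (x : Y) : Subgroup Y := GF F G ⊓ Lp X {α, β} ⊓ centralizer {x}

/-! ### boxes -/

/-- [SAT] -/
def BoxSat : Prop := AllD fun {p} _ _ _ _ {Y} _ _ _ _ _ _ _ _ X => p ≠ 2 → Sl X → ∀ A : Set Y, A ⊆ X.T → El 2 A →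
  ¬ Hf X (X.Sz A) → A ⊆ Z0 X A

/-- [TA] abelian subgroups of good Levi subgroups are toral -/
def BoxTA : Prop := AllD fun {p} _ _ _ _ {Y} _ _ _ _ _ _ _ _ X => p ≠ 2 → LS X →
  (∀ P, (∀ a ∈ P, X.Rt a) → Lvs X (Pe X P)) ∧ ∀ Φ, (∀ a ∈ Φ, X.Rt a) → Lvs X Φ →
    (∀ y ∈ X.T ⊔ X.S Φ, ∀ t ∈ X.T, t * y = y * t → y ∈ X.T ⊔ X.S (Φ ∩ X.Sz {t})) ∧
    (∀ t ∈ X.T, El 2 {t} → ¬ Hf X (Φ ∩ X.Sz {t}) → Lvs X (Φ ∩ X.Sz {t})) ∧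
    (¬ Hf X Φ → ∀ A : Set Y, A.Finite → A ⊆ (X.T ⊔ X.S Φ : Subgroup Y) → El 2 A → (∀ a ∈ A, ∀ b ∈ A, a * b = b * a) →
      ∃ g ∈ X.T ⊔ X.S Φ, ∀ a ∈ A, g⁻¹ * a * g ∈ X.T)

/-- [FR] rational points with given values of stable roots; rational reflections -/
def BoxFR : Prop := AllD fun {p} _ {k} _ _ _ _ _ _ _ _ {F} {G} _ X => ∀ e w, LS X → Inn X e w →
  (∀ a, X.Rt a → X.g a = X.act w a) ∧ ∀ ε : ℤ, (ε = 1 ∨ ε = -1) →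
    (∀ (Ψ : Set (X.I → ℤ)) (v : X.R → ℤ) (c : kˣ), (∀ a ∈ Ψ, X.act w a = ε • a) → c ^ (ε * (p : ℤ) ^ e - 1) = 1 →
      ∃ t ∈ X.T, F t = t ∧ ∀ a ∈ Ψ, X.χ a t = (c ^ (X.wt a ⬝ᵥ v) : kˣ)) ∧
    ∀ a, X.Rt a → X.act w a = ε • a → (∀ c, F (ct X a c) = ct X a (c ^ (ε * (p : ℤ) ^ e))) ∧
      ∃ n ∈ GF F G, n ∈ X.S {a, -a} ∧ X.Rp (X.rf a) n

/-- [ZL] the product of three orthogonal involutions is not a commutator -/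
def BoxZL : Prop := AllD fun {p} _ _ _ _ _ _ _ _ _ _ _ _ _ X => p ≠ 2 → LS X → ∀ a b c, X.Rt a → X.Rt b → X.Rt c →
  pr X a b = 0 → pr X a c = 0 → pr X b c = 0 → Ev X (X.cor a + X.cor b + X.cor c) →
  ∀ x ∈ Lp X {a, b, c}, ∀ y ∈ Lp X {a, b, c}, x * y * x⁻¹ * y⁻¹ ≠ ct X a (-1) * ct X b (-1) * ct X c (-1)

/-- [A1] -/
def BoxA1 : Prop := AllD fun {p} _ _ _ _ {Y} _ _ _ _ _ {F} {G} _ X => p ≠ 2 → LS X → ∀ Z D C Γ : Subgroup Y,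
  Lz (GF F G) Z D C Γ → Z ≤ ZG X → ∃ (y : Y) (hy : y ∈ G) (hN : y⁻¹ * F y ∈ X.NN), Ad (X.conj hy hN) D

/-- [U] a toral defect group is a Sylow subgroup of a maximal torus -/
def BoxU : Prop := AllD fun {p} _ _ _ _ {Y} _ _ _ _ _ {F} {G} _ X => p ≠ 2 → ∀ [Finite ↥(GF F G)] (M : Ideal AlgInt)
  (B : Set (IrrCharacter ↥(GF F G))) (D : Subgroup ↥(GF F G)), IsPModular 2 M → IsPBlock M B → IsDefectGroup 2 M B D →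
  D.map (GF F G).subtype ≤ X.T → ∃ y ∈ X.cen (D.map (GF F G).subtype : Subgroup Y), y⁻¹ * F y ∈ X.NN ∧
    ∀ t ∈ cj y X.T, F t = t → (∃ j : ℕ, t ^ 2 ^ j = 1) → t ∈ D.map (GF F G).subtype

/-- [IX] -/
def BoxIX : Prop := AllD fun {p} _ _ _ _ {Y} _ _ _ _ _ _ {G} _ X => p ≠ 2 → L8 X → P8 X → ∀ a ∈ X.T, ∀ b ∈ X.T,
  a * a = 1 → a ≠ 1 → ¬ RT X a → ∀ x ∈ G ⊓ centralizer ({a, b} : Set Y), ∀ y ∈ G ⊓ centralizer ({a, b} : Set Y),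
  x ∈ X.cen {a, b} ∨ y ∈ X.cen {a, b} ∨ x * y ∈ X.cen {a, b}

/-- [P3] -/
def BoxP3 : Prop := AllD fun {p} _ _ _ _ {Y} _ _ _ _ _ {F} {G} _ X => p ≠ 2 → L8 X → P8 X → ∀ D C Γ V : Subgroup Y,
  Lz (GF F G) ⊥ D C Γ → Pure X D → (∀ v, v ∈ V ↔ v ∈ D ∧ v * v = 1) → Nat.card V = 8 →
  (∀ v ∈ V, ∃ d ∈ D, v = d * d) → (∀ v ∈ V, (∀ x ∈ Γ, x * v * x⁻¹ = v) → v = 1) → False

/-- [P4] -/
def BoxP4 : Prop := AllD fun {p} _ _ _ _ {Y} _ _ _ _ _ _ {G} _ X => p ≠ 2 → L8 X → P8 X → ∀ V : Subgroup Y, V ≤ G →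
  (∀ v ∈ V, v * v = 1) → Pure X V → Nat.card V = 16 → ∃ g ∈ G, ∀ v ∈ V, g⁻¹ * v * g ∈ X.T

/-- [P5] -/
def BoxP5 : Prop := AllD fun {p} _ _ _ _ {Y} _ _ _ _ _ {F} {G} _ X => p ≠ 2 → L8 X → P8 X → ∀ e w, Inn X e w →
  ∀ (D C Γ V : Subgroup Y) (g : Y), Lz (GF F G) ⊥ D C Γ → Loc 2 (GF F G) D g → Pure X D → V ≤ D → V ≤ X.T →
  (∀ v ∈ V, v * v = 1) → Nat.card V = 16 → D ≤ Z0 X D

/-- [D4] -/
def BoxD4 : Prop := AllD fun {p} _ _ _ _ {Y} _ _ _ _ _ {F} {G} _ X => p ≠ 2 → L8 X → ∀ (D C Γ : Subgroup Y) (b : Y),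
  Lz (GF F G) ⊥ D C Γ → Ad X D → D4c X (Uv X (Vr X D)) → b ∈ Γ →
  (∀ r ∈ Vr X D, ¬ RT X r → b * r * b⁻¹ = r → r = 1) → Toral X D

/-- [S1] -/
def BoxS1 : Prop := AllD fun {p} _ _ _ _ {Y} _ _ _ _ _ _ _ _ X => p ≠ 2 → L7 X → ∀ e w, Inn X e w →
  ∀ (D C Γ : Subgroup Y) α β, Sp X D C Γ α β → ∃ ε n b x y, Sq X D C Γ α β e w ε n b x y

/-- [BS] the Bessel argument in a group of type `2 A₂` -/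
def BoxBS : Prop := AllD fun {p} _ _ _ _ {Y} _ _ _ _ _ {F} {G} _ X => p ≠ 2 → ∀ [Finite ↥(GF F G)] (a b : Fin 2 → X.I → ℤ)
  (e : ℕ) (w : X.W) (ε : ℤ) (χ : GF F G → ℂ) (ν : GF F G →* ℂˣ), Sl X → (∀ i, pr X (a i) (b i) = -1) →
  (∀ c, X.Rt c ↔ c ∈ A2 X (a 0) (b 0) ∪ A2 X (a 1) (b 1)) →
  (∀ c ∈ A2 X (a 0) (b 0), ∀ d ∈ A2 X (a 1) (b 1), pr X c d = 0) → Du X ![a 0, b 0, a 1, b 1] → 0 < e → (ε = 1 ∨ ε = -1) →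
  X.Mx = (ε * (p : ℤ) ^ e) • X.Wm w → 4 ∣ ε * (p : ℤ) ^ e - 1 → 3 ∣ ε * (p : ℤ) ^ e - 1 → IsIrrCharacter (GF F G) χ →
  (∀ g x : GF F G, IsPPart 2 g x → (x : Y) ∉ ZG X → χ g = 0) → ν ≠ 1 → ν ^ 3 = 1 → (∀ g, ν g * χ g = χ g) →
  (∀ i ω (z : GF F G), ω ^ 3 = 1 → (z : Y) = ct X (a i) ω * ct X (b i) ω⁻¹ → χ z = χ 1) → False

/-- [S2] -/
def BoxS2 : Prop := AllD fun {p} _ _ _ _ {Y} _ _ _ _ _ {F} _ _ X => p ≠ 2 → L7 X →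
  ∀ (D C Γ : Subgroup Y) α β e w ε n b x y (χ : Y → ℂ), Sq X D C Γ α β e w ε n b x y →
  IsIrrCharacter (Jz X α β x) (fun g => χ g) → (∀ a ∈ D, a ∈ Jz X α β x → χ a = χ 1) →
  (∀ g t : Jz X α β x, IsPPart 2 g t → (t : Y) ∉ D → χ g = 0) →
  (∀ g ∈ Jz X α β x, χ (b * g * b⁻¹) = χ g) → (∀ g ∈ Jz X α β x, χ (y * g * y⁻¹) = χ g) →
  ∀ s ∈ St X α β, F s = s → χ s = χ 1

/-- [L8] -/
def BoxL8 : Prop := AllX hpE8 fun X => L8 X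

/-- [P8] -/
def BoxP8 : Prop := AllX hpE8 fun X => P8 X

/-- [L7] the simply connected cover of an adjoint frame -/
def BoxL7 : Prop := ∀ (r : ℕ) [Fact r.Prime] (k : Type) [Field k] [CharP k r] [IsAlgClosed k] (e : ℕ)
  (X : XF hpE7 r k ((r : ℤ) ^ e • 1)) (Y : Type) [Group Y] (N : Type) [Fintype N] [DecidableEq N] (ρ : Y →* GL N k)
  (F : MulAut Y) (X' : Datum r ρ F ⊤) (θ : Y →* ↥(chevE7.group k)), Sc.Isog X' X.D θ 2 → Pi1 X' 1 →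
  L7 X' ∧ X'.Mx = (r : ℤ) ^ e • 1

end Cfsg.Agent.KM.E2
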