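import Cfsg.Agent.KM.E2.Defs
import Cfsg.Agent.KM.Si.Q

/-!
# KM, `l = 2`, types `E₇`, `E₈` : rational points and commutators in Levi subgroups (helper10)
-/

set_option autoImplicit false
set_option linter.unusedSectionVars false

namespace Cfsg.Agent.KM.E2

open Cfsg Cfsg.Lie Cfsg.Agent.DL Cfsg.Agent.Nodes.Reps Cfsg.Agent.Nodes.BNOf Matrix Subgroup Cfsg.Agent.KM.Tor
open Cfsg.Agent.TO.X5 (ct ct_mem ct_mul χ_ct ct_S eq_ct)
open Cfsg.Agent.KM.Ev (Pe Lp)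
open Cfsg.Agent.TO.X.Cn (cl)
open scoped commutatorElement

namespace FR

variable {p : ℕ} [Fact p.Prime] {k : Type} [Field k] [CharP k p] {Y : Type} [Group Y] {N : Type} [Fintype N]
  [DecidableEq N] {ρ : Y →* GL N k} {F : MulAut Y} {G : Subgroup Y} [IsAlgClosed k] {X : Datum p ρ F G}
  {e : ℕ} {w : X.W} {ε : ℤ} {a : X.I → ℤ}

theorem g_act (h : Inn X e w) (ha : X.Rt a) : X.g a = X.act w a :=
  (X.eq_g_of_ψ ha (ha.act w) (pow_pos (Int.natCast_pos.2 (Fact.out : p.Prime).pos) e) (X.wt_injective (by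
    rw [X.wt_ψ, h.2, vecMul_smul, X.wt_act, map_zsmul]))).symm

theorem q_abs (h : Inn X e w) (hε : ε = 1 ∨ ε = -1) : 2 ≤ |ε * (p : ℤ) ^ e| := by
  have h1 : (2 : ℤ) ≤ (p : ℤ) ^ e :=
    (Int.ofNat_le.2 (Fact.out : p.Prime).two_le).trans (le_self_pow₀ (Int.ofNat_le.2 (Fact.out : p.Prime).one_le) h.1.ne')
  rcases hε with rfl | rfl
  · rwa [one_mul, abs_of_nonneg (by omega)]
  · rwa [neg_one_mul, abs_neg, abs_of_nonneg (by omega)]

theorem wt_Mx (h : Inn X e w) (hε : ε = 1 ∨ ε = -1) (ha : X.act w a = ε • a) :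
    X.wt a ᵥ* X.Mx = (ε * (p : ℤ) ^ e) • X.wt a := by
  have h1 := X.wt_act w a
  rw [ha, map_zsmul, smul_vecMul] at h1
  have h2 : X.wt a ᵥ* X.Wm w = ε • X.wt a := by
    conv_rhs => rw [← h1, smul_smul]
    rcases hε with rfl | rfl <;> simp
  rw [h.2, vecMul_smul, h2, smul_smul, mul_comm]

theorem Mx_cor' (h : Inn X e w) (hε : ε = 1 ∨ ε = -1) (hr : X.Rt a) (ha : X.act w a = ε • a) :
    X.Mx *ᵥ X.cor a = (ε * (p : ℤ) ^ e) • X.cor a := by
  rw [h.2, smul_mulVec, ← X.cor_act w hr, ha]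
  rcases hε with rfl | rfl
  · rw [one_smul, one_mul]
  · rw [neg_one_smul, X.cor_neg hr, neg_one_mul, neg_smul, smul_neg]

theorem exists_t (h : Inn X e w) (hε : ε = 1 ∨ ε = -1) (v : X.R → ℤ) {c : kˣ} (hc : c ^ (ε * (p : ℤ) ^ e - 1) = 1) :
    ∃ t ∈ X.T, F t = t ∧ ∀ a, X.act w a = ε • a → X.χ a t = (c ^ (X.wt a ⬝ᵥ v) : kˣ) := by
  obtain ⟨q, hq⟩ : ∃ q, q = ε * (p : ℤ) ^ e := ⟨_, rfl⟩
  obtain ⟨d, hd⟩ : ∃ d, d = 2 * orderOf w := ⟨_, rfl⟩
  have h0 : d ≠ 0 := by have := orderOf_pos w; omega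
  have h1 : X.Mx ^ d = q ^ d • (1 : Matrix X.R X.R ℤ) := by
    have h2 : X.Wm w ^ d = 1 := by
      rw [show X.Wm w = X.WmHom w from rfl, ← map_pow, hd, mul_comm, pow_mul, pow_orderOf_eq_one, one_pow, map_one]
    have h3 : ε ^ d = 1 := by
      rw [hd, pow_mul]
      rcases hε with rfl | rfl <;> simp
    rw [h.2, _root_.smul_pow, h2, hq, mul_pow, h3, one_mul]
  have h2 : ∑ i ∈ Finset.range d, q ^ i ≠ 0 := fun k => by
    have h3 := geom_sum_mul q d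
    rw [k, zero_mul, eq_comm, sub_eq_zero] at h3
    have h4 := congrArg (|·|) h3
    simp only [abs_pow, abs_one] at h4
    have h5 := q_abs h hε
    rw [← hq, (pow_eq_one_iff_of_nonneg (abs_nonneg q) h0).1 h4] at h5
    omega
  obtain ⟨η, rfl⟩ := exists_zpow_eq h2 c
  rw [← hq] at hc
  refine ⟨X.τ (mon (∑ i ∈ Finset.range d, X.Mx ^ i) (coch v η)), X.τ_mem _, (X.τ_mem_GF.2 ?_).2, fun a ha => ?_⟩
  · rw [← mon_mul, mul_geom_sum, h1, ← one_smul ℤ (1 : Matrix X.R X.R ℤ), smul_smul, mul_one, ← sub_smul, mon_zsmul,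
      mon_one, ← map_zpow, ← geom_sum_mul, _root_.zpow_mul, hc, map_one]
  · have h3 : ∀ i : ℕ, X.wt a ᵥ* X.Mx ^ i = q ^ i • X.wt a := fun i => by
      induction i with
      | zero => rw [pow_zero, pow_zero, vecMul_one, one_smul]
      | succ i ih => rw [pow_succ, ← vecMul_vecMul, ih, smul_vecMul, wt_Mx h hε ha, ← hq, smul_smul, pow_succ]
    have h4 : X.wt a ᵥ* ∑ i ∈ Finset.range d, X.Mx ^ i = (∑ i ∈ Finset.range d, q ^ i) • X.wt a := by
      rw [vecMul_sum, Finset.sum_smul]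
      exact Finset.sum_congr rfl fun i _ => h3 i
    rw [X.χ_τ, chr_mon, h4, chr_zsmul, chr_coch, ← _root_.zpow_mul, ← _root_.zpow_mul, mul_comm]
    rfl

theorem F_ct (h : Inn X e w) (hε : ε = 1 ∨ ε = -1) (hr : X.Rt a) (ha : X.act w a = ε • a) (c : kˣ) :
    F (ct X a c) = ct X a (c ^ (ε * (p : ℤ) ^ e)) := by
  rw [ct, ct, X.F_τ, mon_coch, Mx_cor' h hε hr ha, coch_zsmul]

theorem exists_n (h : Inn X e w) (hε : ε = 1 ∨ ε = -1) (hr : X.Rt a) (ha : X.act w a = ε • a) :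
    ∃ n ∈ GF F G, n ∈ X.S {a, -a} ∧ X.Rp (X.rf a) n := by
  have hp := TO.G2D.rt_pair hr
  obtain ⟨m, hm, h1⟩ := X.exists_rp_rf hr
  obtain ⟨u, hu, t, ht, rfl⟩ := (X.mem_TS hp).1 ((sup_le_sup_left (sup_le
    (RGD.le_Sup (S := {a, -a}) (.inl rfl)) (RGD.le_Sup (S := {a, -a}) (.inr rfl))) _) hm)
  have h2 : X.Rp (X.rf a) u := by simpa using h1.mul (rp_of_mem (cs := X.cs) (hN := X.nsys) ht).inv
  have h3 : X.g a = a ∨ X.g a = -a := by
    rw [g_act h hr, ha]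
    rcases hε with rfl | rfl
    · exact .inl (one_smul _ _)
    · exact .inr (neg_one_smul _ _)
  have h4 : F u ∈ X.S {a, -a} := X.F_mem_S hp (by
    rintro _ (rfl | rfl)
    · exact h3
    · rw [X.g_neg hr]
      exact h3.symm.imp (fun k => by rw [k, neg_neg]) (congrArg _)) hu
  have h5 : X.Rp (X.rf a) (F u) := by
    have h6 := h2.mapF
    rw [X.Fw_rf hr] at h6
    rcases h3 with k | k <;> rw [k] at h6
    · exact h6
    · rwa [X.rf_neg hr] at h6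
  have h6 : u⁻¹ * F u ∈ X.T := by
    have h7 := h2.inv.mul h5
    rw [inv_mul_cancel] at h7
    exact h7.mem_of_one
  obtain ⟨s, hs⟩ := eq_ct hr (mul_mem (inv_mem hu) h4) fun s => X.T_comm (ct_mem a s) h6
  obtain ⟨z, hz⟩ := exists_zpow_eq (n := ε * (p : ℤ) ^ e - 1) (fun k => by
    have h7 := q_abs h hε
    rw [sub_eq_zero.1 k, abs_one] at h7
    omega) s⁻¹
  have h7 := mul_mem hu (ct_S hr z)
  refine ⟨u * ct X a z, ⟨X.S_le_G hp h7, ?_⟩, h7, by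
    simpa using h2.mul (rp_of_mem (cs := X.cs) (hN := X.nsys) (ct_mem a z))⟩
  show F (u * ct X a z) = u * ct X a z
  rw [map_mul, F_ct h hε hr ha, inv_mul_eq_iff_eq_mul.1 hs, mul_assoc, ← ct_mul, ← inv_inv s, ← hz, _root_.zpow_sub_one, _root_.mul_inv_rev,
    inv_inv, inv_mul_cancel_right]

/-- characters which kill the coroots of a centraliser kill the commutators which lie in the torus -/
theorem chr_comm {Z : Set Y} (hZ : Z ⊆ X.T) {x y : Y} (hx : x ∈ X.cen Z) (hy : y ∈ X.cen Z) {c : X.R → kˣ}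
    (h : ⁅x, y⁆ = X.τ c) {m : X.R → ℤ} (hm : ∀ d ∈ X.Sz Z, m ⬝ᵥ X.cor d = 0) : chr m c = 1 := by
  obtain ⟨d, e, H⟩ := X.exists_split'
  let X' : Datum p ρ (F ^ d) G := X.newF (X.amb.pow H.d_pos) id (fun _ => e) (fun _ h => h)
    (fun a ha => ⟨1, one_ne_zero, fun u => by rw [H.x a ha, one_mul]; rfl⟩) (X.Mx ^ d) (X.F_pow_τ d)
  have h1 := Si.Qd.T_inf_S_le (X'.sub hZ (fun _ h => h) rfl) ⟨X.τ_mem c,
    h ▸ Si.Qd.comm_le_S (X'.sub hZ (fun _ h => h) rfl) (commutator_mem_commutator hx hy)⟩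
  obtain ⟨c', h2, h3⟩ := (closure_le ((chr m).ker.map X.τ)).2 (by
    rintro _ ⟨_, ⟨j, rfl⟩, s, rfl⟩
    refine ⟨_, ?_, rfl⟩
    have h2 : m ⬝ᵥ X.cor (DL.Base.bs X.cs X.h (X.Lam Z) j) = 0 := hm _ (X.mem_Sz.2 ⟨DL.Base.bs_root j, DL.Base.bs_mem j⟩)
    exact (chr_coch _ _ _).trans ((congrArg (s ^ ·) h2).trans (zpow_zero s))) h1
  exact X.τ_inj h3 ▸ h2

theorem pr_cpr {b : X.I → ℤ} (hb : X.Rt b) (a : X.I → ℤ) : pr X a b = Nodes.Coroot.cpr X.cs X.h a b := X.pair_cor hb a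

theorem sz_ct {P : Set (X.I → ℤ)} (hP : ∀ a ∈ P, X.Rt a) : X.Sz {z | ∃ a ∈ P, ∃ s, z = ct X a s} = Pe X P :=
  Set.ext fun b => and_congr_right fun _ => ⟨fun h a ha => eq_zero_of_zpow (k := k) fun s => Units.ext (by
    rw [← χ_ct (hP a ha), h _ ⟨a, ha, s, rfl⟩, Units.val_one]), by
    rintro h _ ⟨a, ha, s, rfl⟩
    rw [χ_ct (hP a ha), h a ha, zpow_zero, Units.val_one]⟩

end FR

open FR

/-- **[FR]** -/
theorem boxFR : BoxFR := fun _ _ _ _ h => ⟨fun _ => g_act h, fun _ hε => ⟨fun _ v _ hΨ hc =>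
  let ⟨t, h1, h2, h3⟩ := exists_t h hε v hc
  ⟨t, h1, h2, fun a ha => h3 a (hΨ a ha)⟩, fun _ hr ha => ⟨F_ct h hε hr ha, exists_n h hε hr ha⟩⟩⟩

/-- **[ZL]** -/
theorem boxZL : BoxZL := by
  intro p _ k _ _ Y _ N _ _ ρ F G _ X hp L a b c ha hb hc ab ac bc hE x hx y hy e
  have hP : ∀ d ∈ ({a, b, c} : Set (X.I → ℤ)), X.Rt d := by rintro _ (rfl | rfl | rfl) <;> assumption
  have hs : ∀ d, X.Rt d → (X.wt a + X.wt b + X.wt c) ⬝ᵥ X.cor d = X.wt d ⬝ᵥ (X.cor a + X.cor b + X.cor c) := fun d hd => by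
    rw [add_dotProduct, add_dotProduct, dotProduct_add, dotProduct_add, L.sl a d ha hd, L.sl b d hb hd, L.sl c d hc hd]
  have h1 : ∀ r, 2 ∣ (X.wt a + X.wt b + X.wt c) r := fun r => by
    obtain ⟨β, hβ⟩ := L.q (Pi.single r 1)
    rw [← dotProduct_single_one (X.wt a + X.wt b + X.wt c) r, hβ, cl, dotProduct_sum]
    refine Finset.dvd_sum fun i _ => ?_
    rw [dotProduct_smul, ← X.cor_sr, hs _ (Tits.Roots.isRoot_sr _ _ i)]
    exact (hE _ (Tits.Roots.isRoot_sr _ _ i)).mul_left _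
  choose m hm using h1
  have h2 : ∀ v, 2 * (m ⬝ᵥ v) = (X.wt a + X.wt b + X.wt c) ⬝ᵥ v := fun v => by
    rw [show X.wt a + X.wt b + X.wt c = (2 : ℤ) • m from funext hm, smul_dotProduct, smul_eq_mul]
  have h3 : ∀ d, X.Rt d → 2 * (m ⬝ᵥ X.cor d) = pr X d a + pr X d b + pr X d c := fun d hd => by
    rw [h2, hs d hd, dotProduct_add, dotProduct_add]
    rfl
  have h4 : ∀ d, X.Rt d → pr X d d = 2 := fun d hd => (pr_cpr hd d).trans (Nodes.Coroot.cpr_self _ _ hd)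
  have ba : pr X b a = 0 := (L.sl b a hb ha).trans ab
  have ca : pr X c a = 0 := (L.sl c a hc ha).trans ac
  have cb : pr X c b = 0 := (L.sl c b hc hb).trans bc
  have k1 := h3 a ha
  have k2 := h3 b hb
  have k3 := h3 c hc
  rw [h4 a ha, ab, ac] at k1
  rw [h4 b hb, ba, bc] at k2
  rw [h4 c hc, ca, cb] at k3
  rw [Lp, ← sz_ct hP] at hx hy
  have h5 := chr_comm (by rintro _ ⟨d, -, s, rfl⟩; exact ct_mem d s) hx hy
    (c := coch (X.cor a) (-1) * coch (X.cor b) (-1) * coch (X.cor c) (-1)) (by rw [map_mul, map_mul]; exact e) (m := m)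
    fun d hd => by
      rw [sz_ct hP] at hd
      have k := h3 d hd.1
      rw [pr_cpr ha, pr_cpr hb, pr_cpr hc, hd.2 a (by simp), hd.2 b (by simp), hd.2 c (by simp)] at k
      omega
  have h6 : ∀ v, m ⬝ᵥ v = 1 → chr m (coch v (-1 : kˣ)) = -1 := fun v hv =>
    (chr_coch _ _ _).trans ((congrArg ((-1 : kˣ) ^ ·) hv).trans (zpow_one _))
  rw [map_mul, map_mul, h6 _ (by omega), h6 _ (by omega), h6 _ (by omega), neg_mul_neg, one_mul, one_mul] at h5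
  have h7 : ((2 : ℕ) : k) = 0 := by
    have h8 := congrArg Units.val h5
    rw [Units.val_neg, Units.val_one] at h8
    push_cast
    linear_combination -h8
  exact hp ((Nat.prime_dvd_prime_iff_eq Fact.out Nat.prime_two).1 ((CharP.cast_eq_zero_iff k p 2).1 h7))

end Cfsg.Agent.KM.E2
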