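import Cfsg.Agent.KM.E2.TA
import Cfsg.Agent.KM.E2.FR
import Cfsg.Agent.KM.E2.G
import Cfsg.Agent.KM.Uu.U
import Cfsg.Agent.SB.Exc.Max.Frame

/-!
# KM, `l = 2`, type `E₇` : the geometry (helper28)

* `kill`, `sz_sub`, `toral_blk` : toral defect groups;
* `L7.toral` : more than four involutions modulo the centre; `L7.sp` : the special configuration.
-/

set_option autoImplicit false
set_option linter.unusedSectionVars false

namespace Cfsg.Agent.KM.E2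

open Cfsg Cfsg.Lie Cfsg.Agent.DL Cfsg.Agent.Nodes.Reps Cfsg.Agent.Nodes.BNOf Matrix Subgroup Cfsg.Agent.KM.Ht
open Cfsg.Agent.KM.Tor Cfsg.Agent.BpExc.Zc Cfsg.Agent.Nodes.Coroot
open Cfsg.Agent.TO.X5 (ct Lg ct_mem conj_ct F_ct cor_add)
open Cfsg.Agent.KM.Ev (Pe Lp Lp_comm Lp_le_G ct_sq)
open Cfsg.Agent.KM.Uu (SylIn)

theorem relIndex_le {Y : Type} [Group Y] {Z V : Subgroup Y} {ι : Type} [Finite ι] (f : ι → Y)
    (h : ∀ v ∈ V, ∃ i, v⁻¹ * f i ∈ Z) : Z.relIndex V ≤ Nat.card ι := by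
  choose g hg using h
  refine Nat.card_le_card_of_injective (fun q : V ⧸ Z.subgroupOf V => g _ q.out.2) fun q r e => ?_
  have h1 := mul_mem (hg _ q.out.2) (inv_mem (hg _ r.out.2))
  rw [show g _ q.out.2 = g _ r.out.2 from e, _root_.mul_inv_rev, inv_inv, mul_assoc, mul_inv_cancel_left] at h1
  exact q.out_eq'.symm.trans ((QuotientGroup.eq.2 (mem_subgroupOf.2 h1)).trans r.out_eq')

variable {p : ℕ} [Fact p.Prime] {k : Type} [Field k] [CharP k p] {Y : Type} [Group Y] {N : Type} [Fintype N]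
  [DecidableEq N] {ρ : Y →* GL N k} {F : MulAut Y} {G : Subgroup Y} [IsAlgClosed k] {X : Datum p ρ F G}
  {a b c α β : X.I → ℤ} {u : X.R → ℤ} {t g v z : Y} {D C Γ V W Z : Subgroup Y} {e : ℕ} {w : X.W}

theorem Lp_anti {P Q : Set (X.I → ℤ)} (h : P ⊆ Q) : Lp X Q ≤ Lp X P :=
  sup_le_sup_left (RGD.Sup_mono (show Pe X Q ⊆ Pe X P from fun _ hx => ⟨hx.1, fun a ha => hx.2 a (h ha)⟩)) _

theorem ct_eq (ha : X.Rt a) (h : b = a ∨ b = -a) : ct X b (-1) = ct X a (-1) :=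
  h.elim (fun e => e ▸ rfl) fun e => e ▸ ct_neg' ha

theorem Lz.el {H : Subgroup Y} (h : Lz H Z D C Γ) : El 2 (D : Set Y) := fun d hd =>
  (h.pg ⟨d, hd⟩).imp fun _ e => congrArg Subtype.val e

theorem Lz.DH {H : Subgroup Y} (h : Lz H Z D C Γ) : D ≤ H := h.DC.trans (h.CΓ.trans h.le)

theorem Lz.comm {H : Subgroup Y} (h : Lz H Z D C Γ) {x y : Y} (hx : x ∈ C) (hy : y ∈ D) : x * y * x⁻¹ * y⁻¹ ∈ Z :=
  ((h.mem x).1 hx).2 y hy

theorem Gn.le (hp : p ≠ 2) {n : ℕ} (h : Gn X n (Uv X V)) (hT : V ≤ X.T) (h2 : ∀ v ∈ V, v * v = 1) :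
    (ZG X).relIndex V ≤ 2 ^ n := by
  obtain ⟨u, h⟩ := h
  refine (relIndex_le (fun ε : Fin n → Fin 2 => tv X (∑ i, ((ε i : ℕ) : ℤ) • u i)) fun v hv => ?_).trans_eq (by simp)
  obtain ⟨x, rfl⟩ := exists_inv (hT hv) (h2 v hv)
  obtain ⟨ε, hε⟩ := h x hv
  refine ⟨fun i => ⟨(ε i % 2).toNat, by omega⟩, ?_⟩
  rw [inv_eq_of_mul_eq_one_right (tv_sq x), ← tv_sub, tv_mem_ZG hp]
  convert hε.add (ev_two (∑ i, (ε i / 2) • u i)) using 1
  rw [Finset.smul_sum, sub_add, ← Finset.sum_sub_distrib]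
  refine congrArg _ (Finset.sum_congr rfl fun i _ => ?_)
  rw [smul_smul, ← sub_smul]
  exact congrArg (· • u i) (by simp only; omega)

theorem Ad.comm (h : Ad X D) (ha : a ∈ Ps X D) {d : Y} (hd : d ∈ D) : ct X a (-1) * d = d * ct X a (-1) := by
  obtain ⟨c, -, h1, h2⟩ := h.le
  calc _ = c * (ct X a (-1) * (c⁻¹ * d * c)) * c⁻¹ := by rw [← mul_assoc c, h1 a ha]; group
    _ = d * (c * ct X a (-1)) * c⁻¹ := by rw [Lp_comm ha.1 ha (h2 d hd)]; group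
    _ = _ := by rw [h1 a ha]; group

variable (hp : p ≠ 2)
include hp

theorem odd_p : Odd p := (Fact.out : p.Prime).odd_of_ne_two hp

/-- a stable root is not trivial on the rational `2`-elements of the torus -/
theorem kill (L : LS X) (I : Inn X e w) (hS : SylIn F 2 X.T D) (hb : b ∈ X.Sz D)
    (hF : F (ct X b (-1)) = ct X b (-1)) : False := by
  obtain ⟨h1, h2⟩ := boxFR X e w L I
  rw [F_ct hb.1, (odd_p hp).pow.neg_one_pow, h1 b hb.1] at hF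
  obtain ⟨ε, hε, h3⟩ : ∃ ε : ℤ, (ε = 1 ∨ ε = -1) ∧ X.act w b = ε • b :=
    (L.ct_inj hp hb.1 (hb.1.act w) (by rw [hF, ct_sq]; exact one_mem _)).elim
      (fun e => ⟨1, .inl rfl, e.trans (one_smul _ _).symm⟩) fun e => ⟨-1, .inr rfl, e.trans (neg_one_smul _ _).symm⟩
  obtain ⟨c, hc⟩ := not_forall.1 (L.nz b hb.1)
  rw [Classical.not_imp, L.sl c b hc.1 hb.1] at hc
  have h4 : Odd (ε * (p : ℤ) ^ e) := Odd.mul (by rcases hε with rfl | rfl <;> decide) ((odd_p hp).natCast).pow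
  obtain ⟨t, ht, h5, h6⟩ := (h2 ε hε).1 {b} (X.cor c) (-1) (fun _ e => e ▸ h3) (h4.sub_odd odd_one).neg_one_zpow
  have := X.amb.finite_GF G
  obtain ⟨j, m, hm, h7⟩ := Nat.exists_eq_two_pow_mul_odd (orderOf_pos (⟨t, X.T_le_G ht, h5⟩ : GF F G)).ne'
  have h8 := hb.2 _ (hS _ (pow_mem ht m) (by rw [map_pow, h5]) ⟨j, by
    rw [← pow_mul, mul_comm, ← h7]
    exact congrArg Subtype.val (pow_orderOf_eq_one (⟨t, X.T_le_G ht, h5⟩ : GF F G))⟩)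
  rw [TO.X.Cn.χ_pow X b ht, h6 b rfl, (Int.not_even_iff_odd.1 (mt even_iff_two_dvd.1 hc.2)).neg_one_zpow,
    ← Units.val_pow_eq_pow_val, hm.neg_one_pow, Units.val_eq_one] at h8
  have h9 := Ev.ord_neg (k := k) hp
  rw [h8, orderOf_one] at h9
  omega

theorem sz_sub (L : LS X) (I : Inn X e w) (hS : SylIn F 2 X.T D) (hD : D ≤ GF F G) (hV : V ≤ D) :
    X.Sz D ⊆ Sg X (Uv X V) := fun b hb =>
  ⟨hb.1, fun u hu => (χ_tv hp b u).1 (hb.2 _ (hV hu)), fun h => kill hp L I hS hb (hD (hV h)).2⟩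

omit hp in
/-- **toral defect groups** -/
theorem toral_blk [Finite ↥(GF F G)] {M : Ideal AlgInt} (hM : IsPModular 2 M) {B : Set (IrrCharacter ↥(GF F G))}
    {E : Subgroup ↥(GF F G)} (hB : IsPBlock M B) (hE : IsDefectGroup 2 M B E) (hD : D = E.map (GF F G).subtype)
    (P : Datum p ρ F G → Prop) (hP : ∀ X y hy hN, P X → P (X.conj (y := y) hy hN))
    (h : ∀ X, P X → D ≤ X.T → SylIn F 2 X.T D → D ≤ Z0 X D) (hX : P X) (hg : g ∈ G)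
    (h1 : ∀ d ∈ D, g⁻¹ * d * g ∈ X.T) : Toral X D := by
  have : Fact (Nat.Prime 2) := ⟨Nat.prime_two⟩
  subst hD
  obtain ⟨y, hy, hN, h2, -⟩ := SB.Exc.Max.exists_conj_le_T X (Z := E.map (GF F G).subtype)
    (by rintro _ ⟨d, hd, rfl⟩; exact ⟨d, hd, d.2.2.symm⟩) hg h1
  obtain ⟨x, hx, hM', h3⟩ := Uu.syl_of_block (X := X.conj hy hN) hM hB hE h2
  have h4 := (X.conj hy hN).conj_T (Datum.cen_le_G _ _ hx) hM'
  exact toral_conj hy hN ⟨x, _, hM', h _ (hP _ _ _ _ (hP _ _ _ _ hX)) (h4 ▸ Uu.le_cj h2 hx) (h4 ▸ h3)⟩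

/-! ### type `E₇` -/

variable (L : L7 X)
include L

omit hp in
theorem L7.sq (hz : z ∈ ZG X) : z * z = 1 := by
  classical
  obtain ⟨c, rfl⟩ := (X.mem_T z).1 hz.1
  have h1 : ∀ m ∈ Submodule.span ℤ (X.wt '' {a | X.Rt a}), chr m c = 1 := fun m hm => by
    induction hm using Submodule.span_induction with
    | mem m hm =>
      obtain ⟨a, ha, rfl⟩ := hm
      exact Units.val_eq_one.1 ((X.χ_τ a c).symm.trans (hz.2 a ha))
    | zero => exact chr_zero c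
    | add _ _ _ _ h h' => rw [chr_add, h, h', mul_one]
    | smul _ _ _ h => rw [chr_zsmul, h, _root_.one_zpow]
  rw [← map_mul, show c * c = 1 from funext fun r => ?_, map_one]
  have := h1 _ (L.ctr (Pi.single r 1))
  rwa [chr_zsmul, chr_single, zpow_two] at this

theorem L7.exz : ∃ z ∈ ZG X, z ≠ 1 ∧ ∀ t ∈ ZG X, t = 1 ∨ t = z := by
  obtain ⟨z, h1, h2, h3⟩ := L.z
  refine ⟨tv X z, (tv_mem_ZG hp).2 h1, mt (tv_eq_one hp).1 h2, fun t ht => ?_⟩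
  obtain ⟨u, rfl⟩ := exists_inv ht.1 (L.sq ht)
  exact (h3 u ((tv_mem_ZG hp).1 ht)).imp tv_of_dvd fun e => by rw [← sub_add_cancel u z, tv_add, tv_of_dvd e, one_mul]

theorem L7.two (hz : z ∈ ZG X) (h1 : z ≠ 1) (ht : t ∈ ZG X) : t = 1 ∨ t = z :=
  let ⟨_, _, _, h⟩ := L.exz hp
  (h t ht).imp_right fun e => e.trans ((h z hz).resolve_left h1).symm

variable (H : Lz (GF F G) (ZG X) D C Γ) (A : Ad X D)
include H A

theorem L7.cases (hv : v ∈ D) (h : v * v = 1) : v ∈ ZG X ∨ ∃ a ∈ Ps X D, v * ct X a (-1) ∈ ZG X := by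
  have h0 := (H.DH hv).1
  obtain ⟨g, hg, h1⟩ := toral_cen (X := X) (Set.empty_subset _) Set.finite_empty (cc_empty v h0 fun _ h => h.elim)
    (not_dvd_ord (j := 1) Nat.prime_two hp.symm ((pow_two v).trans h))
  have hg' := X.cen_le_G _ hg
  obtain ⟨u, hu⟩ := exists_inv h1 (by
    rw [show g⁻¹ * v * g * (g⁻¹ * v * g) = g⁻¹ * (v * v) * g by group, h, mul_one, inv_mul_cancel])
  rcases L.inv u with e | ⟨a, ha, e⟩
  · have h2 := (tv_mem_ZG hp).2 e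
    exact .inl (by rwa [show v = g * tv X u * g⁻¹ by rw [← hu]; group, ZG_comm h2 hg', mul_inv_cancel_right])
  have h2 := (tv_mem_ZG hp).2 e
  obtain ⟨b, hb, h3⟩ := A.rt _ (mul_mem hv (H.zD h2)) ⟨g, hg', a, ha, by
    rw [mul_assoc, mul_assoc, ← ZG_comm h2 hg', ← mul_assoc, ← mul_assoc, hu, tv_sub, ← mul_assoc, tv_sq, one_mul, tv_cor]⟩
  exact .inr ⟨b, ⟨hb, h3 ▸ mul_mem hv (H.zD h2)⟩, by rwa [← h3, ← mul_assoc, h, one_mul]⟩

theorem L7.memT (hv : v ∈ D) (h : v * v = 1) : v ∈ X.T := (L.cases hp H A hv h).elim (fun e => e.1)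
  fun ⟨a, _, e⟩ => (mul_mem_cancel_right (ct_mem a _)).1 e.1

theorem L7.cen (hv : v ∈ D) (h : v * v = 1) {d : Y} (hd : d ∈ D) : v * d = d * v := by
  rcases L.cases hp H A hv h with e | ⟨a, ha, e⟩
  · exact (ZG_comm e (H.DH hd).1).symm
  · have h1 := ZG_comm e (H.DH hd).1
    rw [mul_assoc, A.comm ha hd, ← mul_assoc, ← mul_assoc] at h1
    exact (mul_right_cancel h1).symm

theorem L7.exV : ∃ V : Subgroup Y, ∀ v, v ∈ V ↔ v ∈ D ∧ v * v = 1 :=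
  ⟨{ carrier := {v | v ∈ D ∧ v * v = 1}
     one_mem' := ⟨one_mem _, one_mul _⟩
     mul_mem' := fun {x y} hx hy => ⟨mul_mem hx.1 hy.1, by
       rw [mul_assoc, ← mul_assoc y, ← L.cen hp H A hx.1 hx.2 hy.1, mul_assoc, hy.2, mul_one, hx.2]⟩
     inv_mem' := fun {x} hx => ⟨inv_mem hx.1, by rw [← _root_.mul_inv_rev, hx.2, inv_one]⟩ }, fun _ => Iff.rfl⟩

/-- two orthogonal roots -/
theorem L7.ab (ha : a ∈ Ps X D) (hb : b ∈ Ps X D) (h : pr X a b = 0) : ∀ x ∈ D, ∀ y ∈ D, x * y = y * x := by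
  obtain ⟨c, hc, h1, h2, h3⟩ := L.tri a b ha.1 hb.1 h
  have h4 := (tv_mem_ZG hp).2 h3
  rw [tv_add, tv_add, tv_cor, tv_cor, tv_cor] at h4
  have h5 := boxZL X hp L.toLS a b c ha.1 hb.1 hc h h1 h2 h3
  obtain ⟨g, hg, -, h6⟩ := A.le
  have h7 : Lp X (Ps X D) ≤ Lp X {a, b, c} := Lp_anti (by
    rintro _ (rfl | rfl | rfl)
    exacts [ha, hb, ⟨hc, (mul_mem_cancel_left (mul_mem ha.2 hb.2)).1 (H.zD h4)⟩])
  intro x hx y hy
  have h8 := H.comm (H.DC hx) hy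
  rcases L.two hp h4 (fun e => h5 1 (one_mem _) 1 (one_mem _) (by rw [e]; group)) h8 with e | e
  · rwa [mul_inv_eq_one, mul_inv_eq_iff_eq_mul] at e
  · refine (h5 _ (h7 (h6 x hx)) _ (h7 (h6 y hy)) ?_).elim
    rw [← e, ← mul_inv_cancel_left g⁻¹ (x * y * x⁻¹ * y⁻¹), ZG_comm h8 (inv_mem (inv_mem hg))]
    group

variable (hV : ∀ v, v ∈ V ↔ v ∈ D ∧ v * v = 1)
include hV

omit H A in
theorem L7.sig' (hZ : ZG X ≤ D) (hT : V ≤ X.T) (h4 : ¬ (ZG X).relIndex V ≤ 4) :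
    ¬ Hf X (Sg X (Uv X V)) ∧ ∃ a ∈ Ps X D, ∃ b ∈ Ps X D, pr X a b = 0 :=
  let ⟨h1, a, ha, b, hb, h2⟩ := L.sig (Uv X V) (fun u hu => (hV _).2 ⟨hZ ((tv_mem_ZG hp).2 hu), tv_sq u⟩)
    fun h => h4 (h.le hp hT fun v hv => ((hV v).1 hv).2)
  ⟨h1, a, ⟨ha.1, ((hV _).1 ha.2).1⟩, b, ⟨hb.1, ((hV _).1 hb.2).1⟩, h2⟩

/-- **more than four involutions modulo the centre** -/
theorem L7.toral (I : Inn X e w) [Finite ↥(GF F G)]
    {M : Ideal AlgInt} (hM : IsPModular 2 M) {B : Set (IrrCharacter ↥(GF F G))} {E : Subgroup ↥(GF F G)}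
    (hB : IsPBlock M B) (hE : IsDefectGroup 2 M B E) (hD : D = E.map (GF F G).subtype)
    (h4 : ¬ (ZG X).relIndex V ≤ 4) : Toral X D := by
  have hVD : V ≤ D := fun v hv => ((hV v).1 hv).1
  obtain ⟨h1, a, ha, b, hb, h2⟩ := L.sig' hp hV H.zD (fun v hv => L.memT hp H A (hVD hv) ((hV v).1 hv).2) h4
  have h3 := L.ab hp H A ha hb h2
  obtain ⟨c, hc, -, h5⟩ := A.le
  obtain ⟨k1, k2⟩ := boxTA X hp L.toLS
  have hr : ∀ a ∈ Ps X D, X.Rt a := fun _ h => h.1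
  have : Finite D := Finite.of_injective _ (inclusion_injective H.DH)
  have h7 : Pe X (Ps X D) ⊆ Sg X (Uv X V) := fun x hx => ⟨hx.1, fun u hu => by
    rcases L.cases hp H A (hVD hu) (tv_sq u) with e | ⟨a, ha, e⟩
    · exact (tv_mem_ZG hp).1 e x hx.1
    · have h7 := (tv_mem_ZG hp).1 (show tv X (u + X.cor a) ∈ ZG X by rwa [tv_add]) x hx.1
      rwa [dotProduct_add, show X.wt x ⬝ᵥ X.cor a = 0 from ((mem_Pe hr).1 hx).2 a ha, add_zero] at h7,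
    fun h => two_ne_zero ((pr_self hx.1).symm.trans (((mem_Pe hr).1 hx).2 x ⟨hx.1, hVD h⟩))⟩
  obtain ⟨g, hg, h6⟩ := (k2 _ (fun _ h => h.1) (k1 _ hr)).2.2 (fun h => h1 (h.mono h7))
    ((fun d => c⁻¹ * d * c) '' D) ((Set.toFinite _).image _) (by rintro _ ⟨d, hd, rfl⟩; exact h5 d hd)
    (by rintro _ ⟨d, hd, rfl⟩; exact (H.el d hd).imp fun _ e => Ev.conj_pow' e)
    (by rintro _ ⟨d, hd, rfl⟩ _ ⟨d', hd', rfl⟩; exact Ev.conj_comm (h3 d hd d' hd'))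
  refine toral_blk hM hB hE hD (fun X' => L7 X' ∧ (∃ w, Inn X' e w) ∧ ZG X' = ZG X)
    (fun _ _ hy hN k => ⟨k.1.conj hy hN, k.2.1.elim fun _ i => ⟨_, i.conj hy hN⟩, (ZG_conj hy hN).trans k.2.2⟩)
    (fun X' ⟨L', ⟨_, I'⟩, e⟩ hT hS => boxSat X' hp L'.sl D hT H.el fun h =>
      (L'.sig' hp hV (e ▸ H.zD) (hVD.trans hT) (e ▸ h4)).1 (h.mono (sz_sub hp L'.toLS I' hS H.DH hVD)))
    ⟨L, ⟨w, I⟩, rfl⟩ (mul_mem hc (Lp_le_G hg)) fun d hd => ?_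
  rw [show (c * g)⁻¹ * d * (c * g) = g⁻¹ * (c⁻¹ * d * c) * g by group]
  exact h6 _ ⟨d, hd, rfl⟩

/-- **the special configuration** -/
theorem L7.sp (hb : 32 < Nat.card D) (h4 : (ZG X).relIndex V ≤ 4) :
    ∃ α β, Sp X D C Γ α β := by
  have a := boxG Y _ _ D C Γ H
  obtain ⟨W, hW⟩ := a.exW
  obtain ⟨z, hz, z1, z2⟩ := L.exz hp
  have hVD : V ≤ D := fun v hv => ((hV v).1 hv).1
  have hWD : W ≤ D := fun v hv => ((hW v).1 hv).1
  have h2 : ∀ v ∈ V, v * v ∈ ZG X := fun v hv => ((hV v).1 hv).2 ▸ one_mem _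
  have hVW : V ≤ W := fun v hv => (hW v).2 ⟨hVD hv, h2 v hv⟩
  have hZV : ZG X ≤ V := fun t ht => (hV t).2 ⟨H.zD ht, L.sq ht⟩
  have iZ : Iv Γ (ZG X) := fun x hx t ht => by rwa [ZG_comm ht (H.le hx).1, mul_inv_cancel_right]
  have iV : Iv Γ V := fun x hx v hv => (hV _).2 ⟨H.iv x hx v (hVD hv), by rw [conj_mul, ((hV v).1 hv).2]; group⟩
  have iW : Iv Γ W := fun x hx v hv => (hW _).2 ⟨H.iv x hx v (hWD hv), by rw [conj_mul]; exact iZ x hx _ ((hW v).1 hv).2⟩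
  have s2 : Sec (ZG X) D Γ V W := ⟨hZV, hVW, hWD, iV, iW⟩
  have hc : ∀ x ∈ Γ, Un x (ZG X) V → Un x V W → x ∈ C := fun x hx h1 h2 =>
    a.mem x hx fun d hd e => a.up x hx V W hVD hWD h1 h2 d ((hW d).2 ⟨hd, e⟩)
  have := H.fin
  rcases boxAn Y z V W (Finite.of_injective _ (inclusion_injective (hWD.trans H.DH))) hVW (hZV hz) z1
    (fun w hw => z2 _ ((hW w).1 hw).2) (fun x hx y hy => (z2 _ (H.comm (H.DC (hWD hx)) (hWD hy))).imp
      (fun e => by rwa [mul_inv_eq_one, mul_inv_eq_iff_eq_mul] at e) fun e => by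
        rw [ZG_comm hz (H.DH (hWD (mul_mem hy hx))).1, ← e]; group)
    (fun v => ⟨fun h => ⟨hVW h, ((hV v).1 h).2⟩, fun h => (hV v).2 ⟨hWD h.1, h.2⟩⟩)
    (fun v hv w hw => L.cen hp H A (hVD hv) ((hV v).1 hv).2 (hWD hw)) with h | ⟨h, n1, n2⟩
  · obtain ⟨x, hx, h1, h3⟩ := a.four _ V ⟨le_rfl, hZV, hVD, iZ, iV⟩ (by omega) h2
    exact (h3 (hc x hx h1 (a.two V W s2 (by omega) x hx))).elim
  obtain ⟨b, b1, b2, b3⟩ := a.four V W s2 (by omega) fun w hw => hZV ((hW w).1 hw).2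
  obtain ⟨v, hv, h3⟩ : ∃ v ∈ V, b * v * b⁻¹ * v⁻¹ ∉ ZG X := by
    by_contra h3
    exact b3 (hc b b1 (fun v hv => by_contra fun e => h3 ⟨v, hv, e⟩) b2)
  obtain ⟨x, hx, x1⟩ : ∃ x ∈ W, x ∉ V := by
    by_contra h3
    rw [relIndex_eq_one.2 fun x hx => by_contra fun e => h3 ⟨x, hx, e⟩] at h
    omega
  have h5 : ∀ a ∈ Ps X D, ∀ c ∈ Ps X D, pr X a c ≠ 0 := fun a ha c hc e =>
    let ⟨y, hy, n⟩ := n1 x hx x1
    n (L.ab hp H A ha hc e x (hWD hx) y (hWD hy))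
  obtain ⟨α, hα, h6⟩ := (L.cases hp H A (hVD hv) ((hV v).1 hv).2).resolve_left fun e =>
    h3 (mul_mem (iZ b b1 v e) (inv_mem e))
  obtain ⟨γ, hγ, h7⟩ := (L.cases hp H A (hVD (iV b b1 v hv)) ((hV _).1 (iV b b1 v hv)).2).resolve_left fun e =>
    h3 (mul_mem e (inv_mem (by simpa [mul_assoc] using iZ _ (inv_mem b1) _ e)))
  obtain ⟨β, hβ, ab⟩ : ∃ β ∈ Ps X D, pr X α β = -1 := by
    have h8 : ¬ (α = γ ∨ α = -γ) := fun e => h3 (by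
      have h8 := mul_mem h7 (inv_mem h6)
      rwa [ct_eq hγ.1 e, _root_.mul_inv_rev, mul_assoc, mul_inv_cancel_left] at h8)
    have h9 := L.bd hα.1 hγ.1 (fun e => h8 (.inl e)) fun e => h8 (.inr e)
    have h10 := h5 α hα γ hγ
    by_cases e : pr X α γ = -1
    · exact ⟨γ, hγ, e⟩
    · exact ⟨-γ, ⟨hγ.1.neg, (ct_neg' hγ.1).symm ▸ hγ.2⟩, by
        unfold pr at *
        rw [X.cor_neg hγ.1, dotProduct_neg]
        omega⟩
  have ba : pr X β α = -1 := (L.symm hβ.1 hα.1).trans ab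
  have h8 := cor_add hα.1 hβ.1 (pr_eq hβ.1 α ▸ ab) (pr_eq hα.1 β ▸ ba)
  have h9 : ct X (α + β) (-1) = ct X α (-1) * ct X β (-1) := by rw [← tv_cor, h8, tv_add]; rfl
  have hδ : α + β ∈ Ps X D := ⟨by
    have : X.Rt (X.act (X.rf α) β) := hβ.1.act _
    rwa [X.act_rf hα.1, ← pr_eq hα.1, ba, neg_one_smul, sub_neg_eq_add, add_comm] at this, h9 ▸ mul_mem hα.2 hβ.2⟩
  refine ⟨α, β, H, hα.1, hβ.1, ab, hα.2, hβ.2, fun v hv e => ?_, fun d hd => ?_,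
    ⟨x, hWD hx, ((hW x).1 hx).2, fun e => x1 ((hV x).2 ⟨hWD hx, e⟩)⟩, fun x hx e1 e2 => ?_,
    fun x hx y hy e1 e2 e3 w hw e4 => ?_,
    ⟨b, b1, fun w hw e => ((hV _).1 (b2 w ((hW w).2 ⟨hw, e⟩))).2, v, hVD hv, ((hV v).1 hv).2, h3⟩, hb⟩
  · refine (L.cases hp H A hv e).imp_right fun ⟨c, hc, h10⟩ => ?_
    by_cases e1 : c = α ∨ c = -α
    · exact .inl (ct_eq hα.1 e1 ▸ h10)
    by_cases e2 : c = β ∨ c = -β
    · exact .inr (.inl (ct_eq hβ.1 e2 ▸ h10))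
    by_cases e3 : c = α + β ∨ c = -(α + β)
    · exact .inr (.inr (by rwa [mul_assoc, ← h9, ← ct_eq hδ.1 e3]))
    rw [not_or] at e1 e2 e3
    have k1 := L.bd hc.1 hα.1 e1.1 e1.2
    have k2 := L.bd hc.1 hβ.1 e2.1 e2.2
    have k3 := L.bd hc.1 hδ.1 e3.1 e3.2
    have k4 := h5 c hc α hα
    have k5 := h5 c hc β hβ
    have k6 := h5 c hc _ hδ
    unfold pr at *
    rw [h8, dotProduct_add] at k3 k6
    omega
  · obtain ⟨c, hc, k1, k2⟩ := A.le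
    have hr : ∀ a ∈ ({α, β} : Set _), a ∈ Ps X D := by rintro _ (rfl | rfl); exacts [hα, hβ]
    have k3 : X.Sz {ct X α (-1), ct X β (-1)} = Pe X {α, β} := Set.ext fun a =>
      ⟨fun h => L.sz α β a hα.1 hβ.1 ab h.1 ((χ_tv hp a _).1 (h.2 _ (.inl rfl))) ((χ_tv hp a _).1 (h.2 _ (.inr rfl))),
      fun h => ⟨h.1, by
        have k3 := ((mem_Pe fun a ha => (hr a ha).1).1 h).2
        rintro _ (rfl | rfl)
        exacts [(χ_tv hp a _).2 (Dvd.intro 0 (k3 α (.inl rfl)).symm), (χ_tv hp a _).2 (Dvd.intro 0 (k3 β (.inr rfl)).symm)]⟩⟩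
    have k4 := X.conj_mem_cen (Z := {ct X α (-1), ct X β (-1)}) (by rintro _ (rfl | rfl) <;> exact ct_mem _ _) hc
      (by rintro _ (rfl | rfl); exacts [(k1 α hα).symm, (k1 β hβ).symm]) (c := c⁻¹ * d * c)
      (by rw [Datum.cen, k3]; exact Lp_anti hr (k2 d hd))
    rwa [Datum.cen, k3, show c * (c⁻¹ * d * c) * c⁻¹ = d by group] at k4
  · obtain ⟨y, hy, n⟩ := n1 x ((hW x).2 ⟨hx, e1⟩) fun e => e2 ((hV x).1 e).2
    exact ⟨y, hWD hy, ((hW y).1 hy).2, n⟩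
  · exact (n2 x ((hW x).2 ⟨hx, e1⟩) y ((hW y).2 ⟨hy, e2⟩) e3 w ((hW w).2 ⟨hw, e4⟩)).imp (fun h => ((hV _).1 h).2)
      (Or.imp (fun h => ((hV _).1 h).2) (Or.imp (fun h => ((hV _).1 h).2) fun h => ((hV _).1 h).2))

end Cfsg.Agent.KM.E2
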