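import Cfsg.Agent.KM.E2.Bas
import Cfsg.Agent.KM.E2.FR

/-!
# KM, `l = 2`, type `E₈` : defect groups with an involution of root type (helper13)

* `relIndex_le`, `E8.pure8` (groups);
* `E8.idx`, `E8.big`, `E8.not_gn`, `E8.exists_b`, **`E8.root`**, `E8.tor_of`, `E8.sz_sub`.
-/

set_option autoImplicit false
set_option linter.unusedSectionVars false

namespace Cfsg.Agent.KM.E2

open Cfsg Cfsg.Lie Cfsg.Agent.DL Cfsg.Agent.Nodes.Reps Cfsg.Agent.Nodes.BNOf Matrix Subgroup Cfsg.Agent.KM.Ht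
open Cfsg.Agent.KM.Tor
open Cfsg.Agent.TO.X5 (ct Lg ct_mem conj_ct)
open Cfsg.Agent.KM.Ev (Pe Lp conj_comm conj_pow')

namespace E8

section Grp

variable {Y : Type} [Group Y] {H D C Γ V W : Subgroup Y}

theorem relIndex_le (l : List Y) (h : ∀ w ∈ W, ∃ a ∈ l, a * w ∈ V) : V.relIndex W ≤ l.length := by
  classical
  choose f h1 h2 using fun q : W ⧸ V.subgroupOf W => h _ q.out.2
  refine (Nat.card_le_card_of_injective (β := l.toFinset) (fun q => ⟨f q, List.mem_toFinset.2 (h1 q)⟩)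
    fun q r e => ?_).trans ((Nat.card_eq_finsetCard _).trans_le l.toFinset_card_le)
  rw [← q.out_eq, ← r.out_eq]
  refine Quotient.sound' (QuotientGroup.leftRel_apply.2 ?_)
  have := mul_mem (inv_mem (h2 q)) (h2 r)
  rwa [show f q = f r from congrArg Subtype.val e, _root_.mul_inv_rev, mul_assoc, inv_mul_cancel_left] at this

theorem ab (L : Lz H ⊥ D C Γ) {a b : Y} (ha : a ∈ D) (hb : b ∈ D) : a * b = b * a :=
  mul_inv_eq_iff_eq_mul.1 (mul_inv_eq_one.1 (((L.mem a).1 (L.DC ha)).2 b hb))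

theorem pel (L : Lz H ⊥ D C Γ) : El 2 (D : Set Y) := fun d hd => (L.pg ⟨d, hd⟩).imp fun _ => congrArg Subtype.val

theorem fin (L : Lz H ⊥ D C Γ) (h : V ≤ D) : Finite V :=
  have := L.fin
  Finite.of_injective _ (inclusion_injective (h.trans (L.DC.trans (L.CΓ.trans L.le))))

theorem iv_bot : Iv Γ ⊥ := fun x _ v hv => by rw [mem_bot.1 hv, mul_one, mul_inv_cancel]; exact one_mem _

theorem exists_om (A : Act ⊥ D C Γ) : ∃ W : Subgroup Y, ∀ d, d ∈ W ↔ d ∈ D ∧ d * d = 1 := A.exW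

variable (hW : ∀ d, d ∈ W ↔ d ∈ D ∧ d * d = 1)
include hW

theorem iv_om (L : Lz H ⊥ D C Γ) : Iv Γ W := fun x hx v hv =>
  (hW _).2 ⟨L.iv x hx v ((hW v).1 hv).1, by rw [conj_mul, ((hW v).1 hv).2, mul_one, mul_inv_cancel]⟩

theorem faith (L : Lz H ⊥ D C Γ) (A : Act ⊥ D C Γ) (h1 : V ≤ W) (h2 : Iv Γ V) (h3 : V.relIndex W ≤ 3) {x : Y} (hx : x ∈ Γ)
    (h : Un x ⊥ V) : x ∈ C :=
  have h4 : W ≤ D := fun d hd => ((hW d).1 hd).1
  A.mem x hx fun d hd e => A.up x hx V W (h1.trans h4) h4 h (A.two V W ⟨bot_le, h1, h4, h2, iv_om hW L⟩ h3 x hx) d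
    ((hW d).2 ⟨hd, e⟩)

omit hW in
theorem exists_four {j : ℕ} {d : Y} (hd : d ∈ D) (h1 : d ^ 2 ^ j = 1) (h2 : d * d ≠ 1) :
    ∃ e ∈ D, e * e ≠ 1 ∧ e * e * (e * e) = 1 := by
  induction j generalizing d with
  | zero => exact (h2 (by rw [pow_zero, pow_one] at h1; rw [h1, mul_one])).elim
  | succ j ih =>
    by_cases h : d * d * (d * d) = 1
    · exact ⟨d, hd, h2, h⟩
    · exact ih (mul_mem hd hd) (by rwa [← sq, ← pow_mul, ← pow_succ']) h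

/-- rank three -/
theorem pure8 (L : Lz H ⊥ D C Γ) (A : Act ⊥ D C Γ) (h1 : Nat.card W ≤ 15) (h2 : 16 < Nat.card D) : Nat.card W = 8 ∧
    (∀ v ∈ W, ∃ d ∈ D, v = d * d) ∧ ∀ v ∈ W, (∀ x ∈ Γ, x * v * x⁻¹ = v) → v = 1 := by
  have h4 : W ≤ D := fun d hd => ((hW d).1 hd).1
  obtain ⟨h5, h6⟩ := A.eight ⊥ W ⟨le_rfl, bot_le, h4, iv_bot, iv_om hW L⟩ (by rwa [relIndex_bot_left])
    (fun w hw => ((hW w).1 hw).2) fun x hx => faith hW L A le_rfl (iv_om hW L) (by rw [relIndex_self]; decide) hx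
  rw [relIndex_bot_left] at h5
  refine ⟨h5, fun v hv => ?_, fun v hv h => by_contra fun e => ?_⟩
  · by_cases e : v = 1
    · exact ⟨1, one_mem _, by rw [e, mul_one]⟩
    obtain ⟨d, hd, h7⟩ := SetLike.not_le_iff_exists.1 fun h : D ≤ W => by
      rw [le_antisymm h h4] at h2
      omega
    obtain ⟨j, hj⟩ := pel L d hd
    obtain ⟨c, hc, h8, h9⟩ := exists_four hd hj fun h => h7 ((hW d).2 ⟨hd, h⟩)
    obtain ⟨x, hx, h10⟩ := h6 _ ((hW _).2 ⟨mul_mem hc hc, h9⟩) v hv h8 e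
    exact ⟨_, L.iv x hx c hc, by rw [conj_mul, mul_inv_eq_one.1 h10]⟩
  · have := relIndex_le (V := ⊥) (W := W) [1, v⁻¹] fun w hw => by
      by_cases e' : w = 1
      · exact ⟨1, .head _, by rw [e', mul_one]; exact one_mem _⟩
      obtain ⟨x, hx, h7⟩ := h6 v hv w hw e e'
      exact ⟨v⁻¹, .tail _ (.head _), by rw [← mul_inv_eq_one.1 h7, h x hx, inv_mul_cancel]; exact one_mem _⟩
    rw [relIndex_bot_left, h5] at this
    exact absurd this (show ¬ 8 ≤ 2 by decide)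

end Grp

variable {p : ℕ} [Fact p.Prime] {k : Type} [Field k] [CharP k p] {Y : Type} [Group Y] {N : Type} [Fintype N]
  [DecidableEq N] {ρ : Y →* GL N k} {F : MulAut Y} {G : Subgroup Y} [IsAlgClosed k] {X : Datum p ρ F G}
  {D C Γ W : Subgroup Y} {a : X.I → ℤ} {u v : X.R → ℤ} {P : Set (X.I → ℤ)} {t : Y}

theorem tv_congr (h8 : L8 X) (h : Ev X (u - v)) : tv X u = tv X v := by
  rw [← sub_add_cancel u v, tv_add, tv_of_dvd (h8.ev _ h), one_mul]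

theorem tv_sub' (u v : X.R → ℤ) : tv X (u - v) = tv X v * tv X u := by rw [sub_eq_neg_add, tv_add, tv_neg]

theorem Vr_le_T : Vr X D ≤ X.T := (closure_le _).2 fun _ ⟨_, _, e⟩ => e ▸ ct_mem _ _

theorem Vr_le_D : Vr X D ≤ D := (closure_le _).2 fun _ ⟨_, h, e⟩ => e ▸ h.2

theorem ct_Vr (ha : a ∈ Ps X D) : ct X a (-1) ∈ Vr X D := subset_closure ⟨a, ha, rfl⟩

/-- the elements of `Vr` -/
theorem exists_exp {U : AddSubgroup (X.R → ℤ)} (hU : ∀ a ∈ Ps X D, X.cor a ∈ U) (ht : t ∈ Vr X D) : ∃ u ∈ U, t = tv X u := by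
  induction ht using closure_induction with
  | mem t ht =>
    obtain ⟨a, ha, rfl⟩ := ht
    exact ⟨_, hU a ha, rfl⟩
  | one => exact ⟨0, zero_mem _, (tv_of_dvd fun _ => dvd_zero _).symm⟩
  | mul _ _ _ _ h h' =>
    obtain ⟨u, hu, rfl⟩ := h
    obtain ⟨v, hv, rfl⟩ := h'
    exact ⟨_, add_mem hu hv, (tv_add u v).symm⟩
  | inv _ _ h =>
    obtain ⟨u, hu, rfl⟩ := h
    exact ⟨u, hu, inv_eq_of_mul_eq_one_right (tv_sq u)⟩

theorem exists_tv (ht : t ∈ Vr X D) : ∃ u ∈ Uv X (Vr X D), t = tv X u := exists_exp (fun _ => ct_Vr) ht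

theorem Vr_sq (ht : t ∈ Vr X D) : t * t = 1 := let ⟨u, _, e⟩ := exists_tv ht; e ▸ tv_sq u

theorem two_mem (V : Subgroup Y) (v : X.R → ℤ) : (2 : ℤ) • v ∈ Uv X V :=
  mem_Uv.2 (by rw [tv_of_dvd (u := (2 : ℤ) • v) fun _ => dvd_mul_right _ _]; exact one_mem _)

theorem Uv_le (hp : p ≠ 2) {U : AddSubgroup (X.R → ℤ)} (h2 : ∀ v, (2 : ℤ) • v ∈ U) (hU : ∀ a ∈ Ps X D, X.cor a ∈ U) :
    Uv X (Vr X D) ≤ U := fun u hu => by
  obtain ⟨v, hv, e⟩ := exists_exp hU (mem_Uv.1 hu)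
  choose y hy using (tv_eq_one (X := X) hp (u := u - v)).1 (by rw [tv_sub, e, tv_sq])
  rw [← sub_add_cancel u v, show u - v = (2 : ℤ) • y from funext hy]
  exact add_mem (h2 y) hv

theorem rt_mem (hA : Ad X D) (ht : t ∈ D) (h : RT X t) : t ∈ Vr X D :=
  let ⟨_, ha, e⟩ := hA.rt t ht h
  e ▸ ct_Vr ⟨ha, e ▸ ht⟩

theorem RT.cj (L : Lz (GF F G) ⊥ D C Γ) {x : Y} (hx : x ∈ Γ) (h : RT X t) : RT X (x * t * x⁻¹) := by
  simpa only [inv_inv] using h.conj (inv_mem (L.le hx).1)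

theorem iv_Vr (L : Lz (GF F G) ⊥ D C Γ) (hA : Ad X D) : Iv Γ (Vr X D) := fun x hx _ hv =>
  (closure_le ((Vr X D).comap (MulAut.conj x).toMonoidHom)).2 (by
    rintro _ ⟨_, ha, rfl⟩
    exact rt_mem hA (L.iv x hx _ ha.2) (RT.cj L hx (rt_ct ha.1))) hv

/-- two commuting `2`-elements of a Levi subgroup -/
theorem tor2 (hp : p ≠ 2) (hTA : BoxTA) (h : LS X) (hP : ∀ a ∈ P, X.Rt a) {y z : Y} (hy : y ∈ Lp X P) (hz : z ∈ Lp X P)
    {i j : ℕ} (h1 : y ^ 2 ^ i = 1) (h2 : z ^ 2 ^ j = 1) (h3 : y * z = z * y) :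
    ∃ g ∈ Lp X P, g⁻¹ * y * g ∈ X.T ∧ g⁻¹ * z * g ∈ X.T := by
  have hL : ∀ a ∈ P, Lg X a := fun a ha => h.lg (hP a ha)
  obtain ⟨g, hg, h4⟩ := Ev.toral_Lp hp hL hy (not_dvd_ord Nat.prime_two hp.symm h1)
  obtain ⟨Z, z0, z1, -, z3, -⟩ := Ev.exists_Zp hp hL
  have h5 := ((hTA X hp h).2 _ (fun _ h => h.1) ((hTA X hp h).1 P hP)).1 _ (mul_mem (mul_mem (inv_mem hg) hz) hg) _ h4
    (conj_comm h3)
  rw [← z3, Set.inter_comm, ← One.Sz_insert] at h5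
  have h6 := Set.insert_subset h4 z1
  obtain ⟨c, hc, h7⟩ := toral_cen h6 (z0.insert _) h5 (not_dvd_ord Nat.prime_two hp.symm (conj_pow' h2))
  have e : ∀ d : Y, (g * c)⁻¹ * d * (g * c) = c⁻¹ * (g⁻¹ * d * g) * c := fun _ => by group
  refine ⟨g * c, mul_mem hg (sup_le_sup_left (RGD.Sup_mono (S' := Pe X P) (z3 ▸ Sz_anti (Set.subset_insert _ _))) _ hc),
    ?_, e z ▸ h7⟩
  rwa [e, mul_assoc, X.cen_le_centralizer h6 hc _ (.inl rfl), inv_mul_cancel_left]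

variable (hp : p ≠ 2) (h8 : L8 X) (L : Lz (GF F G) ⊥ D C Γ) (hA : Ad X D)
include hp h8 L hA

/-- the involutions of root type generate a subgroup of index at most two -/
theorem idx (hTA : BoxTA) (hW : ∀ d, d ∈ W ↔ d ∈ D ∧ d * d = 1) (ha : a ∈ Ps X D) : (Vr X D).relIndex W ≤ 2 := by
  obtain ⟨c, hc, h1, h2⟩ := hA.le
  by_cases h3 : W ≤ Vr X D
  · exact (relIndex_eq_one.2 h3).trans_le one_le_two
  obtain ⟨s, hs, h3⟩ := SetLike.not_le_iff_exists.1 h3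
  refine relIndex_le [1, s] fun r hr => by_contra fun h4 => ?_
  obtain ⟨r1, r2⟩ := (hW r).1 hr
  obtain ⟨s1, s2⟩ := (hW s).1 hs
  obtain ⟨g, hg, h5, h6⟩ := tor2 hp hTA h8.toLS (fun _ h => h.1) (h2 s s1) (h2 r r1) (i := 1) (j := 1)
    (conj_pow' ((sq s).trans s2)) (conj_pow' ((sq r).trans r2)) (conj_comm (ab L s1 r1))
  have e : ∀ d : Y, g⁻¹ * (c⁻¹ * d * c) * g = (c * g)⁻¹ * d * (c * g) := fun _ => by group
  rw [e] at h5 h6
  have h7 := mul_mem hc (Ev.Lp_le_G hg)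
  have h9 : ct X a (-1) * (c * g) = c * g * ct X a (-1) := by
    rw [← mul_assoc, ← h1 a ha, mul_assoc, Ev.Lp_comm ha.1 ha hg, mul_assoc]
  generalize c * g = h at h5 h6 h7 h9
  have key : ∀ d ∈ D, ∀ u, h⁻¹ * d * h = tv X u → 2 ∣ X.wt a ⬝ᵥ u → d ∈ Vr X D := fun d hd u e h10 => by
    rcases h8.qf1 a u ha.1 h10 with h11 | h11
    · exact rt_mem hA hd (.of_conj h7 (e ▸ (h8.rt_iff hp).2 h11))
    · refine (Subgroup.mul_mem_cancel_right _ (ct_Vr ha)).1 (rt_mem hA (mul_mem hd ha.2) (.of_conj h7 ?_))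
      rw [mul_assoc, mul_assoc, h9, ← mul_assoc, ← mul_assoc, e, ← tv_cor, ← tv_add]
      exact (h8.rt_iff hp).2 h11
  obtain ⟨u, hu⟩ := exists_inv h5 (by rw [← sq]; exact conj_pow' ((sq s).trans s2))
  obtain ⟨v, hv⟩ := exists_inv h6 (by rw [← sq]; exact conj_pow' ((sq r).trans r2))
  have k1 := mt (key s s1 u hu) h3
  have k2 := mt (key r r1 v hv) fun e => h4 ⟨1, .head _, by rwa [one_mul]⟩
  refine h4 ⟨s, .tail _ (.head _), key _ (mul_mem s1 r1) (u + v) (by rw [tv_add, ← hu, ← hv]; group) ?_⟩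
  rw [dotProduct_add]
  omega

/-- at least sixteen elements -/
theorem big (hf : ∀ x ∈ Γ, Un x ⊥ (Vr X D) → x ∈ C) (A : Act ⊥ D C Γ) (ha : a ∈ Ps X D) : 15 < Nat.card (Vr X D) := by
  by_contra! h1
  obtain ⟨h2, h3⟩ := A.eight ⊥ (Vr X D) ⟨le_rfl, bot_le, Vr_le_D, iv_bot, iv_Vr L hA⟩ (by rwa [relIndex_bot_left])
    (fun w hw => Vr_sq hw) hf
  rw [relIndex_bot_left] at h2
  obtain ⟨u, h4, h5⟩ := exists_basis (n := 3) Vr_le_T (fun _ => Vr_sq) h2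
  have h6 : ∀ ε : Fin 3 → ℤ, (¬ ∀ i, 2 ∣ ε i) → Ns X (ε 0 • u 0 + ε 1 • u 1 + ε 2 • u 2) := fun ε hε => by
    obtain ⟨x, hx, e⟩ := h3 _ (ct_Vr ha) _ ((h4 _).2 ⟨ε, rfl⟩) (fun e => h8.ct_not hp ha.1 (mem_bot.1 e ▸ one_mem _))
      fun e => hε (h5 ε e)
    rw [← Fin.sum_univ_three fun i => ε i • u i, ← h8.rt_iff hp, ← mul_inv_eq_one.1 e]
    exact RT.cj L hx (rt_ct ha.1)
  have h7 : ∀ {x y : X.R → ℤ}, Ns X x → Ev X (y - x) → Ns X y := fun ⟨b, hb, e⟩ e' =>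
    ⟨b, hb, by simpa only [sub_add_sub_cancel] using e'.add e⟩
  obtain ⟨b, hb, e1⟩ := h6 ![1, 0, 0] (by decide)
  obtain ⟨c, hc, e2⟩ := h6 ![0, 1, 0] (by decide)
  obtain ⟨d, hd, e3⟩ := h6 ![0, 0, 1] (by decide)
  refine h8.qf2 b c d hb hc hd (h7 (h6 ![1, 1, 0] (by decide)) ?_) (h7 (h6 ![1, 0, 1] (by decide)) ?_)
    (h7 (h6 ![0, 1, 1] (by decide)) ?_) (h7 (h6 ![1, 1, 1] (by decide)) ?_)
  · convert (e1.add e2).neg using 1
    simp only [cons_val_zero, cons_val_one, cons_val]; module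
  · convert (e1.add e3).neg using 1
    simp only [cons_val_zero, cons_val_one, cons_val]; module
  · convert (e2.add e3).neg using 1
    simp only [cons_val_zero, cons_val_one, cons_val]; module
  · convert ((e1.add e2).add e3).neg using 1
    simp only [cons_val_zero, cons_val_one, cons_val]; module

omit hp L hA in
theorem not_gn (h : 15 < Nat.card (Vr X D)) : ¬ Gn X 3 (Uv X (Vr X D)) := fun ⟨u, hu⟩ => by
  have h1 : (Vr X D : Set Y) ⊆ Set.range fun ε : Fin 3 → Fin 2 => tv X (∑ i, ((ε i : ℕ) : ℤ) • u i) := fun t ht => by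
    obtain ⟨v, hv, rfl⟩ := exists_tv ht
    obtain ⟨ε, e⟩ := hu v hv
    refine ⟨fun i => ⟨(ε i % 2).toNat, by omega⟩, tv_congr h8 ?_⟩
    convert (e.add (ev_two (∑ i, (ε i / 2) • u i))).neg using 1
    rw [Finset.smul_sum, sub_add, neg_sub, ← Finset.sum_sub_distrib]
    refine congrArg (· - v) (Finset.sum_congr rfl fun i _ => ?_)
    rw [smul_smul, ← sub_smul]
    exact congrArg (· • u i) (by simp only; omega)
  have h2 := (Nat.card_mono (Set.finite_range _) h1).trans (Finite.card_range_le _)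
  rw [Nat.card_fun, Nat.card_fin, Nat.card_fin] at h2
  exact absurd (h.trans_le h2) (by decide)

/-- an element which acts without fixed points on the radical -/
theorem exists_b (hf : ∀ x ∈ Γ, Un x ⊥ (Vr X D) → x ∈ C) (A : Act ⊥ D C Γ) (h : D4c X (Uv X (Vr X D))) :
    ∃ b ∈ Γ, ∀ r ∈ Vr X D, ¬ RT X r → b * r * b⁻¹ = r → r = 1 := by
  obtain ⟨r, hr, s, hs, h1⟩ := h.rad
  obtain ⟨x, hx, y, hy, h2⟩ := h.quo
  let R : Subgroup Y :=
    { carrier := {t | ∃ i j : ℤ, t = tv X (i • r + j • s)}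
      one_mem' := ⟨0, 0, (tv_of_dvd fun _ => by simp).symm⟩
      mul_mem' := by
        rintro _ _ ⟨i, j, rfl⟩ ⟨m, n, rfl⟩
        exact ⟨i + m, j + n, by rw [← tv_add]; congr 1; module⟩
      inv_mem' := by
        rintro _ ⟨i, j, rfl⟩
        exact ⟨i, j, inv_eq_of_mul_eq_one_right (tv_sq _)⟩ }
  have h3 : ∀ u ∈ Uv X (Vr X D), ¬ Ns X u → tv X u = 1 ∨ tv X u = tv X r ∨ tv X u = tv X s ∨ tv X u = tv X (r + s) :=
    fun u hu e => ((h1 u hu).1 e).imp (fun e => tv_of_dvd (h8.ev _ e)) (.imp (tv_congr h8) (.imp (tv_congr h8)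
      fun e => tv_congr h8 (by rwa [← sub_sub])))
  have h4 : ∀ t, t ∈ R ↔ t ∈ Vr X D ∧ ¬ RT X t := fun t => ⟨by
    rintro ⟨i, j, rfl⟩
    have h5 := add_mem (zsmul_mem hr i) (zsmul_mem hs j)
    refine ⟨h5, fun e => (h1 _ h5).2 ?_ ((h8.rt_iff hp).1 e)⟩
    have h6 := ev_two (X := X) ((i / 2) • r + (j / 2) • s)
    rcases Int.emod_two_eq_zero_or_one i with e1 | e1 <;> rcases Int.emod_two_eq_zero_or_one j with e2 | e2
    · exact .inl (by convert h6 using 1; match_scalars <;> omega)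
    · exact .inr (.inr (.inl (by convert h6 using 1; match_scalars <;> omega)))
    · exact .inr (.inl (by convert h6 using 1; match_scalars <;> omega))
    · exact .inr (.inr (.inr (by convert h6 using 1; match_scalars <;> omega))), fun ⟨h5, h6⟩ => by
    obtain ⟨u, hu, rfl⟩ := exists_tv h5
    rcases h3 u hu (mt (h8.rt_iff hp).2 h6) with e | e | e | e <;> rw [e]
    exacts [one_mem _, ⟨1, 0, by simp⟩, ⟨0, 1, by simp⟩, ⟨1, 1, by simp⟩]⟩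
  have h5 : R ≤ Vr X D := fun t ht => ((h4 t).1 ht).1
  have h6 : Iv Γ R := fun z hz t ht => (h4 _).2 ⟨iv_Vr L hA z hz t (h5 ht), fun e => ((h4 t).1 ht).2 (by
    simpa only [mul_assoc, inv_mul_cancel, mul_one, inv_mul_cancel_left] using e.conj (L.le hz).1)⟩
  obtain ⟨b, hb, h7, h9⟩ := A.four R (Vr X D) ⟨bot_le, h5, Vr_le_D, h6, iv_Vr L hA⟩
    ((relIndex_le [1, tv X x, tv X y, tv X (x + y)] fun w hw => by
      obtain ⟨u, hu, rfl⟩ := exists_tv hw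
      have h7 : ∀ v ∈ Uv X (Vr X D), ¬ Ns X (u - v) → tv X v * tv X u ∈ R := fun v hv e =>
        (h4 _).2 ⟨mul_mem hv hu, tv_sub' u v ▸ mt (h8.rt_iff hp).1 e⟩
      rcases h2 u hu with e | e | e | e
      · exact ⟨1, by simp, by rw [one_mul]; exact (h4 _).2 ⟨hu, mt (h8.rt_iff hp).1 e⟩⟩
      · exact ⟨_, by simp, h7 x hx e⟩
      · exact ⟨_, by simp, h7 y hy e⟩
      · exact ⟨_, by simp, h7 _ (add_mem hx hy) (by rwa [← sub_sub])⟩).trans (show 4 ≤ 7 by decide))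
    fun w hw => Vr_sq hw ▸ one_mem _
  refine ⟨b, hb, fun t ht h10 e => A.fpf ⊥ R ⟨le_rfl, bot_le, h5.trans Vr_le_D, iv_bot, h6⟩
    ((relIndex_le [1, tv X r, tv X s, tv X (r + s)] fun w hw => ?_).trans (show 4 ≤ 7 by decide)) b hb
    (fun h11 => h9 (hf b hb (A.up b hb _ _ (h5.trans Vr_le_D) Vr_le_D h11 h7))) t ((h4 t).2 ⟨ht, h10⟩)
    (by rw [e, mul_inv_cancel]; exact one_mem _)⟩
  obtain ⟨u, hu, rfl⟩ := exists_tv (h5 hw)
  rcases h3 u hu (mt (h8.rt_iff hp).2 ((h4 _).1 hw).2) with e | e | e | e <;> rw [e]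
  exacts [⟨1, by simp, mul_one 1⟩, ⟨_, by simp, tv_sq r⟩, ⟨_, by simp, tv_sq s⟩, ⟨_, by simp, tv_sq (r + s)⟩]

/-- **an involution of root type** -/
theorem root (hTA : BoxTA) (hD4 : BoxD4) (A : Act ⊥ D C Γ) (ha : a ∈ Ps X D) :
    Toral X D ∨ ¬ Hf X (Sg X (Uv X (Vr X D))) := by
  obtain ⟨W, hW⟩ := exists_om A
  have hf : ∀ x ∈ Γ, Un x ⊥ (Vr X D) → x ∈ C := fun x hx => faith hW L A (fun t ht => (hW t).2 ⟨Vr_le_D ht, Vr_sq ht⟩)
    (iv_Vr L hA) ((idx hp h8 L hA hTA hW ha).trans (by decide)) hx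
  refine or_not_of_imp fun h => ?_
  have h1 := h8.d4 _ (two_mem _) (fun _ h2 h3 => Uv_le hp h2 fun c hc => h3 c ⟨hc.1, ct_Vr hc⟩)
    (not_gn h8 (big hp h8 L hA hf A ha)) h
  obtain ⟨b, hb, h2⟩ := exists_b hp h8 L hA hf A h1
  exact hD4 X hp h8 D C Γ b L hA h1 hb h2

theorem tor_of (hTA : BoxTA) (h : ¬ Hf X (Sg X (Uv X (Vr X D)))) : ∃ g ∈ G, ∀ d ∈ D, g⁻¹ * d * g ∈ X.T := by
  obtain ⟨c, hc, -, h2⟩ := hA.le
  have h3 : ∀ a ∈ Ps X D, X.Rt a := fun _ h => h.1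
  have h4 : Pe X (Ps X D) ⊆ Sg X (Uv X (Vr X D)) := fun b hb => by
    obtain ⟨h5, h6⟩ := (mem_Pe h3).1 hb
    refine ⟨h5, fun u hu => (χ_tv hp b u).1 ?_, fun e => ?_⟩
    · refine ((closure_le (Zc X {b})).2 ?_ (mem_Uv.1 hu)).2 b rfl
      rintro _ ⟨a, ha, rfl⟩
      exact ⟨ct_mem _ _, fun _ e' => e' ▸ (χ_tv hp b _).2 (show 2 ∣ pr X b a from h6 a ha ▸ dvd_zero _)⟩
    · exact absurd ((pr_self h5).symm.trans (h6 b ⟨h5, Vr_le_D e⟩)) (by decide)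
  have := fin L le_rfl
  obtain ⟨g, hg, h5⟩ := ((hTA X hp h8.toLS).2 _ (fun _ h => h.1) ((hTA X hp h8.toLS).1 _ h3)).2.2
    (fun ⟨s, s1, s2, s3⟩ => h ⟨s, s1, fun a ha => h4 (s2 a ha), s3⟩) ((fun d => c⁻¹ * d * c) '' D)
    ((Set.toFinite (D : Set Y)).image _) (fun _ ⟨d, hd, e⟩ => e ▸ h2 d hd)
    (fun _ ⟨d, hd, e⟩ => (pel L d hd).imp fun _ h => e ▸ conj_pow' h)
    fun _ ⟨d, hd, e⟩ _ ⟨d', hd', e'⟩ => e ▸ e' ▸ conj_comm (ab L hd hd')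
  exact ⟨c * g, mul_mem hc (Ev.Lp_le_G hg), fun d hd => by
    rw [show (c * g)⁻¹ * d * (c * g) = g⁻¹ * (c⁻¹ * d * c) * g by group]
    exact h5 _ ⟨d, hd, rfl⟩⟩

omit hA in
/-- a Sylow subgroup of a torus -/
theorem sz_sub {e : ℕ} {w : X.W} (hI : Inn X e w) (hS : ∀ t ∈ X.T, F t = t → (∃ j : ℕ, t ^ 2 ^ j = 1) → t ∈ D) :
    X.Sz D ⊆ Sg X (Uv X (Vr X D)) := fun b hb => by
  refine ⟨hb.1, fun u hu => (χ_tv hp b u).1 (hb.2 _ (Vr_le_D (mem_Uv.1 hu))), fun h => ?_⟩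
  have h1 : F (ct X b (-1)) = ct X b (-1) := (L.le (L.CΓ (L.DC (Vr_le_D h)))).2
  have ho := (Fact.out : p.Prime).odd_of_ne_two hp
  rw [TO.X5.F_ct hb.1, ho.pow.neg_one_pow, (boxFR X e w h8.toLS hI).1 b hb.1] at h1
  obtain ⟨ε, h2, h3⟩ : ∃ ε : ℤ, (ε = 1 ∨ ε = -1) ∧ X.act w b = ε • b := by
    rcases h8.ct_inj hp hb.1 (hb.1.act w) (by rw [h1, Ev.ct_sq]; exact one_mem _) with e | e
    exacts [⟨1, .inl rfl, e.trans (one_smul _ _).symm⟩, ⟨-1, .inr rfl, e.trans (neg_one_smul _ _).symm⟩]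
  obtain ⟨c, hc, h4⟩ : ∃ c, X.Rt c ∧ ¬ 2 ∣ X.wt c ⬝ᵥ X.cor b := by simpa only [Ev, not_forall, exists_prop] using h8.nz b hb.1
  obtain ⟨s, hs, h5, h6⟩ := ((boxFR X e w h8.toLS hI).2 ε h2).1 {b} (X.cor c) (-1) (fun _ e => e ▸ h3)
    (Even.neg_one_zpow (Odd.sub_odd (Odd.mul (by rcases h2 with rfl | rfl <;> decide) (Odd.pow (Odd.natCast ho))) odd_one))
  have := L.fin
  have h7 : s ∈ GF F G := ⟨X.T_le_G hs, h5⟩
  obtain ⟨i, m, hm, h9⟩ := Nat.exists_eq_two_pow_mul_odd (orderOf_pos (⟨s, h7⟩ : GF F G)).ne'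
  have h10 := hb.2 _ (hS _ (pow_mem hs m) (by rw [map_pow, h5]) ⟨i, by
    rw [← pow_mul, mul_comm, ← h9]
    exact congrArg Subtype.val (pow_orderOf_eq_one (⟨s, h7⟩ : GF F G))⟩)
  rw [TO.X.Cn.χ_pow X b hs, h6 b rfl, show X.wt b ⬝ᵥ X.cor c = X.wt c ⬝ᵥ X.cor b from h8.symm hb.1 hc,
    (Int.not_even_iff_odd.1 (mt even_iff_two_dvd.1 h4)).neg_one_zpow, ← Units.val_pow_eq_pow_val, hm.neg_one_pow,
    Units.val_eq_one, ← orderOf_eq_one_iff, Ev.ord_neg hp] at h10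
  exact absurd h10 (by decide)

end E8

end Cfsg.Agent.KM.E2
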