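import Cfsg.Agent.KM.E2.Defs
import Cfsg.Agent.KM.Ev.Two
import Cfsg.Agent.KM.Ev.Q3

/-!
# KM, `l = 2`, type `E₈` : the component group of the centraliser of two elements (helper27)

* `tv`, `pu_of`, `mem_cen_of_tor`; **`boxIX`**.
-/

set_option autoImplicit false
set_option linter.unusedSectionVars false

namespace Cfsg.Agent.KM.E2

open Cfsg Cfsg.Agent.DL Cfsg.Agent.Nodes.Reps Cfsg.Agent.Nodes.BNOf Matrix Subgroup Cfsg.Agent.KM.Ht Cfsg.Agent.KM.Tor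
open Cfsg.Agent.TO.X5 (ct)
open Cfsg.Agent.KM.Ev (ord_neg coch_eq sub_cor cor_cl conj_comm conj_pow')
open Cfsg.Agent.TO.X.Cn (Pi1 cl cl_add cl_smul cl_zero χ_exp exists_exp mem_cen tr_of_dvd comm_exp mem_WZ rf_exp)

namespace P4

variable {p : ℕ} [Fact p.Prime] {k : Type} [Field k] [CharP k p] {Y : Type} [Group Y] {N : Type} [Fintype N]
  [DecidableEq N] {ρ : Y →* GL N k} {F : MulAut Y} {G : Subgroup Y} [IsAlgClosed k] {X : Datum p ρ F G}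
  {u v : X.R → ℤ} {t g : Y} {V : Subgroup Y} {Z : Set Y}

variable (X) in
/-- the involution with the exponent `u` -/
noncomputable def tv (u : X.R → ℤ) : Y := X.τ (coch u (-1))

theorem tv_mem (u : X.R → ℤ) : tv X u ∈ X.T := X.τ_mem _

theorem tv_add (u v : X.R → ℤ) : tv X (u + v) = tv X u * tv X v := by rw [tv, coch_add, map_mul]; rfl

theorem tv_even (h : ∀ r, 2 ∣ u r) : tv X u = 1 := by rw [tv, Ev.Q2.coch_e2 (Ev.Q2.e2_iff.2 h), map_one]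

theorem tv_congr (h : ∀ r, 2 ∣ (u - v) r) : tv X u = tv X v := by rw [← sub_add_cancel u v, tv_add, tv_even h, one_mul]

theorem tv_smul (m : ℤ) (u : X.R → ℤ) : tv X (m • u) = tv X u ^ m := by
  rw [tv, coch_zsmul, map_zpow, map_zpow]; rfl

theorem tv_sq (u : X.R → ℤ) : tv X u * tv X u = 1 := by
  rw [← tv_add]
  exact tv_even fun r => ⟨u r, (two_mul _).symm⟩

theorem χ_tv (hp : p ≠ 2) (a : X.I → ℤ) (u : X.R → ℤ) : X.χ a (tv X u) = 1 ↔ 2 ∣ X.wt a ⬝ᵥ u := by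
  rw [tv, χ_exp, ord_neg hp]; rfl

theorem exists_tv (hp : p ≠ 2) (ht : t ∈ X.T) (h : t * t = 1) : ∃ u, t = tv X u :=
  Ex.exists_coch (ord_neg hp) Nat.prime_two ht ((sq t).trans h)

theorem pi1 (h : LS X) : Pi1 X 1 := fun y _ _ _ _ => (h.q y).imp fun _ e => by rwa [Nat.cast_one, one_smul]

theorem rt_conj (h : RT X (g⁻¹ * t * g)) (hg : g ∈ G) : RT X t :=
  let ⟨y, hy, a, ha, e⟩ := h
  ⟨g * y, mul_mem hg hy, a, ha, by rw [← e]; group⟩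

theorem pu_of (h : L8 X) {n : ℕ} {u : Fin n → X.R → ℤ} (h1 : ∀ ε : Fin n → ℤ, ¬ RT X (tv X (∑ i, ε i • u i)))
    (h2 : ∀ ε : Fin n → ℤ, tv X (∑ i, ε i • u i) = 1 → ∀ i, 2 ∣ ε i) : Pu X u := fun ε =>
  ⟨fun ⟨a, ha, e⟩ => h1 ε ⟨1, one_mem _, a, ha, by rw [inv_one, one_mul, mul_one, tv_congr (h.ev _ e)]; rfl⟩,
    fun e => h2 ε (tv_even (h.ev _ e))⟩

/-- an element which lies in a torus together with `Z` -/
theorem mem_cen_of_tor (hZ : Z ⊆ X.T) (hg : g ∈ G) (h1 : ∀ z ∈ Z, g⁻¹ * z * g ∈ X.T) (h2 : g⁻¹ * t * g ∈ X.T) :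
    t ∈ X.cen Z := by
  obtain ⟨c, hc, n, hn, -, rfl⟩ := X.exists_conj_form (s := fun z : Z => g⁻¹ * z * g) (t := fun z : Z => z.1)
    (fun z => h1 z z.2) (fun z => hZ z.2) hg fun _ => by group
  rw [Subtype.range_coe] at hc
  rw [show t = c * (n * ((c * n)⁻¹ * t * (c * n)) * n⁻¹) * c⁻¹ by group]
  exact mul_mem (mul_mem (X.S_le_cen _ hc) (X.T_le_cen _ (X.conj_mem_T hn h2))) (inv_mem (X.S_le_cen _ hc))

theorem span_cl (hZ : Z ⊆ X.T) (hF : ∀ a ∈ X.Sz Z, X.g a ∈ X.Sz Z) (h : v ∈ Submodule.span ℤ (X.cor '' X.Sz Z)) :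
    ∃ β, v = cl (X.sub hZ hF rfl) β := by
  induction h using Submodule.span_induction with
  | mem _ hv =>
    obtain ⟨a, ha, rfl⟩ := hv
    obtain ⟨c, hc, rfl⟩ := (X.io_roots Z).ge ha
    exact (cor_cl (X := X.sub hZ hF rfl) hc).imp fun _ e => (sub_cor hZ hF hc).symm.trans e
  | zero => exact ⟨0, (cl_zero (X.sub hZ hF rfl)).symm⟩
  | add _ _ _ _ h5 h6 => exact h5.elim fun β e => h6.elim fun γ e' => ⟨β + γ, by rw [cl_add, e, e']⟩
  | smul m _ _ h5 => exact h5.elim fun β e => ⟨m • β, by rw [cl_smul, e]⟩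

/-- index at most two in the lattice gives index at most two in the centraliser -/
theorem two_comp (h : ∀ v w : X.R → ℤ, (∃ β, v = cl X β) ∨ (∃ β, w = cl X β) ∨ ∃ β, v + w = cl X β) (ht : t ∈ X.T)
    {x y : Y} (hx : x ∈ G) (hy : y ∈ G) (h1 : t * x = x * t) (h2 : t * y = y * t) :
    x ∈ X.cen {t} ∨ y ∈ X.cen {t} ∨ x * y ∈ X.cen {t} := by
  have hZ := Set.singleton_subset_iff.2 ht
  obtain ⟨c, hc, m, ⟨w, hm⟩, k1, rfl⟩ := X.exists_cen_form hZ hx fun _ e => e ▸ h1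
  obtain ⟨d, hd, n, ⟨w', hn⟩, k2, rfl⟩ := X.exists_cen_form hZ hy fun _ e => e ▸ h2
  obtain ⟨ζ, v, h0, -, rfl⟩ := exists_exp X ht
  obtain ⟨μ, -, h3, -⟩ := tr_of_dvd (comm_exp X hm k1)
  obtain ⟨ν, -, h4, -⟩ := tr_of_dvd (comm_exp X hn k2)
  have h5 := Int.natCast_pos.2 h0
  refine (h μ ν).imp (fun ⟨β, e⟩ => mul_mem (X.S_le_cen _ hc) ((mem_WZ X hm).1 ((e ▸ h3).mem h5 rf_exp)))
    (Or.imp (fun ⟨β, e⟩ => mul_mem (X.S_le_cen _ hd) ((mem_WZ X hn).1 ((e ▸ h4).mem h5 rf_exp))) fun ⟨β, e⟩ => ?_)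
  rw [show c * m * (d * n) = c * (m * d * m⁻¹) * (m * n) by group]
  exact mul_mem (mul_mem (X.S_le_cen _ hc) (X.conj_mem_cen hZ (Datum.Rp.mem_G hm) k1 (X.S_le_cen _ hd)))
    ((mem_WZ X (hm.mul hn)).1 ((e ▸ h3.mul h4).mem h5 rf_exp))

end P4

open P4 in
/-- **[IX]** -/
theorem boxIX : BoxIX := by
  intro p _ k _ _ Y _ N _ _ ρ F G _ X hp h8 hP a ha b hb a2 a1 hr x hx y hy
  obtain ⟨m, hm, h3⟩ := X.amb.exists_pow_fix fun _ : Unit => a
  have hZ := Set.singleton_subset_iff.2 ha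
  have e : ∀ x ∈ G ⊓ centralizer ({a, b} : Set Y), x ∈ X.cen {a} := fun x hx =>
    mem_cen (pi1 h8.toLS) ha ((sq a).trans a2) (Nat.coprime_one_right _) hx.1 (hx.2 a (.inl rfl)).symm
  have hF := fun c => (X.pow hm).g_mem_Sz hZ (a := c) fun _ e => e ▸ h3 ()
  obtain ⟨u, rfl⟩ := exists_tv hp ha a2
  have h4 : Rn X 2 u = X.Sz {tv X u} := Set.ext fun c => and_congr_right fun _ =>
    (χ_tv hp c u).symm.trans ⟨fun h _ e => e ▸ h, fun h => h _ rfl⟩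
  have h5 := hP.p1 u (pu_of h8 (fun ε => ?_) fun ε => ?_)
  · rw [h4] at h5
    have h7 := fun v => span_cl (X := X.pow hm) (v := v) hZ hF
    have h6 := two_comp (X := (X.pow hm).sub hZ hF rfl) (fun v w => (h5 v w).imp (h7 _) (Or.imp (h7 _) (h7 _))) hb
      (e x hx) (e y hy) (hx.2 b (.inr rfl)) (hy.2 b (.inr rfl))
    rwa [RL.sub_cen, Set.union_comm] at h6
  all_goals
    rw [Fin.sum_univ_one, tv_smul, cons_val_zero]
    obtain ⟨i, hi | hi⟩ := Int.even_or_odd' (ε 0)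
  · rw [hi, _root_.zpow_mul, zpow_ofNat, sq, a2, _root_.one_zpow]
    rintro ⟨g, -, c, hc, e⟩
    refine h8.nz c hc fun d _ => (χ_tv hp d _).1 ?_
    rw [show tv X (X.cor c) = _ from e.symm, mul_one, inv_mul_cancel, X.χ_one]
  · rwa [hi, _root_.zpow_add, _root_.zpow_mul, zpow_ofNat, sq, a2, _root_.one_zpow, one_mul, _root_.zpow_one]
  · exact fun _ => Fin.forall_fin_one.2 ⟨i, hi⟩
  · rw [hi, _root_.zpow_add, _root_.zpow_mul, zpow_ofNat, sq, a2, _root_.one_zpow, one_mul, _root_.zpow_one]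
    exact fun e => (a1 e).elim

end Cfsg.Agent.KM.E2
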