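import Cfsg.Agent.KM.Tor.K7a

/-!
# KM, `l = 2`, type `E₇` : the root lattice in coordinates (helper84)
-/

set_option autoImplicit false
set_option maxRecDepth 100000
set_option synthInstance.maxSize 4000

namespace Cfsg.Agent.KM.E2.L7c

open Cfsg Cfsg.Lie Matrix Finset Module Cfsg.Agent.Nodes.RGDChev Cfsg.Agent.ChevalleyStructure.CoxeterGeomTypes
  Cfsg.Agent.Tits.Roots Cfsg.Agent.KM.Tor

abbrev V := Fin 7 → ℤ

/-- the coroot map -/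
def cc (a : V) : V := ![2 * a 0 - a 2, 2 * a 1 - a 3, 2 * a 2 - a 0 - a 3, 2 * a 3 - a 1 - a 2 - a 4, 2 * a 4 - a 3 - a 5,
  2 * a 5 - a 4 - a 6, 2 * a 6 - a 5]

/-- twice the inverse -/
def dd (v : V) : V := ![4 * v 0 + 4 * v 1 + 6 * v 2 + 8 * v 3 + 6 * v 4 + 4 * v 5 + 2 * v 6,
  4 * v 0 + 7 * v 1 + 8 * v 2 + 12 * v 3 + 9 * v 4 + 6 * v 5 + 3 * v 6,
  6 * v 0 + 8 * v 1 + 12 * v 2 + 16 * v 3 + 12 * v 4 + 8 * v 5 + 4 * v 6,
  8 * v 0 + 12 * v 1 + 16 * v 2 + 24 * v 3 + 18 * v 4 + 12 * v 5 + 6 * v 6,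
  6 * v 0 + 9 * v 1 + 12 * v 2 + 18 * v 3 + 15 * v 4 + 10 * v 5 + 5 * v 6,
  4 * v 0 + 6 * v 1 + 8 * v 2 + 12 * v 3 + 10 * v 4 + 8 * v 5 + 4 * v 6,
  2 * v 0 + 3 * v 1 + 4 * v 2 + 6 * v 3 + 5 * v 4 + 4 * v 5 + 3 * v 6]

/-- the dot product -/
def dt (a v : V) : ℤ := a 0 * v 0 + a 1 * v 1 + a 2 * v 2 + a 3 * v 3 + a 4 * v 4 + a 5 * v 5 + a 6 * v 6

/-- the form -/
def B (a b : V) : ℤ := a 0 * (2 * b 0 - b 2) + a 1 * (2 * b 1 - b 3) + a 2 * (2 * b 2 - b 0 - b 3) +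
  a 3 * (2 * b 3 - b 1 - b 2 - b 4) + a 4 * (2 * b 4 - b 3 - b 5) + a 5 * (2 * b 5 - b 4 - b 6) + a 6 * (2 * b 6 - b 5)

/-- all roots are even -/
def E (x : V) : Prop := 2 ∣ x 0 ∧ 2 ∣ x 2 ∧ 2 ∣ x 3 ∧ 2 ∣ x 5 ∧ 2 ∣ x 1 - x 4 ∧ 2 ∣ x 4 - x 6

/-- the roots -/
def R (x : V) : Prop := (x 0, x 1, x 2, x 3, x 4, x 5, x 6) ∈ K7.L7

def mk (t : ℤ × ℤ × ℤ × ℤ × ℤ × ℤ × ℤ) : V := ![t.1, t.2.1, t.2.2.1, t.2.2.2.1, t.2.2.2.2.1, t.2.2.2.2.2.1, t.2.2.2.2.2.2]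

/-- the highest root -/
def th : V := ![2, 2, 3, 4, 3, 2, 1]

/-- the class of the centre -/
def zz : V := ![0, 1, 0, 0, 1, 0, 1]

theorem dot7 (a v : V) : a ⬝ᵥ v = dt a v := by simp only [dotProduct, Fin.sum_univ_seven, dt]

theorem ext7 {a b : V} (h0 : a 0 = b 0) (h1 : a 1 = b 1) (h2 : a 2 = b 2) (h3 : a 3 = b 3) (h4 : a 4 = b 4) (h5 : a 5 = b 5)
    (h6 : a 6 = b 6) : a = b := by
  funext i
  fin_cases i
  exacts [h0, h1, h2, h3, h4, h5, h6]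

theorem eta (x : V) : x = ![x 0, x 1, x 2, x 3, x 4, x 5, x 6] := ext7 rfl rfl rfl rfl rfl rfl rfl

theorem cart : ∀ i j : Fin 7, cartanOf chevE7 7 i j = cc (sr i) j := by decide +kernel

theorem co_eq (a : V) : co chevE7 7 a = cc a := by
  funext j
  simp only [co, cart, Fin.sum_univ_seven]
  fin_cases j <;> simp [cc, sr] <;> ring

theorem dot_cc (a b : V) : a ⬝ᵥ cc b = B a b := dot7 _ _

theorem cc_dd (v : V) : cc (dd v) = (2 : ℤ) • v := by apply ext7 <;> simp [cc, dd] <;> ring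

theorem cc_inj {a b : V} (h : cc a = cc b) : a = b := by
  have h0 := congrFun h 0
  have h1 := congrFun h 1
  have h2 := congrFun h 2
  have h3 := congrFun h 3
  have h4 := congrFun h 4
  have h5 := congrFun h 5
  have h6 := congrFun h 6
  simp [cc] at h0 h1 h2 h3 h4 h5 h6
  apply ext7 <;> omega

theorem cc_add (a b : V) : cc (a + b) = cc a + cc b := by apply ext7 <;> simp [cc] <;> ring

theorem B_comm (a b : V) : B a b = B b a := by unfold B; ring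

theorem B_add (a b c : V) : B (a + b) c = B a c + B b c := by simp only [B, Pi.add_apply]; ring

theorem B_sub (a b c : V) : B (a - b) c = B a c - B b c := by simp only [B, Pi.sub_apply]; ring

theorem B_dd (v x : V) : B (dd v) x = 2 * (v ⬝ᵥ x) := by rw [B_comm, ← dot_cc, cc_dd, dotProduct_smul, dotProduct_comm]; rfl

theorem B_sr (i : Fin 7) (x : V) : B (sr i) x = cc x i := (dot_cc _ _).symm.trans (Ex.sr_dot i _)

theorem B_inj {a b : V} (h : ∀ x, B a x = B b x) : a = b :=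
  cc_inj (funext fun i => by rw [← B_sr, ← B_sr, B_comm, h, B_comm])

theorem R.all {P : V → Prop} (h : ∀ t ∈ K7.L7, P (mk t)) {x : V} (hx : R x) : P x := eta x ▸ h _ hx

theorem R_iff (x : V) : R x ↔ ∃ s < chevE7.nroots, vec chevE7 7 s = x := by
  rw [R, K7.L7_eq, List.mem_map]
  refine ⟨fun ⟨s, _, h⟩ => ⟨s, s.2, ?_⟩, fun ⟨s, hs, h⟩ => ⟨⟨s, hs⟩, List.mem_finRange _, by rw [← h]⟩⟩
  simp only [Prod.mk.injEq] at h
  exact ext7 h.1 h.2.1 h.2.2.1 h.2.2.2.1 h.2.2.2.2.1 h.2.2.2.2.2.1 h.2.2.2.2.2.2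

theorem R_sr : ∀ i, R (sr i) := by unfold R; decide +kernel

theorem E_iff (x : V) : E x ↔ ∀ i, 2 ∣ B (sr i) x := by
  simp only [B_sr, Fin.forall_fin_succ, IsEmpty.forall_iff, cc, E, cons_val_zero, cons_val_succ, and_true]
  constructor <;> intro h <;> omega

theorem E.dvd {x : V} (h : E x) (a : V) : 2 ∣ B a x := by
  rw [← dot_cc]
  exact dvd_sum fun i _ => (B_sr i x ▸ (E_iff x).1 h i).mul_left _

theorem E_zz : E zz ∧ ¬ ∀ i, 2 ∣ zz i := by unfold E; decide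

theorem E.cases {x : V} (h : E x) : (∀ i, 2 ∣ x i) ∨ ∀ i, 2 ∣ (x - zz) i := by
  simp only [Fin.forall_fin_succ, IsEmpty.forall_iff, zz, Pi.sub_apply, cons_val_zero, cons_val_succ]
  unfold E at h
  change (2 ∣ x 0 ∧ 2 ∣ x 1 ∧ 2 ∣ x 2 ∧ 2 ∣ x 3 ∧ 2 ∣ x 4 ∧ 2 ∣ x 5 ∧ 2 ∣ x 6 ∧ True) ∨ (2 ∣ x 0 - 0 ∧ 2 ∣ x 1 - 1 ∧
    2 ∣ x 2 - 0 ∧ 2 ∣ x 3 - 0 ∧ 2 ∣ x 4 - 1 ∧ 2 ∣ x 5 - 0 ∧ 2 ∣ x 6 - 1 ∧ True)
  simp only [and_true]
  omega

theorem nz0 : ∀ t ∈ K7.L7, ¬ E (mk t) := by unfold E; decide +kernel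

theorem inj0 : ∀ t ∈ K7.L7, ∀ u ∈ K7.L7, E (mk t - mk u) → mk u = mk t ∨ mk u = -mk t := by unfold E; decide +kernel

theorem inv0 : ∀ a ∈ [(0 : ℤ), 1], ∀ c ∈ [(0 : ℤ), 1], ∀ d ∈ [(0 : ℤ), 1], ∀ f ∈ [(0 : ℤ), 1], ∀ b ∈ [(0 : ℤ), 1],
    ∀ g ∈ [(0 : ℤ), 1], E ![a, b, c, d, 0, f, g] ∨ ∃ t ∈ K7.L7, E (![a, b, c, d, 0, f, g] - mk t) := by
  unfold E; decide +kernel

theorem inv1 (x : V) : E x ∨ ∃ a, R a ∧ E (x - a) := by
  have h : ∀ n : ℤ, n % 2 ∈ [(0 : ℤ), 1] := fun n => by simp only [List.mem_cons, List.not_mem_nil]; omega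
  refine (inv0 _ (h (x 0)) _ (h (x 2)) _ (h (x 3)) _ (h (x 5)) _ (h (x 1 - x 4)) _ (h (x 4 - x 6))).imp (fun e => ?_)
    fun ⟨t, ht, e⟩ => ⟨mk t, ht, ?_⟩
  · simp [E] at e ⊢
    omega
  · generalize mk t = y at e
    simp [E] at e ⊢
    omega

theorem ht0 : ∀ t ∈ K7.L7, ∑ i, mk t i ≤ 17 := by decide +kernel

theorem up1 : ∀ t ∈ K7.L7, mk t = th ∨ ∃ i, B (mk t) (sr i) < 0 := by decide +kernel

theorem up2 : ∀ t ∈ K7.L7, B th (mk t) = -1 → mk t = -sr 0 ∨ ∃ i, B (mk t) (sr i) < 0 ∧ B th (sr i) = 0 := by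
  decide +kernel

/-- the reflection -/
def rf (e x : V) : V := x - B e x • e

/-- seven orthogonal roots -/
def o7 : List V := [th, ![0, 1, 1, 2, 2, 2, 1], ![0, 1, 1, 2, 1, 0, 0], sr 1, sr 2, sr 4, sr 6]

theorem o7_R : ∀ e ∈ o7, R e := by unfold R; decide +kernel

theorem o7_neg : ∀ i, o7.foldr rf (sr i) = -sr i := by decide +kernel

theorem du0 : R ![1, 1, 2, 2, 1, 0, 0] ∧ B th ![1, 1, 2, 2, 1, 0, 0] = 1 ∧ B (-sr 0) ![1, 1, 2, 2, 1, 0, 0] = 0 := by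
  unfold R; decide +kernel

theorem pp0 : ∀ i : Fin 7, i ≠ 0 → i ≠ 2 → B (sr i) th = 0 ∧ B (sr i) (-sr 0) = 0 := by decide +kernel

theorem pp1 {v : V} (h : ∀ i : Fin 7, i ≠ 0 → i ≠ 2 → B (sr i) v = 0) : v = v 6 • th + (2 * v 6 - v 0) • -sr 0 := by
  have h1 := h 1 (by decide) (by decide)
  have h3 := h 3 (by decide) (by decide)
  have h4 := h 4 (by decide) (by decide)
  have h5 := h 5 (by decide) (by decide)
  have h6 := h 6 (by decide) (by decide)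
  simp [B_sr, cc] at h1 h3 h4 h5 h6
  apply ext7 <;> simp [th, sr] <;> omega

/-! ### the system `A₅` -/

def EE : Fin 6 → V := ![![0, 0, 0, 0, 0, 0, 0], ![0, -1, 0, 0, 0, 0, 0], ![0, -1, 0, -1, 0, 0, 0], ![0, -1, 0, -1, -1, 0, 0],
  ![0, -1, 0, -1, -1, -1, 0], ![0, -1, 0, -1, -1, -1, -1]]

/-- the roots of `A₅` -/
def c (i j : Fin 6) : V := EE i - EE j

/-- six minuscule weights -/
def ee : Fin 6 → V := ![![0, 1, -1, 0, 0, 0, 0], ![0, -1, -1, 1, 0, 0, 0], ![0, 0, 0, -1, 1, 0, 0], ![0, 0, 0, 0, -1, 1, 0],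
  ![0, 0, 0, 0, 0, -1, 1], ![0, 0, 0, 0, 0, 0, -1]]

theorem c_R : ∀ i j, i ≠ j → R (c i j) ∧ B (c i j) th = 0 ∧ B (c i j) (-sr 0) = 0 := by unfold R; decide +kernel

theorem ex_c : ∀ t ∈ K7.L7, B (mk t) th = 0 → B (mk t) (-sr 0) = 0 → ∃ i j, i ≠ j ∧ mk t = c i j := by decide +kernel

theorem cc_c : ∀ i j, cc (c i j) = ee i - ee j := by decide +kernel

theorem B_c (i j : Fin 6) (x : V) : B (c i j) x = ee i ⬝ᵥ x - ee j ⬝ᵥ x := by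
  rw [B_comm, ← dot_cc, cc_c, dotProduct_comm, sub_dotProduct]

theorem ee_c : ∀ i j k, ee i ⬝ᵥ c j k = (if i = j then 1 else 0) - if i = k then 1 else 0 := by decide +kernel

theorem ee_inj : Function.Injective ee := by decide +kernel

theorem ee_zz : ∀ i, ¬ 2 ∣ ee i ⬝ᵥ zz := by decide +kernel

theorem ee_th : ∀ i, ee i ⬝ᵥ th = -1 ∧ ee i ⬝ᵥ (-sr 0) = 0 := by decide +kernel

theorem ee_R : ∀ i, ∀ t ∈ K7.L7, ee i ⬝ᵥ mk t ∈ [(0 : ℤ), 1, -1] := by decide +kernel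

theorem min0 : ∀ b ∈ [(0 : ℤ), 1, -1], ∀ c ∈ [(0 : ℤ), 1, -1], ∀ d ∈ [(0 : ℤ), 1, -1], ∀ e ∈ [(0 : ℤ), 1, -1],
    ∀ f ∈ [(0 : ℤ), 1, -1], ∀ g ∈ [(0 : ℤ), 1, -1], dt ![0, b, c, d, e, f, g] th = -1 →
    (∀ t ∈ K7.L7, dt ![0, b, c, d, e, f, g] (mk t) ∈ [(0 : ℤ), 1, -1]) → ∃ i, ![0, b, c, d, e, f, g] = ee i := by
  decide +kernel

theorem min1 {m : V} (h0 : m ⬝ᵥ th = -1) (h1 : m ⬝ᵥ (-sr 0) = 0) (h : ∀ x, R x → m ⬝ᵥ x ∈ [(0 : ℤ), 1, -1]) :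
    ∃ i, m = ee i := by
  have h2 : ∀ i, m i ∈ [(0 : ℤ), 1, -1] := fun i => by
    have := h _ (R_sr i)
    rwa [dotProduct_comm, Ex.sr_dot] at this
  rw [dotProduct_neg, dotProduct_comm, Ex.sr_dot, neg_eq_zero] at h1
  have e : m = ![0, m 1, m 2, m 3, m 4, m 5, m 6] := h1 ▸ eta m
  exact e ▸ min0 _ (h2 1) _ (h2 2) _ (h2 3) _ (h2 4) _ (h2 5) _ (h2 6) (e ▸ dot7 m th ▸ h0) fun t ht =>
    e ▸ dot7 m _ ▸ h (mk t) ht

theorem glue0 : ∀ r, 3 ∣ (th - -sr 0 + ∑ i, EE i : V) r := by decide +kernel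

theorem glue1 (σ : Fin 6 → Fin 6) (h : Function.Injective σ) (r : Fin 7) :
    3 ∣ (th - -sr 0 + (c (σ 0) (σ 1) - c (σ 1) (σ 2)) + (c (σ 3) (σ 4) - c (σ 4) (σ 5)) : V) r := by
  have h1 := glue0 r
  rw [← (Finite.injective_iff_bijective.1 h).sum_comp EE, Fin.sum_univ_six] at h1
  simp only [c, Pi.add_apply, Pi.sub_apply] at h1 ⊢
  omega

theorem three : ∀ b : Fin 6 → Bool, #{i | b i = true} = #{i | b i = false} → ∃ σ ∈ [![0, 1, 2, 3, 4, 5], ![0, 1, 3, 2, 4, 5],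
    ![0, 1, 4, 2, 3, 5], ![0, 1, 5, 2, 3, 4], ![0, 2, 3, 1, 4, 5], ![0, 2, 4, 1, 3, 5], ![0, 2, 5, 1, 3, 4], ![0, 3, 4, 1, 2, 5],
    ![0, 3, 5, 1, 2, 4], ![0, 4, 5, 1, 2, 3], ![1, 2, 3, 0, 4, 5], ![1, 2, 4, 0, 3, 5], ![1, 2, 5, 0, 3, 4], ![1, 3, 4, 0, 2, 5],
    ![1, 3, 5, 0, 2, 4], ![1, 4, 5, 0, 2, 3], ![2, 3, 4, 0, 1, 5], ![2, 3, 5, 0, 1, 4], ![2, 4, 5, 0, 1, 3],
    (![3, 4, 5, 0, 1, 2] : Fin 6 → Fin 6)], Function.Injective σ ∧ ∀ i, b (σ i) = decide (i < 3) := by decide +kernel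

theorem split {b : Fin 6 → Bool} {π : Fin 6 → Fin 6} (h : Function.Injective π) (h1 : ∀ i, b (π i) = !b i) :
    ∃ σ : Fin 6 → Fin 6, Function.Injective σ ∧ ∀ i, b (σ i) = decide (i < 3) := by
  have k : ∀ x : Bool, #{i | b i = x} ≤ #{i | b i = !x} := fun x => card_le_card_of_injOn π (fun i hi => by
    simp only [coe_filter, mem_univ, true_and, Set.mem_setOf_eq] at hi ⊢
    rw [h1, hi]) h.injOn
  obtain ⟨σ, -, h2⟩ := three b (le_antisymm (k true) (k false))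
  exact ⟨σ, h2⟩

/-! ### the symplectic space -/

abbrev W := Fin 6 → ZMod 2

def J : Matrix (Fin 6) (Fin 6) (ZMod 2) := !![0, 1, 0, 0, 0, 0; 1, 0, 1, 0, 0, 0; 0, 1, 0, 0, 1, 0; 0, 0, 0, 0, 0, 1;
  0, 0, 1, 0, 0, 0; 0, 0, 0, 1, 0, 0]

/-- the class modulo `E` -/
def ka : V →+ W := AddMonoidHom.mk' (fun x => ![x 0, x 2, x 3, x 5, x 1 - x 4, x 4 - x 6]) fun x y => by
  funext i
  fin_cases i <;> simp <;> ring

theorem ka_eq (x : V) : ka x = 0 ↔ E x := by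
  simp only [E, ← Nat.cast_ofNat (R := ℤ) (n := 2), ← ZMod.intCast_zmod_eq_zero_iff_dvd, funext_iff, Fin.forall_fin_succ, ka,
    IsEmpty.forall_iff, AddMonoidHom.mk'_apply, cons_val_zero, cons_val_succ, Pi.zero_apply, and_true, Int.cast_sub]

theorem om_ka (x y : V) : J.toBilin' (ka x) (ka y) = (B x y : ZMod 2) := by
  rw [toBilin'_apply]
  simp [Fin.sum_univ_six, J, ka, B]
  have h : (2 : ZMod 2) = 0 := rfl
  linear_combination (x 0 * y 2 + x 2 * y 0 + x 2 * y 3 + x 3 * y 2 + x 1 * y 3 + x 3 * y 1 + x 4 * y 5 + x 5 * y 4 - x 0 * y 0 -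
    x 1 * y 1 - x 2 * y 2 - x 3 * y 3 - x 4 * y 4 - x 5 * y 5 - x 6 * y 6) * h

theorem J_nd : J.toBilin'.Nondegenerate := by
  have h : ∀ x : W, (∀ i, J.toBilin' x (Pi.single i 1) = 0) → x = 0 := by
    simp only [toBilin'_apply]
    decide +kernel
  exact LinearMap.BilinForm.Nondegenerate.ofSeparatingLeft fun x hx => h x fun _ => hx _

theorem key (S : Submodule (ZMod 2) W) (h5 : 5 ≤ Nat.card S) {a b d : W} (ha : a ∉ S) (hb : b ∉ S) (hd : d ∉ S) (ab : a ≠ b)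
    (ad : a ≠ d) (bd : b ≠ d) (h : ∀ x ∈ ({a, b, d} : Set W), ∀ y, y ∈ S ∨ y ∈ ({a, b, d} : Set W) → J.toBilin' x y = 0) :
    False := by
  let T := Submodule.span (ZMod 2) ({a, b, d} : Set W)
  have h1 : S ⊔ T ≤ J.toBilin'.orthogonal T := by
    have k : ∀ y, y ∈ S ∨ y ∈ ({a, b, d} : Set W) → y ∈ J.toBilin'.orthogonal T := fun y hy n hn =>
      (Submodule.span_le (p := LinearMap.ker (J.toBilin'.flip y))).2 (fun x hx => h x hx y hy) hn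
    exact sup_le (fun y hy => k y (.inl hy)) (Submodule.span_le.2 fun y hy => k y (.inr hy))
  have h2' := Submodule.finrank_mono h1
  rw [LinearMap.BilinForm.finrank_orthogonal J_nd, finrank_fin_fun] at h2'
  have h2 : finrank (ZMod 2) ↥(S ⊔ T) ≤ 6 - finrank (ZMod 2) T := h2'
  have h3 : finrank (ZMod 2) ↥(S ⊔ T) + finrank (ZMod 2) ↥(S ⊓ T) = finrank (ZMod 2) S + finrank (ZMod 2) T :=
    Submodule.finrank_sup_add_finrank_inf_eq S T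
  have cd : ∀ A : Submodule (ZMod 2) W, Nat.card A = 2 ^ finrank (ZMod 2) A := fun A => by
    rw [natCard_eq_pow_finrank (K := ZMod 2), Nat.card_zmod]
  have h4 : 3 ≤ finrank (ZMod 2) S := by
    rw [cd] at h5
    exact (Nat.pow_lt_pow_iff_right one_lt_two).1 (show 2 ^ 2 < _ from h5)
  have aT : a ∈ T := Submodule.subset_span (.inl rfl)
  rcases le_or_gt 3 (finrank (ZMod 2) T) with h6 | h6
  · have h7 : finrank (ZMod 2) ↥(S ⊔ T) ≤ finrank (ZMod 2) S := by omega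
    exact ha ((Submodule.eq_of_le_of_finrank_le (le_sup_left (a := S) (b := T)) h7).ge (Submodule.mem_sup_right aT))
  have n0 : ∀ {x}, x ∉ S → (0 : W) ≠ x := fun hx e => hx (e ▸ zero_mem S)
  have h7 : ({0, a, b, d} : Set W) ⊆ T := Set.insert_subset (zero_mem T) Submodule.subset_span
  have h8 : ({0, a, b, d} : Set W).ncard = 4 := Set.ncard_eq_four.2 ⟨_, _, _, _, n0 ha, n0 hb, n0 hd, ab, ad, bd, rfl⟩
  have h9 : (T : Set W).ncard = 2 ^ finrank (ZMod 2) T := cd T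
  have h10 := Set.ncard_le_ncard h7 (Set.toFinite _)
  have h11 : finrank (ZMod 2) T = 2 := by
    rw [h8, h9] at h10
    have := (Nat.pow_le_pow_iff_right one_lt_two).1 (show 2 ^ 2 ≤ _ from h10)
    omega
  have h12 := Set.eq_of_subset_of_ncard_le h7 (by rw [h8, h9, h11]; rfl) (Set.toFinite _)
  have h13 : S ⊓ T = ⊥ := eq_bot_iff.2 fun x hx => by
    rcases h12.ge hx.2 with e | e | e | e
    exacts [e, absurd (e ▸ hx.1) ha, absurd (e ▸ hx.1) hb, absurd (e ▸ hx.1) hd]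
  rw [h13, finrank_bot] at h3
  omega

end Cfsg.Agent.KM.E2.L7c
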