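import Cfsg.Agent.KM.E2.Tool
import Cfsg.Agent.KM.Ev.Two

/-!
# KM, `l = 2`, type `E₈` : an even unimodular form on the cocharacters (helper13)

* `Fm X β`, `Ind`, `Fm.dim`, `Fm.span`, `Fm.sq4`, `Fm.exists_ind`.
-/

set_option autoImplicit false
set_option linter.unusedSectionVars false

namespace Cfsg.Agent.KM.E2

open Cfsg Cfsg.Agent.DL Matrix Cfsg.Agent.KM.Tor Module
open Cfsg.Agent.KM.Ev (c2 c2_eq c2_dot c2_val)

namespace L8L

variable {p : ℕ} [Fact p.Prime] {k : Type} [Field k] [CharP k p] {Y : Type} [Group Y] {N : Type} [Fintype N]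
  [DecidableEq N] {ρ : Y →* GL N k} {F : MulAut Y} {G : Subgroup Y} [IsAlgClosed k] (X : Datum p ρ F G)

/-- the invariant form -/
structure Fm (β : (X.R → ℤ) →ₗ[ℤ] (X.R → ℤ) →ₗ[ℤ] ℤ) : Prop where
  ls : LS X
  ev : ∀ u, Ev X u → ∀ r, 2 ∣ u r
  comm : ∀ u v, β u v = β v u
  even : ∀ u, 2 ∣ β u u
  cor : ∀ a, X.Rt a → ∀ v, β (X.cor a) v = X.wt a ⬝ᵥ v
  rt : ∀ u, ¬ 4 ∣ β u u → Ns X u
  card : Fintype.card X.R = 8
  four : ∀ Φ : Set (X.I → ℤ), (∀ a ∈ Φ, X.Rt a) → Hf X Φ → ∃ a ∈ Φ, ∃ b ∈ Φ, ∃ c ∈ Φ, ∃ d ∈ Φ,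
    pr X a b = 0 ∧ pr X a c = 0 ∧ pr X a d = 0 ∧ pr X b c = 0 ∧ pr X b d = 0 ∧ pr X c d = 0

/-- independent modulo two -/
def Ind {n : ℕ} (x : Fin n → X.R → ℤ) : Prop := ∀ ε : Fin n → ℤ, Ev X (∑ i, ε i • x i) → ∀ i, 2 ∣ ε i

variable {X} {β : (X.R → ℤ) →ₗ[ℤ] (X.R → ℤ) →ₗ[ℤ] ℤ} {u v : X.R → ℤ} {a b c d : X.I → ℤ} {m n : ℕ}
  {U : AddSubgroup (X.R → ℤ)}

theorem ev_smul {i : ℤ} (hi : 2 ∣ i) (u : X.R → ℤ) : Ev X (i • u) := ev_of_dvd fun _ => hi.mul_right _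

theorem Ind.cons {x : Fin n → X.R → ℤ} (h : Ind X x) (hv : ∀ ε : Fin n → ℤ, ¬ Ev X (v - ∑ i, ε i • x i)) :
    Ind X (Fin.cons v x : Fin (n + 1) → X.R → ℤ) := fun ε e => by
  rw [Fin.sum_univ_succ] at e
  simp only [Fin.cons_zero, Fin.cons_succ] at e
  have h1 : 2 ∣ ε 0 := by_contra fun h1 => hv (fun i => -ε i.succ) (by
    convert e.sub (ev_smul (i := ε 0 - 1) (by omega) v) using 1
    simp only [neg_smul, Finset.sum_neg_distrib]
    module)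
  exact Fin.cases h1 (h _ (by simpa only [add_sub_cancel_left] using e.sub (ev_smul h1 v)))

theorem gn_succ (h : Gn X n U) : Gn X (n + 1) U :=
  let ⟨x, hx⟩ := h
  ⟨Fin.cons 0 x, fun v hv => let ⟨ε, e⟩ := hx v hv; ⟨Fin.cons 0 ε, by simpa [Fin.sum_univ_succ] using e⟩⟩

theorem exists_ind (h : ¬ Gn X n U) : ∃ x : Fin (n + 1) → X.R → ℤ, (∀ i, x i ∈ U) ∧ Ind X x := by
  have key : ∀ {m : ℕ}, ¬ Gn X m U → ∀ x : Fin m → X.R → ℤ, (∀ i, x i ∈ U) → Ind X x →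
      ∃ x : Fin (m + 1) → X.R → ℤ, (∀ i, x i ∈ U) ∧ Ind X x := fun h x h1 h2 => by
    obtain ⟨v, hv, h3⟩ : ∃ v ∈ U, ∀ ε : Fin _ → ℤ, ¬ Ev X (v - ∑ i, ε i • x i) := by
      simpa only [not_forall, not_exists, exists_prop] using not_exists.1 h x
    exact ⟨_, Fin.cases hv h1, h2.cons h3⟩
  induction n with
  | zero => exact key h Fin.elim0 (fun i => i.elim0) fun _ _ i => i.elim0
  | succ n ih =>
    obtain ⟨x, h1, h2⟩ := ih (mt gn_succ h)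
    exact key h x h1 h2

variable (h : Fm X β)
include h

theorem Fm.two (e : Ev X u) : ∃ y, u = (2 : ℤ) • y := by
  choose y hy using h.ev u e
  exact ⟨y, funext hy⟩

theorem Fm.left (e : Ev X u) (v : X.R → ℤ) : 2 ∣ β u v := by
  obtain ⟨y, rfl⟩ := h.two e
  exact ⟨β y v, by rw [map_smul]; rfl⟩

theorem Fm.right (e : Ev X v) (u : X.R → ℤ) : 2 ∣ β u v := h.comm v u ▸ h.left e u

theorem Fm.nd (e : ∀ v, 2 ∣ β u v) : Ev X u := fun c hc => h.cor c hc u ▸ h.comm u _ ▸ e _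

theorem Fm.sq (u v : X.R → ℤ) : β (u + v) (u + v) = β u u + 2 * β u v + β v v := by
  simp only [map_add, LinearMap.add_apply, h.comm v u]
  ring

theorem Fm.eight (e : Ev X u) : 8 ∣ β u u := by
  obtain ⟨y, rfl⟩ := h.two e
  obtain ⟨i, hi⟩ := h.even y
  exact ⟨i, by simp only [map_smul, LinearMap.smul_apply, smul_eq_mul, hi]; ring⟩

theorem Fm.cong (e : Ev X (u - v)) : 4 ∣ β u u - β v v := by
  have h1 := h.sq (u - v) v
  have h2 := h.eight e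
  have h3 := h.left e v
  rw [sub_add_cancel] at h1
  omega

theorem Fm.pr (ha : X.Rt a) (b : X.I → ℤ) : β (X.cor a) (X.cor b) = pr X a b := h.cor a ha _

theorem Fm.self (ha : X.Rt a) : β (X.cor a) (X.cor a) = 2 := (h.pr ha a).trans (pr_self ha)

theorem Fm.ns : Ns X u ↔ ¬ 4 ∣ β u u := ⟨fun ⟨a, ha, e⟩ => by
  have := h.cong e
  rw [h.self ha] at this
  omega, h.rt u⟩

theorem Fm.li {x : Fin n → X.R → ℤ} {ι : Type} [Fintype ι] (f : (X.R → ℤ) →ₗ[ℤ] ι → ℤ)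
    (hf : ∀ u, (∀ i, 2 ∣ f u i) → Ev X u) (hx : Ind X x) : LinearIndependent (ZMod 2) fun i => c2 (f (x i)) :=
  Fintype.linearIndependent_iff.2 fun g e i => by
    have h1 := hx (fun i => ((g i).val : ℤ)) (hf _ fun r => (ZMod.intCast_zmod_eq_zero_iff_dvd _ 2).1 (by
      simp only [map_sum, map_smul, Finset.sum_apply, Pi.smul_apply, smul_eq_mul, Int.cast_sum, Int.cast_mul, Int.cast_natCast,
        ZMod.natCast_zmod_val]
      simpa [c2] using congrFun e r)) i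
    simpa using (ZMod.intCast_zmod_eq_zero_iff_dvd _ 2).2 h1

/-- **dimensions** -/
theorem Fm.dim {x : Fin m → X.R → ℤ} {y : Fin n → X.R → ℤ} (hx : Ind X x) (hy : Ind X y) (e : ∀ i j, 2 ∣ β (y j) (x i)) :
    m + n ≤ 8 := by
  let f : (X.R → ℤ) →ₗ[ℤ] X.R → ℤ := LinearMap.pi fun r => β.flip (Pi.single r 1)
  have hf : ∀ u v, f u ⬝ᵥ v = β u v := fun u v => by
    conv_rhs => rw [pi_eq_sum_univ' v, map_sum]
    exact Finset.sum_congr rfl fun r _ => by rw [map_smul, smul_eq_mul, mul_comm]; rfl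
  let M : Matrix (Fin n) X.R (ZMod 2) := of fun j => c2 (f (y j))
  have h1 : M.rank = Fintype.card (Fin n) := LinearIndependent.rank_matrix
    (h.li f (fun u e => h.nd fun v => hf u v ▸ Finset.dvd_sum fun r _ => (e r).mul_right _) hy)
  have h2 := LinearMap.finrank_range_add_finrank_ker M.mulVecLin
  have h3 : LinearIndependent (ZMod 2) fun i => (⟨c2 (x i), funext fun j => c2_dot _ _ |>.2 (hf _ _ ▸ e i j)⟩ :
      LinearMap.ker M.mulVecLin) := .of_comp (LinearMap.ker M.mulVecLin).subtype (h.li .id (fun _ => ev_of_dvd) hx)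
  have h4 := h3.fintype_card_le_finrank
  rw [finrank_fintype_fun_eq_card, h.card, show finrank _ _ = _ from h1] at h2
  rw [Fintype.card_fin] at h2 h4
  omega

theorem Fm.span {x y : Fin 4 → X.R → ℤ} (hx : Ind X x) (hy : Ind X y) (e : ∀ i j, 2 ∣ β (y j) (x i))
    (hv : ∀ j, 2 ∣ β (y j) v) : ∃ i j l m : ℤ, Ev X (v - (i • x 0 + j • x 1 + l • x 2 + m • x 3)) := by
  by_contra! h1
  exact absurd (h.dim (hx.cons (v := v) fun ε => Fin.sum_univ_four (fun i => ε i • x i) ▸ h1 _ _ _ _) hy (Fin.cases hv e))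
    (by decide)

/-- four orthogonal roots -/
theorem Fm.sq4 (ha : X.Rt a) (hb : X.Rt b) (hc : X.Rt c) (hd : X.Rt d) (ab : E2.pr X a b = 0) (ac : E2.pr X a c = 0)
    (ad : E2.pr X a d = 0) (bc : E2.pr X b c = 0) (bd : E2.pr X b d = 0) (cd : E2.pr X c d = 0) {i j l m : ℤ}
    (e : Ev X (i • X.cor a + j • X.cor b + l • X.cor c + m • X.cor d)) :
    (2 ∣ i ∧ 2 ∣ j ∧ 2 ∣ l ∧ 2 ∣ m) ∨ (¬ 2 ∣ i ∧ ¬ 2 ∣ j ∧ ¬ 2 ∣ l ∧ ¬ 2 ∣ m) := by
  have h1 := h.eight e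
  simp only [map_add, map_smul, LinearMap.add_apply, LinearMap.smul_apply, smul_eq_mul, h.pr ha, h.pr hb, h.pr hc, h.pr hd,
    pr_self ha, pr_self hb, pr_self hc, pr_self hd, h.ls.symm hb ha, h.ls.symm hc ha, h.ls.symm hd ha, h.ls.symm hc hb,
    h.ls.symm hd hb, h.ls.symm hd hc, ab, ac, ad, bc, bd, cd, mul_zero, add_zero, zero_add, ← mul_assoc] at h1
  have h2 : ∀ i : ℤ, (2 ∣ i ∧ 4 ∣ i * i) ∨ (¬ 2 ∣ i ∧ 4 ∣ i * i - 1) := fun i => by
    obtain ⟨t, rfl | rfl⟩ := Int.even_or_odd' i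
    exacts [.inl ⟨by omega, t * t, by ring⟩, .inr ⟨by omega, t * t + t, by ring⟩]
  have := h2 i
  have := h2 j
  have := h2 l
  have := h2 m
  omega

theorem Fm.ind4 (ha : X.Rt a) (hb : X.Rt b) (hc : X.Rt c) (hd : X.Rt d) (ab : E2.pr X a b = 0) (ac : E2.pr X a c = 0)
    (ad : E2.pr X a d = 0) (bc : E2.pr X b c = 0) (bd : E2.pr X b d = 0) (cd : E2.pr X c d = 0) :
    Ind X ![X.cor a, X.cor b, X.cor c, X.cor d] ∨ Ev X (X.cor a + X.cor b + X.cor c + X.cor d) := by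
  refine or_iff_not_imp_right.2 fun h1 ε e => ?_
  rw [Fin.sum_univ_four] at e
  rcases h.sq4 ha hb hc hd ab ac ad bc bd cd e with ⟨h2, h3, h4, h5⟩ | ⟨h2, h3, h4, h5⟩
  · exact Fin.forall_fin_succ.2 ⟨h2, Fin.forall_fin_succ.2 ⟨h3, Fin.forall_fin_two.2 ⟨h4, h5⟩⟩⟩
  · refine (h1 ?_).elim
    convert e.sub ((((ev_smul (i := ε 0 - 1) (by omega) (X.cor a)).add (ev_smul (i := ε 1 - 1) (by omega) (X.cor b))).add
      (ev_smul (i := ε 2 - 1) (by omega) (X.cor c))).add (ev_smul (i := ε 3 - 1) (by omega) (X.cor d))) using 1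
    simp only [cons_val_zero, cons_val_one, cons_val]
    module

theorem Fm.zero (ha : X.Rt a) (hb : X.Rt b) (e : 2 ∣ E2.pr X a b) : a = b ∨ a = -b ∨ E2.pr X a b = 0 := by
  by_contra! h1
  have := h.ls.bd ha hb h1.1 h1.2.1
  omega

theorem Fm.odd (ha : X.Rt a) (hb : X.Rt b) (e : ¬ 2 ∣ E2.pr X a b) : E2.pr X a b = 1 ∨ E2.pr X a b = -1 := by
  have := h.ls.bd ha hb (fun e' => e (by rw [e', pr_self hb])) fun e' => e (by
    rw [e', E2.pr, map_neg, neg_dotProduct, show X.wt b ⬝ᵥ X.cor b = 2 from pr_self hb]; decide)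
  omega

omit h in
theorem rf_rt (ha : X.Rt a) (hb : X.Rt b) : X.Rt (b - pr X b a • a) := by
  rw [pr_eq ha, ← X.act_rf ha]
  exact hb.act _

end L8L

end Cfsg.Agent.KM.E2
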