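import Cfsg.Agent.KM.E2.Defs
import Cfsg.Agent.KM.Tor.K0

/-!
# KM, `l = 2` : transport of pure families under the Weyl group (helper95)
-/

set_option autoImplicit false
set_option linter.unusedSectionVars false

namespace Cfsg.Agent.KM.E2.P8X

open Cfsg Cfsg.Lie Cfsg.Agent.DL Cfsg.Agent.Nodes.Reps Matrix Cfsg.Agent.KM.Tor Submodule

variable {p : ℕ} [Fact p.Prime] {k : Type} [Field k] [CharP k p] {Y : Type} [Group Y] {N : Type} [Fintype N]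
  [DecidableEq N] {ρ : Y →* GL N k} {F : MulAut Y} {G : Subgroup Y} [IsAlgClosed k] {X : Datum p ρ F G}
  {w w' : X.W} {u v z : X.R → ℤ} {a b : X.I → ℤ} {n : ℕ} {Ψ : Set (X.I → ℤ)}

theorem ev_add (h : Ev X u) (h' : Ev X v) : Ev X (u + v) := fun c hc => by
  rw [dotProduct_add]
  exact dvd_add (h c hc) (h' c hc)

theorem ev_smul (m : ℤ) (h : Ev X u) : Ev X (m • u) := fun c hc => by
  rw [dotProduct_smul]
  exact (h c hc).mul_left m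

theorem ev_two (u : X.R → ℤ) : Ev X ((2 : ℤ) • u) := fun c _ => by
  rw [dotProduct_smul]
  exact dvd_mul_right 2 _

theorem ev_zero : Ev X 0 := fun c _ => by
  rw [dotProduct_zero]
  exact dvd_zero 2

theorem ev_sum {s : Fin n → X.R → ℤ} (h : ∀ i, Ev X (s i)) : Ev X (∑ i, s i) := fun c hc => by
  rw [dotProduct_sum]
  exact Finset.dvd_sum fun i _ => h i c hc

theorem ev_Wm (w : X.W) (h : Ev X u) : Ev X (X.Wm w *ᵥ u) := fun c hc => by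
  rw [dot_Wm]
  exact h _ (hc.act _)

theorem ev_tr (h : Ev X (u - X.Wm w *ᵥ v)) (hv : Ev X v) : Ev X u := sub_add_cancel u _ ▸ ev_add h (ev_Wm w hv)

theorem tr_trans (h : Ev X (u - X.Wm w *ᵥ v)) (h' : Ev X (v - X.Wm w' *ᵥ z)) : Ev X (u - X.Wm (w * w') *ᵥ z) := by
  have := ev_add h (ev_Wm w h')
  rwa [mulVec_sub, mulVec_mulVec, ← X.Wm_mul, sub_add_sub_cancel] at this

theorem inv_Wm (w : X.W) (v : X.R → ℤ) : X.Wm w⁻¹ *ᵥ X.Wm w *ᵥ v = v := by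
  simpa only [inv_inv] using Wm_Wm_inv w⁻¹ v

theorem tr_symm (h : Ev X (u - X.Wm w *ᵥ v)) : Ev X (v - X.Wm w⁻¹ *ᵥ u) := by
  have := ev_smul (-1) (ev_Wm w⁻¹ h)
  rwa [mulVec_sub, inv_Wm, neg_one_zsmul, neg_sub] at this

theorem tr_self (w : X.W) (u : X.R → ℤ) : Ev X (u - X.Wm w *ᵥ X.Wm w⁻¹ *ᵥ u) := by
  rw [Wm_Wm_inv, sub_self]
  exact ev_zero

theorem ns_tr (h : Ev X (u - X.Wm w *ᵥ v)) (hv : Ns X v) : Ns X u :=
  let ⟨a, ha, e⟩ := hv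
  ⟨X.act w a, ha.act w, by
    have := ev_add h (ev_Wm w e)
    rwa [mulVec_sub, sub_add_sub_cancel, ← X.cor_act w ha] at this⟩

theorem dvd_tr (h : Ev X (u - X.Wm w *ᵥ v)) (hb : X.Rt b) : 2 ∣ X.wt b ⬝ᵥ u ↔ 2 ∣ X.wt (X.act w⁻¹ b) ⬝ᵥ v := by
  have := h b hb
  rw [dotProduct_sub, dot_Wm] at this
  exact ⟨fun e => by simpa only [sub_sub_cancel] using dvd_sub e this, fun e => by
    simpa only [sub_add_cancel] using dvd_add this e⟩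

theorem pr_act (w : X.W) (hb : X.Rt b) : pr X (X.act w a) (X.act w b) = pr X a b := by
  rw [pr, X.cor_act w hb, dot_Wm, act_inv_act, pr]

theorem act_neg (w : X.W) (a : X.I → ℤ) : X.act w (-a) = -X.act w a := map_neg _ _

theorem span_wt (w : X.W) (h : u ∈ span ℤ (X.wt '' Ψ)) : u ᵥ* X.Wm w⁻¹ ∈ span ℤ (X.wt '' im X w Ψ) :=
  (span_le (p := (span ℤ (X.wt '' im X w Ψ)).comap (vecMulLinear (X.Wm w⁻¹)))).2
    (by
      rintro _ ⟨a, ha, rfl⟩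
      exact subset_span ⟨_, act_mem_im.2 ha, by simpa only [inv_inv, vecMulLinear_apply] using X.wt_act' w⁻¹ a⟩) h

theorem span_cor (w : X.W) (h0 : ∀ a ∈ Ψ, X.Rt a) (h : u ∈ span ℤ (X.cor '' Ψ)) :
    X.Wm w *ᵥ u ∈ span ℤ (X.cor '' im X w Ψ) :=
  (span_le (p := (span ℤ (X.cor '' im X w Ψ)).comap (mulVecLin (X.Wm w)))).2
    (by
      rintro _ ⟨a, ha, rfl⟩
      exact subset_span ⟨_, act_mem_im.2 ha, X.cor_act w (h0 a ha)⟩) h

theorem two_wt (w : X.W) (h : ∀ m : X.R → ℤ, (2 : ℤ) • m ∈ span ℤ (X.wt '' Ψ)) (m : X.R → ℤ) :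
    (2 : ℤ) • m ∈ span ℤ (X.wt '' im X w Ψ) := by
  have := span_wt w (h (m ᵥ* X.Wm w))
  rwa [smul_vecMul, vecMul_vecMul, ← X.Wm_mul, mul_inv_cancel, X.Wm_one, vecMul_one] at this

theorem mem_cor (w : X.W) (h0 : ∀ a ∈ Ψ, X.Rt a) (h : X.Wm w⁻¹ *ᵥ u ∈ span ℤ (X.cor '' Ψ)) :
    u ∈ span ℤ (X.cor '' im X w Ψ) := Wm_Wm_inv w u ▸ span_cor w h0 h

/-- `u` is congruent to `w s` -/
def Tr (w : X.W) (u s : Fin n → X.R → ℤ) : Prop := ∀ i, Ev X (u i - X.Wm w *ᵥ s i)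

variable {U S : Fin n → X.R → ℤ}

theorem Tr.sum (h : Tr w U S) (ε : Fin n → ℤ) : Ev X (∑ i, ε i • U i - X.Wm w *ᵥ ∑ i, ε i • S i) := by
  rw [mulVec_sum, ← Finset.sum_sub_distrib]
  exact ev_sum fun i => by
    rw [mulVec_smul, ← smul_sub]
    exact ev_smul _ (h i)

theorem Tr.pu (h : Tr w U S) (hu : Pu X U) : Pu X S := fun ε =>
  ⟨fun h1 => (hu ε).1 (ns_tr (h.sum ε) h1), fun h1 => (hu ε).2 (ev_tr (h.sum ε) h1)⟩

theorem Tr.rf (h : Tr w U S) : Rf X U = im X w (Rf X S) := Set.ext fun _ =>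
  ⟨fun hb => ⟨hb.1.act _, fun i => (dvd_tr (h i) hb.1).1 (hb.2 i)⟩,
    fun hb => ⟨(rt_act _).1 hb.1, fun i => (dvd_tr (h i) ((rt_act _).1 hb.1)).2 (hb.2 i)⟩⟩

theorem Tr.sub (h : Tr w U S) {ε : Fin n → ℤ} (e : Ev X (X.Wm w⁻¹ *ᵥ v - ∑ i, ε i • S i)) : Ev X (v - ∑ i, ε i • U i) := by
  have := ev_add (ev_Wm w e) (ev_smul (-1) (h.sum ε))
  rwa [mulVec_sub, Wm_Wm_inv, neg_one_zsmul, neg_sub, sub_add_sub_cancel] at this

theorem pu_init {U : Fin (n + 1) → X.R → ℤ} (h : Pu X U) : Pu X fun i : Fin n => U i.castSucc := fun ε => by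
  have := h (Fin.snoc ε 0)
  simp only [Fin.sum_univ_castSucc, Fin.snoc_castSucc, Fin.snoc_last, zero_smul, add_zero] at this
  exact ⟨this.1, fun e i => by simpa only [Fin.snoc_castSucc] using this.2 e i.castSucc⟩

theorem pu_last {U : Fin (n + 1) → X.R → ℤ} (h : Pu X U) (ε : Fin n → ℤ) :
    ¬ Ns X (∑ i, ε i • U i.castSucc + U (Fin.last n)) ∧ ¬ Ev X (∑ i, ε i • U i.castSucc + U (Fin.last n)) := by
  have := h (Fin.snoc ε 1)
  simp only [Fin.sum_univ_castSucc, Fin.snoc_castSucc, Fin.snoc_last, one_smul] at this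
  exact ⟨this.1, fun e => absurd (this.2 e (Fin.last n)) (by rw [Fin.snoc_last]; decide)⟩

theorem rf_rt : ∀ a ∈ Rf X U, X.Rt a := fun _ h => h.1

theorem p2c_tr {U S : Fin 2 → X.R → ℤ} {Φ₁ Φ₂ : Set (X.I → ℤ)} (h : Tr w U S) (H : P2c X S Φ₁ Φ₂) :
    P2c X U (im X w Φ₁) (im X w Φ₂) := by
  have h1 : ∀ a ∈ Φ₁, X.Rt a := fun a ha => (H.eq.ge (.inl ha)).1
  have h2 : ∀ a ∈ Φ₂, X.Rt a := fun a ha => (H.eq.ge (.inr ha)).1
  refine ⟨h.rf.trans (congrArg _ H.eq), fun a ha => ?_, fun a ha => ?_, fun a ha b hb => ?_, h.rf ▸ two_wt w H.x2,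
    fun v => h.rf ▸ mem_cor w rf_rt (by rw [mulVec_smul]; exact H.y2 _), fun v hv => ?_⟩
  · exact (congrArg (· ∈ Φ₁) (act_neg w⁻¹ a)).mpr (H.n1 _ ha)
  · exact (congrArg (· ∈ Φ₂) (act_neg w⁻¹ a)).mpr (H.n2 _ ha)
  · exact (pr_act w⁻¹ (im_rt h2 b hb)).symm.trans (H.orth _ ha _ hb)
  · obtain ⟨c, hc, d, hd, e, e'⟩ := H.dec (X.Wm w⁻¹ *ᵥ v) (Tr.pu (w := w) (fun i => by
      fin_cases i
      exacts [h 0, h 1, tr_self w v]) hv)
    refine ⟨_, act_mem_im.2 hc, _, act_mem_im.2 hd, ?_, dot_Wm' w c v ▸ e'⟩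
    have := ev_Wm w e
    rwa [mulVec_sub, mulVec_sub, Wm_Wm_inv, ← X.cor_act w (h1 c hc), ← X.cor_act w (h2 d hd)] at this

theorem p3c_tr {U S : Fin 3 → X.R → ℤ} (h : Tr w U S) (H : P3c X S) : P3c X U := by
  refine ⟨h.rf ▸ H.ne.elim fun a ha => ⟨_, act_mem_im.2 ha⟩, fun a ha b hb => ?_, h.rf ▸ two_wt w H.x2, fun v hv c hc => ?_⟩
  · refine (H.orth _ (h.rf.le ha) _ (h.rf.le hb)).imp (fun e => act_inj _ e) (Or.imp (fun e => act_inj w⁻¹ ?_) fun e => ?_)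
    · rw [e, act_neg]
    · exact (pr_act w⁻¹ hb.1).symm.trans e
  · obtain ⟨ε, e⟩ := H.ker (X.Wm w⁻¹ *ᵥ v) (fun b hb => dot_Wm' w b v ▸ hv _ (h.rf.ge (act_mem_im.2 hb))) _ (h.rf.le hc)
    refine ⟨ε, e.imp h.sub fun e => h.sub ?_⟩
    rwa [mulVec_sub, ← X.cor_act _ hc.1]

variable (X) in
/-- the family is its own orthogonal complement -/
def Lag (U : Fin n → X.R → ℤ) : Prop := ∀ a b, X.Rt a → X.Rt b → (∀ i, 2 ∣ X.wt a ⬝ᵥ U i - X.wt b ⬝ᵥ U i) →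
  ∃ ε : Fin n → ℤ, Ev X (X.cor a - X.cor b - ∑ i, ε i • U i)

theorem lag_tr (h : Tr w U S) (H : Lag X S) : Lag X U := fun a b ha hb e => by
  obtain ⟨ε, e'⟩ := H _ _ (ha.act w⁻¹) (hb.act w⁻¹) fun i => by
    have h1 := h i a ha
    have h2 := h i b hb
    have h3 := e i
    rw [dotProduct_sub, dot_Wm] at h1 h2
    exact (by omega : ∀ x y z t : ℤ, 2 ∣ x - z → 2 ∣ y - t → 2 ∣ x - y → 2 ∣ z - t) _ _ _ _ h1 h2 h3
  exact ⟨ε, h.sub (by rwa [mulVec_sub, ← X.cor_act _ ha, ← X.cor_act _ hb])⟩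

theorem Lag.sq (H : Lag X U) (h : ∀ i, Ev X (X.Wm w *ᵥ U i - U i)) (ha : X.Rt a) :
    Ev X (X.cor a - X.cor (X.act (w * w) a)) := by
  have h1 : Tr w U U := fun i => by simpa only [neg_one_zsmul, neg_sub] using ev_smul (-1) (h i)
  obtain ⟨ε, e⟩ := H _ _ (ha.act w) ha fun i => by
    have := h1 i _ (ha.act w)
    rwa [dotProduct_sub, dot_Wm, act_inv_act] at this
  have h2 := ev_add (ev_add (ev_add e (h1.sum ε)) (ev_smul (-1) (ev_Wm w e))) (ev_two (X.cor a - X.cor (X.act w a)))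
  rw [mulVec_sub, mulVec_sub, ← X.cor_act w (ha.act w), ← X.cor_act w ha, ← act_mul'] at h2
  convert h2 using 1
  module

end Cfsg.Agent.KM.E2.P8X
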