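import Cfsg.Agent.KM.E2.Defs

/-!
# KM, `l = 2`, `E₇` : the torus of an `A₂` and its normaliser (helper34)

`ph`, `Ac`, `exists_ac`, `mem_L`, `un_n`; the centre: `z_sq`, `z_eq`.
-/

set_option autoImplicit false
set_option linter.unusedSectionVars false
set_option maxHeartbeats 200000

namespace Cfsg.Agent.KM.E2.S1

open Cfsg Cfsg.Lie Cfsg.Agent.DL Cfsg.Agent.Nodes.Reps Cfsg.Agent.Nodes.BNOf Matrix Subgroup Cfsg.Agent.KM.Ht
open Cfsg.Agent.KM.Tor Cfsg.Agent.BpExc.Zc Cfsg.Agent.TO.X5 Cfsg.Agent.Nodes.Coroot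
open Cfsg.Agent.ChevalleyStructure.CoxeterGeom Cfsg.Agent.Tits.Roots
open Cfsg.Agent.KM.Ev (Pe Lp ord_neg Lp_comm exists_Zp ct_sq)
open Cfsg.Agent.TO.X.Cn (χ_exp)

variable {p : ℕ} [Fact p.Prime] {k : Type} [Field k] [CharP k p] {Y : Type} [Group Y] {N : Type} [Fintype N]
  [DecidableEq N] {ρ : Y →* GL N k} {F : MulAut Y} {G : Subgroup Y} [IsAlgClosed k] {X : Datum p ρ F G}
  {a b α β : X.I → ℤ} {z g : Y}

theorem pr_eq (hb : X.Rt b) (a : X.I → ℤ) : pr X a b = cpr X.cs X.h a b := X.pair_cor hb a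

theorem lg (h : Sl X) (ha : X.Rt a) : Lg X a := ⟨ha, fun c hc h1 => by
  by_cases h2 : c = -a
  · rw [h2, cpr_neg _ _ _ ha, cpr_self _ _ ha]; omega
  · have h3 := Base.cpr_mul_lt hc ha h1 h2
    rw [← pr_eq hc, show pr X a c = pr X c a from h a c ha hc, pr_eq ha] at h3
    nlinarith⟩

theorem ct_one (a : X.I → ℤ) : ct X a 1 = 1 := by rw [ct, map_one, map_one]

theorem ct_inv (a : X.I → ℤ) (s : kˣ) : ct X a s⁻¹ = (ct X a s)⁻¹ := by rw [ct, map_inv, map_inv]; rfl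

theorem ev_of (hp : p ≠ 2) {u : X.R → ℤ} (h : X.τ (coch u (-1)) ∈ ZG X) : Ev X u := fun c hc => by
  have := (χ_exp X c u (-1)).1 (h.2 c hc)
  rwa [ord_neg hp] at this

theorem eq_of_z (hp : p ≠ 2) (h : LS X) (ha : X.Rt a) (hb : X.Rt b) (e : ct X a (-1) * ct X b (-1) ∈ ZG X) :
    b = a ∨ b = -a := by
  refine h.inj a b ha hb (ev_of hp ?_)
  rwa [sub_eq_add_neg, coch_add, map_mul, ← X.cor_neg hb, show X.τ (coch (X.cor (-b)) (-1)) = ct X (-b) (-1) from rfl,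
    ct_neg hb, inv_neg, inv_one]

theorem z_comm (hz : z ∈ ZG X) (hg : g ∈ G) : z * g = g * z :=
  X.cen_le_centralizer (Z := {z}) (Set.singleton_subset_iff.2 hz.1)
    ((sup_le_sup_left (RGD.Sup_mono (S := X.Sz ∅) (S' := X.Sz {z}) fun a ha => ⟨ha.1, fun _ e => e ▸ hz.2 a ha.1⟩) _ :
      X.cen ∅ ≤ X.cen {z}) (cc_empty g hg fun _ h => h.elim)) z rfl

theorem z_sq (h : L7 X) (hz : z ∈ ZG X) : z * z = 1 := by
  obtain ⟨c, rfl⟩ := (X.mem_T z).1 hz.1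
  have h1 : ∀ m ∈ Submodule.span ℤ (X.wt '' {a | X.Rt a}), chr m c = 1 := fun m hm => by
    induction hm using Submodule.span_induction with
    | mem x hx =>
      obtain ⟨a, ha, rfl⟩ := hx
      exact Units.val_eq_one.1 ((X.χ_τ a c).symm.trans (hz.2 a ha))
    | zero => exact chr_zero c
    | add x y _ _ h1 h2 => rw [chr_add, h1, h2, mul_one]
    | smul n x _ h1 => rw [chr_zsmul, h1, _root_.one_zpow]
  rw [← map_mul, ← map_one X.τ]
  refine congrArg _ (funext fun j => ?_)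
  have h2 := h1 _ (h.ctr (Pi.single j 1))
  rwa [chr_zsmul, chr_single, zpow_ofNat, sq] at h2

theorem exists_u {t : Y} (ht : t ∈ X.T) (h : t * t = 1) : ∃ u, t = X.τ (coch u (-1)) := by
  classical
  obtain ⟨c, rfl⟩ := (X.mem_T t).1 ht
  rw [← map_mul, ← map_one X.τ] at h
  refine ⟨fun j => if c j = 1 then 0 else 1, congrArg _ (funext fun j => ?_)⟩
  have h1 : (c j : k) * c j = 1 := congrArg Units.val (congrFun (X.τ_inj h) j)
  rw [coch_apply]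
  split_ifs with h2
  · rw [h2, zpow_zero]
  · rw [zpow_one]
    exact Units.ext ((mul_self_eq_one_iff.1 h1).resolve_left fun e => h2 (Units.ext e))

theorem coch_ev {u : X.R → ℤ} (h : ∀ r, 2 ∣ u r) : coch u (-1 : kˣ) = 1 := funext fun j => by
  obtain ⟨m, hm⟩ := h j
  rw [coch_apply, hm, _root_.zpow_mul, zpow_ofNat, neg_one_sq, _root_.one_zpow]
  rfl

theorem z_eq (hp : p ≠ 2) (h : L7 X) (hz : z ∈ ZG X) {z' : Y} (hz' : z' ∈ ZG X) (h1 : z ≠ 1) (h2 : z' ≠ 1) : z = z' := by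
  obtain ⟨v, -, -, hv⟩ := h.z
  have key : ∀ y ∈ ZG X, y ≠ 1 → y = X.τ (coch v (-1)) := fun y hy h3 => by
    obtain ⟨u, rfl⟩ := exists_u hy.1 (z_sq h hy)
    rcases hv u (ev_of hp hy) with h4 | h4
    · exact (h3 (by rw [coch_ev h4, map_one])).elim
    · rw [← sub_add_cancel u v, coch_add, coch_ev h4, one_mul]
  rw [key z hz h1, key z' hz' h2]

/-! ### the torus -/

variable (X α β) in
/-- the points of the torus -/
noncomputable def ph (s t : kˣ) : Y := ct X α s * ct X β t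

theorem ph_T (s t : kˣ) : ph X α β s t ∈ X.T := mul_mem (ct_mem _ _) (ct_mem _ _)

theorem ph_mul (s t s' t' : kˣ) : ph X α β (s * s') (t * t') = ph X α β s t * ph X α β s' t' := by
  rw [ph, ph, ph, ct_mul, ct_mul, mul_assoc, mul_assoc, ← mul_assoc (ct X α s'), X.T_comm (ct_mem α s') (ct_mem β t),
    mul_assoc]

theorem ph_one : ph X α β 1 1 = 1 := by rw [ph, ct_one, ct_one, mul_one]

theorem ph_left (s : kˣ) : ph X α β s 1 = ct X α s := by rw [ph, ct_one, mul_one]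

theorem ph_right (s : kˣ) : ph X α β 1 s = ct X β s := by rw [ph, ct_one, one_mul]

theorem ph_inv (s t : kˣ) : ph X α β s⁻¹ t⁻¹ = (ph X α β s t)⁻¹ :=
  eq_inv_of_mul_eq_one_left (by rw [← ph_mul, inv_mul_cancel, inv_mul_cancel, ph_one])

theorem ph_pow (s t : kˣ) (n : ℕ) : ph X α β (s ^ n) (t ^ n) = ph X α β s t ^ n := by
  induction n with
  | zero => rw [pow_zero, pow_zero, pow_zero, ph_one]
  | succ n ih => rw [pow_succ, pow_succ, pow_succ, ph_mul, ih]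

theorem ph_St (s t : kˣ) : ph X α β s t ∈ St X α β :=
  mul_mem (subset_closure (.inl ⟨s, rfl⟩)) (subset_closure (.inr ⟨t, rfl⟩))

theorem exists_ph (h : g ∈ St X α β) : ∃ s t, g = ph X α β s t := by
  induction h using closure_induction with
  | mem x hx =>
    rcases hx with ⟨s, rfl⟩ | ⟨s, rfl⟩
    exacts [⟨s, 1, (ph_left s).symm⟩, ⟨1, s, (ph_right s).symm⟩]
  | one => exact ⟨1, 1, ph_one.symm⟩
  | mul x y _ _ h1 h2 =>
    obtain ⟨s, t, rfl⟩ := h1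
    obtain ⟨s', t', rfl⟩ := h2
    exact ⟨_, _, (ph_mul ..).symm⟩
  | inv x _ h1 =>
    obtain ⟨s, t, rfl⟩ := h1
    exact ⟨_, _, (ph_inv ..).symm⟩

theorem ct_ph {i j : ℤ} (h : X.cor a = i • X.cor α + j • X.cor β) (s : kˣ) : ct X a s = ph X α β (s ^ i) (s ^ j) := by
  rw [ct, h, coch_add, map_mul, coch_zsmul, coch_zsmul]; rfl

variable (X α β) in
/-- the action on the torus -/
def Ac (g : Y) (i j m l : ℤ) : Prop := ∀ s t, g * ph X α β s t * g⁻¹ = ph X α β (s ^ i * t ^ m) (s ^ j * t ^ l)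

theorem Ac.mul {h : Y} {i j m l i' j' m' l' : ℤ} (h1 : Ac X α β g i j m l) (h2 : Ac X α β h i' j' m' l') :
    Ac X α β (g * h) (i' * i + j' * m) (i' * j + j' * l) (m' * i + l' * m) (m' * j + l' * l) := fun s t => by
  rw [show g * h * ph X α β s t * (g * h)⁻¹ = g * (h * ph X α β s t * h⁻¹) * g⁻¹ by group, h2, h1]
  simp only [mul_zpow, ← _root_.zpow_mul, _root_.zpow_add, mul_mul_mul_comm]

theorem Ac.comm (h : Ac X α β g 1 0 0 1) (s t : kˣ) : g * ph X α β s t = ph X α β s t * g := by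
  have := h s t
  rwa [zpow_one, zpow_one, zpow_zero, zpow_zero, mul_one, one_mul, mul_inv_eq_iff_eq_mul] at this

theorem ac_of {u : X.W} {m : Y} (hm : X.Rp u m) (ha : X.Rt α) (hb : X.Rt β) {i j n l : ℤ}
    (h1 : X.cor (X.act u α) = i • X.cor α + j • X.cor β) (h2 : X.cor (X.act u β) = n • X.cor α + l • X.cor β) :
    Ac X α β m i j n l := fun s t => by
  rw [ph_mul, ← ct_ph h1, ← ct_ph h2, ← conj_ct hm ha, ← conj_ct hm hb, ph]
  group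

theorem L_comm (ha : X.Rt α) (hb : X.Rt β) (hg : g ∈ Lp X {α, β}) (s t : kˣ) :
    ph X α β s t * g = g * ph X α β s t := by
  rw [ph, mul_assoc, Lp_comm hb (.inr rfl) hg, ← mul_assoc, Lp_comm ha (.inl rfl) hg, mul_assoc]

/-- the six roots in coordinates -/
def Hx (i j : ℤ) : Prop :=
  (i = 1 ∧ j = 0) ∨ (i = 0 ∧ j = 1) ∨ (i = 1 ∧ j = 1) ∨ (i = -1 ∧ j = 0) ∨ (i = 0 ∧ j = -1) ∨ (i = -1 ∧ j = -1)

theorem hx_cases {i j m l : ℤ} (h1 : Hx i j) (h2 : Hx m l) (h : 2 * i * m - i * l - j * m + 2 * j * l = -1) :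
    (i * i + j * m = 1 ∧ i * j + j * l = 0 ∧ m * i + l * m = 0 ∧ m * j + l * l = 1 ∧
      ((i = 1 ∧ j = 0 ∧ m = 0 ∧ l = 1) ∨ ¬ (i = 1 ∧ j = 0 ∧ m = 0 ∧ l = 1))) ∨
    (i = 0 ∧ j = 1 ∧ m = -1 ∧ l = -1) ∨ (i = -1 ∧ j = -1 ∧ m = 1 ∧ l = 0) ∨
    (i = 0 ∧ j = -1 ∧ m = 1 ∧ l = 1) ∨ (i = 1 ∧ j = 1 ∧ m = -1 ∧ l = 0) := by
  rcases h1 with ⟨rfl, rfl⟩ | ⟨rfl, rfl⟩ | ⟨rfl, rfl⟩ | ⟨rfl, rfl⟩ | ⟨rfl, rfl⟩ | ⟨rfl, rfl⟩ <;>
  rcases h2 with ⟨rfl, rfl⟩ | ⟨rfl, rfl⟩ | ⟨rfl, rfl⟩ | ⟨rfl, rfl⟩ | ⟨rfl, rfl⟩ | ⟨rfl, rfl⟩ <;>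
  revert h <;> decide

end Cfsg.Agent.KM.E2.S1
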