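import Cfsg.Agent.KM.E2.S1a

/-!
# KM, `l = 2`, `E₇` : the normaliser of the torus of an `A₂` (helper34)
-/

set_option autoImplicit false
set_option linter.unusedSectionVars false
set_option maxHeartbeats 200000

namespace Cfsg.Agent.KM.E2.S1

open Cfsg Cfsg.Lie Cfsg.Agent.DL Cfsg.Agent.Nodes.Reps Cfsg.Agent.Nodes.BNOf Matrix Subgroup Cfsg.Agent.KM.Ht
open Cfsg.Agent.KM.Tor Cfsg.Agent.BpExc.Zc Cfsg.Agent.TO.X5 Cfsg.Agent.Nodes.Coroot
open Cfsg.Agent.ChevalleyStructure.CoxeterGeom Cfsg.Agent.Tits.Roots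
open Cfsg.Agent.KM.Ev (Pe Lp ord_neg Lp_comm exists_Zp ct_sq χ_ct_iff)

variable {p : ℕ} [Fact p.Prime] {k : Type} [Field k] [CharP k p] {Y : Type} [Group Y] {N : Type} [Fintype N]
  [DecidableEq N] {ρ : Y →* GL N k} {F : MulAut Y} {G : Subgroup Y} [IsAlgClosed k] {X : Datum p ρ F G}
  {a b α β : X.I → ℤ} {z g : Y}

variable (X α β) in
/-- the roots of an `A₂` -/
structure AB : Prop where
  hp : p ≠ 2
  l : L7 X
  ra : X.Rt α
  rb : X.Rt β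
  ab : pr X α β = -1

theorem AB.symm (h : AB X α β) : AB X β α := ⟨h.hp, h.l, h.rb, h.ra, (h.l.sl _ _ h.rb h.ra).trans h.ab⟩

theorem AB.c1 (h : AB X α β) : cpr X.cs X.h α β = -1 := (pr_eq h.rb α).symm.trans h.ab

theorem AB.add (h : AB X α β) : X.act (X.rf β) α = α + β := by rw [X.act_rf h.rb, h.c1, neg_one_smul, sub_neg_eq_add]

theorem AB.rt (h : AB X α β) : X.Rt (α + β) := h.add ▸ h.ra.act _

theorem AB.cor (h : AB X α β) : X.cor (α + β) = X.cor α + X.cor β := cor_add h.ra h.rb h.c1 h.symm.c1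

theorem AB.lg (h : AB X α β) : ∀ a ∈ ({α, β} : Set (X.I → ℤ)), Lg X a := by
  rintro a (rfl | rfl)
  exacts [S1.lg h.l.sl h.ra, S1.lg h.l.sl h.rb]

theorem AB.sz (h : AB X α β) : X.Sz {ct X α (-1), ct X β (-1)} ⊆ Pe X {α, β} := fun b hb => by
  refine h.l.sz α β b h.ra h.rb h.ab hb.1 ?_ ?_
  · have := (χ_ct_iff h.ra b _).1 (hb.2 _ (.inl rfl))
    rwa [ord_neg h.hp, ← pr_eq h.ra] at this
  · have := (χ_ct_iff h.rb b _).1 (hb.2 _ (.inr rfl))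
    rwa [ord_neg h.hp, ← pr_eq h.rb] at this

theorem AB.inj1 (h : AB X α β) {s t : kˣ} (e : ct X α s * ct X β t ∈ ZG X) : s = 1 := by
  obtain ⟨c, hc, h1, h2⟩ := h.l.du α β h.ra h.rb h.ab
  have h3 := e.2 c hc
  rw [X.χ_mul c (ct_mem _ _) (ct_mem _ _), χ_ct h.ra, χ_ct h.rb, ← pr_eq h.ra, ← pr_eq h.rb,
    show pr X c α = 1 from (h.l.sl _ _ hc h.ra).trans h1, show pr X c β = 0 from (h.l.sl _ _ hc h.rb).trans h2,
    zpow_one, zpow_zero, Units.val_one, mul_one] at h3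
  exact Units.val_eq_one.1 h3

theorem AB.inj (h : AB X α β) {s t : kˣ} (e : ph X α β s t ∈ ZG X) : s = 1 ∧ t = 1 :=
  ⟨h.inj1 e, h.symm.inj1 (s := t) (t := s) (by rwa [X.T_comm (ct_mem _ _) (ct_mem _ _)])⟩

theorem AB.ext (h : AB X α β) {s t s' t' : kˣ} (e : ph X α β s t = ph X α β s' t') : s = s' ∧ t = t' := by
  have := h.inj (s := s * s'⁻¹) (t := t * t'⁻¹) (by rw [ph_mul, ph_inv, e, mul_inv_cancel]; exact one_mem _)
  exact ⟨mul_inv_eq_one.1 this.1, mul_inv_eq_one.1 this.2⟩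

theorem AB.eq_one (h : AB X α β) (h1 : g ∈ St X α β) (h2 : g ∈ ZG X) : g = 1 := by
  obtain ⟨s, t, rfl⟩ := exists_ph h1
  obtain ⟨rfl, rfl⟩ := h.inj h2
  exact ph_one

theorem AB.pair (h : AB X α β) (hg : g ∈ G) (h1 : g * ct X α (-1) * g⁻¹ ∈ X.T) (h2 : g * ct X β (-1) * g⁻¹ ∈ X.T) :
    ∃ a b, AB X a b ∧ ∀ s, g * ct X α s * g⁻¹ = ct X a s ∧ g * ct X β s * g⁻¹ = ct X b s := by
  obtain ⟨c, hc, m, ⟨w, hm⟩, e, e'⟩ := X.exists_conj_form (s := fun i : Bool => if i then ct X α (-1) else ct X β (-1))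
    (t := fun i : Bool => g * (if i then ct X α (-1) else ct X β (-1)) * g⁻¹)
    (fun i => by cases i <;> exact ct_mem _ _) (fun i => by cases i <;> assumption) hg fun i => by group
  have H : AB X (X.act w α) (X.act w β) := ⟨h.hp, h.l, h.ra.act w, h.rb.act w,
    (pr_eq (h.rb.act w) _).trans ((cpr_rep _ _ w α h.rb).trans h.c1)⟩
  have h3 : c ∈ Lp X {X.act w α, X.act w β} := by
    refine (le_sup_right : X.S _ ≤ Lp X _) (RGD.Sup_mono (fun b hb => H.sz ⟨hb.1, ?_⟩) hc)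
    rintro _ (rfl | rfl)
    · exact hb.2 _ ⟨true, by rw [← conj_ct hm h.ra]; exact (mul_inv_eq_of_eq_mul (e true)).symm⟩
    · exact hb.2 _ ⟨false, by rw [← conj_ct hm h.rb]; exact (mul_inv_eq_of_eq_mul (e false)).symm⟩
  refine ⟨_, _, H, fun s => ⟨?_, ?_⟩⟩
  · rw [e', show c * m * ct X α s * (c * m)⁻¹ = c * (m * ct X α s * m⁻¹) * c⁻¹ by group, conj_ct hm h.ra,
      ← Lp_comm H.ra (.inl rfl) h3, mul_inv_cancel_right]
  · rw [e', show c * m * ct X β s * (c * m)⁻¹ = c * (m * ct X β s * m⁻¹) * c⁻¹ by group, conj_ct hm h.rb,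
      ← Lp_comm H.rb (.inr rfl) h3, mul_inv_cancel_right]

variable (X α β) in
/-- the four cosets -/
def Vq (v : Y) : Prop :=
  v ∈ ZG X ∨ v * ct X α (-1) ∈ ZG X ∨ v * ct X β (-1) ∈ ZG X ∨ v * ct X α (-1) * ct X β (-1) ∈ ZG X

theorem Vq.T {v : Y} (h : Vq X α β v) : v ∈ X.T := by
  rcases h with h | h | h | h
  · exact h.1
  · exact (mul_mem_cancel_right (ct_mem _ _)).1 h.1
  · exact (mul_mem_cancel_right (ct_mem _ _)).1 h.1
  · exact (mul_mem_cancel_right (ct_mem _ _)).1 ((mul_mem_cancel_right (ct_mem _ _)).1 h.1)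

theorem AB.hex (h : AB X α β) (ha : X.Rt a) (e : Vq X α β (ct X a (-1))) :
    ∃ i j, Hx i j ∧ X.cor a = i • X.cor α + j • X.cor β := by
  have key : ∀ c, X.Rt c → ct X a (-1) * ct X c (-1) ∈ ZG X → X.cor a = X.cor c ∨ X.cor a = -X.cor c := fun c hc e => by
    rcases eq_of_z h.hp h.l.toLS ha hc e with rfl | rfl
    · exact .inl rfl
    · exact .inr (by rw [X.cor_neg ha, neg_neg])
  rcases e with e | e | e | e
  · exact (h.l.nz a ha (ev_of h.hp e)).elim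
  · rcases key _ h.ra e with e | e
    exacts [⟨1, 0, by simp [Hx], by simp [e]⟩, ⟨-1, 0, by simp [Hx], by simp [e]⟩]
  · rcases key _ h.rb e with e | e
    exacts [⟨0, 1, by simp [Hx], by simp [e]⟩, ⟨0, -1, by simp [Hx], by simp [e]⟩]
  · rcases key _ h.rt (by rwa [ct_ph (a := α + β) (α := α) (β := β) (i := 1) (j := 1) (by simp [h.cor]), zpow_one, ph,
      ← mul_assoc]) with e | e
    exacts [⟨1, 1, by simp [Hx], by simp [e, h.cor]⟩, ⟨-1, -1, by simp [Hx], by simp [e, h.cor, add_comm]⟩]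

theorem AB.exists_ac (h : AB X α β) (hg : g ∈ G) (h1 : Vq X α β (g * ct X α (-1) * g⁻¹))
    (h2 : Vq X α β (g * ct X β (-1) * g⁻¹)) :
    ∃ i j m l, Hx i j ∧ Hx m l ∧ 2 * i * m - i * l - j * m + 2 * j * l = -1 ∧ Ac X α β g i j m l := by
  obtain ⟨a, b, H, e⟩ := h.pair hg h1.T h2.T
  obtain ⟨i, j, h3, h4⟩ := h.hex H.ra ((e _).1 ▸ h1)
  obtain ⟨m, l, h5, h6⟩ := h.hex H.rb ((e _).2 ▸ h2)
  refine ⟨i, j, m, l, h3, h5, ?_, fun s t => ?_⟩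
  · have h7 := H.ab
    have a1 : X.wt α ⬝ᵥ X.cor α = 2 := (pr_eq h.ra α).trans (cpr_self _ _ h.ra)
    have a2 : X.wt β ⬝ᵥ X.cor β = 2 := (pr_eq h.rb β).trans (cpr_self _ _ h.rb)
    have a3 : X.wt α ⬝ᵥ X.cor β = -1 := h.ab
    have a4 : X.wt β ⬝ᵥ X.cor α = -1 := h.symm.ab
    rw [pr, h6, dotProduct_add, dotProduct_smul, dotProduct_smul, h.l.sl a α H.ra h.ra, h.l.sl a β H.ra h.rb, h4] at h7
    simp only [dotProduct_add, dotProduct_smul, a1, a2, a3, a4, smul_eq_mul] at h7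
    linear_combination h7
  · rw [ph_mul, ← ct_ph h4, ← ct_ph h6, ← (e s).1, ← (e t).2, ph]
    group

theorem AB.mem_L (h : AB X α β) (hg : g ∈ G) (e : ∀ s t, g * ph X α β s t = ph X α β s t * g) : g ∈ Lp X {α, β} := by
  have h0 : ∀ a ∈ ({α, β} : Set (X.I → ℤ)), ∀ s, ct X a s * g = g * ct X a s := by
    rintro a (rfl | rfl) s
    exacts [ph_left (β := β) s ▸ (e s 1).symm, ph_right (α := α) s ▸ (e 1 s).symm]
  obtain ⟨j, hj⟩ := TO.X.Cn.ppr X Nat.prime_two (Z := {ct X α (-1), ct X β (-1)})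
    (by rintro _ (rfl | rfl) <;> exact ct_mem _ _) (by rintro _ (rfl | rfl) <;> exact ⟨1, by rw [pow_one, sq, ct_sq]⟩) hg
    (by rintro _ (rfl | rfl); exacts [h0 _ (.inl rfl) _, h0 _ (.inr rfl) _])
  obtain ⟨Z, -, z1, z2, z3, z4⟩ := exists_Zp h.hp h.lg
  have := TO.E6.mem_cen_of_cop X z1 hg (fun z hz => by
    obtain ⟨a, ha, s, rfl⟩ := z4 z hz
    exact h0 a ha s) (pow_pos two_pos j) (z2 j) (by
      rw [Datum.cen, z3]
      exact (sup_le_sup_left (RGD.Sup_mono h.sz) _ : X.cen _ ≤ Lp X {α, β}) hj)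
  rwa [Datum.cen, z3] at this

theorem AB.cS (h : AB X α β) (ha : a ∈ ({α, β} : Set (X.I → ℤ))) {n s : Y} (hn : n ∈ X.S {a, -a})
    (hs : s ∈ X.S (Pe X {α, β})) : n * s = s * n := by
  refine TO.X5.comm_S h.l.cz ?_ (fun _ hb => hb.1) ?_ hn hs
  · rintro c (rfl | rfl)
    exacts [h.lg _ ha, S1.lg h.l.sl (h.lg _ ha).1.neg]
  · rintro c (rfl | rfl) b hb
    · exact hb.2 _ ha
    · rw [cpr_neg_right _ _ _ (h.lg _ ha).1, hb.2 _ ha, neg_zero]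

theorem AB.un (h : AB X α β) (ha : a ∈ ({α, β} : Set (X.I → ℤ))) {n : Y} (hn : n ∈ X.S {a, -a})
    (hr : X.Rp (X.rf a) n) (hg : g ∈ Lp X {α, β}) : n * g * n⁻¹ * g⁻¹ ∈ St X α β := by
  obtain ⟨s, hs, t, ht, rfl⟩ := (X.mem_TS fun _ hb => hb.1).1 hg
  obtain ⟨c, rfl⟩ := (X.mem_T t).1 ht
  have h1 : n * X.τ c * n⁻¹ * (X.τ c)⁻¹ = (ct X a (chr (X.wt a) c))⁻¹ := by
    rw [X.conj_τ_rf (h.lg _ ha).1 hr, mul_comm c, map_mul, mul_inv_cancel_right, map_inv]; rfl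
  have h2 := Lp_comm (h.lg _ ha).1 ha ((le_sup_right : X.S _ ≤ Lp X {α, β}) hs) (chr (X.wt a) c)⁻¹
  rw [← mul_assoc, h.cS ha hn hs, show s * n * X.τ c * n⁻¹ * (s * X.τ c)⁻¹ = s * (n * X.τ c * n⁻¹ * (X.τ c)⁻¹) * s⁻¹ by group,
    h1, ← ct_inv, ← h2, mul_inv_cancel_right]
  rcases ha with rfl | rfl
  exacts [subset_closure (.inl ⟨_, rfl⟩), subset_closure (.inr ⟨_, rfl⟩)]

theorem AB.ac1 (h : AB X α β) (hr : X.Rp (X.rf α) g) : Ac X α β g (-1) 0 1 1 :=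
  ac_of hr h.ra h.rb (by rw [X.act_rf_self h.ra, X.cor_neg h.ra]; simp) (by rw [h.symm.add, h.symm.cor]; simp [add_comm])

theorem AB.ac2 (h : AB X α β) (hr : X.Rp (X.rf β) g) : Ac X α β g 1 1 0 (-1) :=
  ac_of hr h.ra h.rb (by rw [h.add, h.cor]; simp) (by rw [X.act_rf_self h.rb, X.cor_neg h.rb]; simp)

end Cfsg.Agent.KM.E2.S1
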