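import Cfsg.Agent.KM.E2.S1b

/-!
# KM, `l = 2`, `E₇` : the decomposition `D = A P` (helper34)
-/

set_option autoImplicit false
set_option linter.unusedSectionVars false
set_option maxHeartbeats 200000

namespace Cfsg.Agent.KM.E2.S1

open Cfsg Cfsg.Lie Cfsg.Agent.DL Cfsg.Agent.Nodes.Reps Cfsg.Agent.Nodes.BNOf Matrix Subgroup Cfsg.Agent.KM.Ht
open Cfsg.Agent.KM.Tor Cfsg.Agent.BpExc.Zc Cfsg.Agent.TO.X5 Cfsg.Agent.Nodes.Coroot
open Cfsg.Agent.KM.Ev (Pe Lp ord_neg Lp_comm exists_Zp ct_sq χ_ct_iff)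

variable {p : ℕ} [Fact p.Prime] {k : Type} [Field k] [CharP k p] {Y : Type} [Group Y] {N : Type} [Fintype N]
  [DecidableEq N] {ρ : Y →* GL N k} {F : MulAut Y} {G : Subgroup Y} [IsAlgClosed k] {X : Datum p ρ F G}
  {α β : X.I → ℤ} {a z g n d v : Y} {D C Γ : Subgroup Y}

theorem St_T (h : g ∈ St X α β) : g ∈ X.T := by
  obtain ⟨s, t, rfl⟩ := exists_ph h
  exact ph_T s t

theorem AB.sl (h : AB X α β) (ha : a ∈ St X α β) (hg : g ∈ Lp X {α, β}) : a * g = g * a := by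
  obtain ⟨s, t, rfl⟩ := exists_ph ha
  exact L_comm h.ra h.rb hg s t

variable (X α β) in
/-- the rational `2`-elements of the torus -/
def Aq : Subgroup Y where
  carrier := {g | g ∈ St X α β ∧ F g = g ∧ ∃ j : ℕ, g ^ 2 ^ j = 1}
  one_mem' := ⟨one_mem _, map_one _, 0, one_pow _⟩
  mul_mem' := fun {a b} ⟨h1, h2, i, h3⟩ ⟨h4, h5, j, h6⟩ => ⟨mul_mem h1 h4, by rw [map_mul, h2, h5], i + j, by
    rw [Commute.mul_pow (X.T_comm (St_T h1) (St_T h4)), pow_add, pow_mul, h3, mul_comm (2 ^ i), pow_mul, h6, one_pow, one_pow, mul_one]⟩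
  inv_mem' := fun {a} ⟨h1, h2, i, h3⟩ => ⟨inv_mem h1, by rw [map_inv, h2], i, by rw [inv_pow, h3, inv_one]⟩

theorem Aq_GF (h : a ∈ Aq X α β) : a ∈ GF F G := ⟨X.T_le_G (St_T h.1), h.2.1⟩

theorem un_mul {S L : Subgroup Y} {a b : Y} (h : S ≤ L) (ha : Un a S L) (hb : Un b S L) : Un (a * b) S L := fun g hg => by
  have := mul_mem (mul_mem (ha _ (h (hb g hg))) (hb g hg)) (ha g hg)
  rwa [show a * (b * g * b⁻¹ * g⁻¹) * a⁻¹ * (b * g * b⁻¹ * g⁻¹)⁻¹ * (b * g * b⁻¹ * g⁻¹) * (a * g * a⁻¹ * g⁻¹) =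
    a * b * g * (a * b)⁻¹ * g⁻¹ by group] at this

theorem AB.fpf (H : AB X α β) (hn : Ac X α β n 0 1 (-1) (-1)) (ha : a ∈ Aq X α β) (e : n * a = a * n) : a = 1 := by
  obtain ⟨h1, -, j, h2⟩ := ha
  obtain ⟨s, t, rfl⟩ := exists_ph h1
  have h3 := hn s t
  rw [e, mul_inv_cancel_right, zpow_zero, one_mul, zpow_one, _root_.zpow_neg_one] at h3
  obtain ⟨h4, h5⟩ := H.ext h3
  rw [← ph_pow] at h2
  have h6 : t ^ 3 = 1 := by
    rw [h4] at h5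
    calc t ^ 3 = t * (t * t) := by rw [pow_succ', sq]
      _ = 1 := by nth_rewrite 1 [h5]; group
  have h7 : t = 1 := orderOf_eq_one_iff.1 (Nat.eq_one_of_dvd_coprimes (Nat.Coprime.pow_right j (by decide))
    (orderOf_dvd_of_pow_eq_one h6) (orderOf_dvd_of_pow_eq_one (H.inj (h2 ▸ one_mem _)).2))
  rw [h4, h7, inv_one, ph_one]

variable (h : Sp X D C Γ α β) (H : AB X α β)
include h

theorem D_GF (hd : d ∈ D) : d ∈ GF F G := h.lz.le (h.lz.CΓ (h.lz.DC hd))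

theorem D_pow (hd : d ∈ D) : ∃ j : ℕ, d ^ 2 ^ j = 1 :=
  let ⟨j, e⟩ := h.lz.pg ⟨d, hd⟩
  ⟨j, congrArg Subtype.val e⟩

theorem D_A (hd : d ∈ D) (hs : d ∈ St X α β) : d ∈ Aq X α β := ⟨hs, (D_GF h hd).2, D_pow h hd⟩

theorem inv_A (hv : v ∈ D) (e : v * v = 1) : ∃ a ∈ Aq X α β, v * a ∈ ZG X := by
  have h1 : ct X α (-1) ∈ Aq X α β := D_A h h.ta (subset_closure (.inl ⟨_, rfl⟩))
  have h2 : ct X β (-1) ∈ Aq X α β := D_A h h.tb (subset_closure (.inr ⟨_, rfl⟩))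
  rcases h.inv v hv e with e | e | e | e
  exacts [⟨1, one_mem _, by rwa [mul_one]⟩, ⟨_, h1, e⟩, ⟨_, h2, e⟩, ⟨_, mul_mem h1 h2, by rwa [← mul_assoc]⟩]

include H

theorem ac_Γ (hg : g ∈ Γ) :
    ∃ i j m l, Hx i j ∧ Hx m l ∧ 2 * i * m - i * l - j * m + 2 * j * l = -1 ∧ Ac X α β g i j m l :=
  H.exists_ac (h.lz.le hg).1 (h.inv _ (h.lz.iv g hg _ h.ta) (by rw [conj_mul, ct_sq, mul_one, mul_inv_cancel]))
    (h.inv _ (h.lz.iv g hg _ h.tb) (by rw [conj_mul, ct_sq, mul_one, mul_inv_cancel]))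

theorem conj_A (hg : g ∈ Γ) (ha : a ∈ Aq X α β) : g * a * g⁻¹ ∈ Aq X α β := by
  obtain ⟨i, j, m, l, -, -, -, e⟩ := ac_Γ h H hg
  obtain ⟨h1, h2, r, h3⟩ := ha
  refine ⟨?_, by rw [map_mul, map_mul, map_inv, h2, (mem_GF.1 (h.lz.le hg)).2], r, by rw [conj_pow, h3, mul_one, mul_inv_cancel]⟩
  obtain ⟨s, t, rfl⟩ := exists_ph h1
  rw [e]
  exact ph_St _ _

theorem A_le : Aq X α β ≤ D :=
  h.lz.core _ (fun _ => Aq_GF) (fun a => let ⟨j, e⟩ := a.2.2.2; ⟨j, Subtype.ext e⟩) fun _ hc _ => conj_A h H (h.lz.CΓ hc)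

theorem inv_comm (hv : v ∈ D) (e : v * v = 1) (hd : d ∈ D) : v * d = d * v := by
  obtain ⟨a, ha, h1⟩ := inv_A h hv e
  have h2 := z_comm h1 (D_GF h hd).1
  rw [mul_assoc, H.sl ha.1 (h.le hd), ← mul_assoc, ← mul_assoc] at h2
  exact mul_right_cancel h2

theorem sq_comm (hv : v ∈ D) (hd : d ∈ D) : v * v * d = d * (v * v) := by
  have h1 := ((h.lz.mem v).1 (h.lz.DC hv)).2 d hd
  have h2 := z_comm h1 (D_GF h hv).1
  calc v * v * d = v * (v * d * v⁻¹ * d⁻¹) * d * v := by group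
    _ = (v * d * v⁻¹ * d⁻¹) * (v * d * v⁻¹ * d⁻¹) * d * v * v := by rw [← h2]; group
    _ = _ := by rw [z_sq H.l h1]; group

theorem dl_A (hn : n ∈ GF F G) (hu : Un n (St X α β) (Lp X {α, β})) (hd : d ∈ D) : n * d * n⁻¹ * d⁻¹ ∈ Aq X α β := by
  have h1 := hu d (h.le hd)
  obtain ⟨j, e⟩ := D_pow h hd
  refine ⟨h1, (mul_mem (mul_mem (mul_mem hn (D_GF h hd)) (inv_mem hn)) (inv_mem (D_GF h hd))).2, j, ?_⟩
  have h2 := Commute.mul_pow (H.sl h1 (h.le hd)) (2 ^ j)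
  rwa [inv_mul_cancel_right, conj_pow, e, mul_one, mul_one, mul_inv_cancel, eq_comm] at h2

theorem nD (hn : n ∈ GF F G) (hu : Un n (St X α β) (Lp X {α, β})) (d : Y) : n * d * n⁻¹ ∈ D ↔ d ∈ D := by
  have := h.lz.fin
  have : Finite (D : Set Y) := Finite.Set.subset (GF F G : Set Y) fun _ => D_GF h
  exact ((mem_normalizer_fintype (S := (D : Set Y)) fun d hd => by
    simpa using mul_mem (A_le h H (dl_A h H hn hu hd)) hd) d).symm

variable (hn : n ∈ GF F G) (hu : Un n (St X α β) (Lp X {α, β})) (hr : Ac X α β n 0 1 (-1) (-1))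
include hr

theorem inv_Z (hv : v ∈ D) (e : v * v = 1) (h0 : n * v = v * n) (hn : n ∈ GF F G) : v ∈ ZG X := by
  obtain ⟨a, ha, h1⟩ := inv_A h hv e
  have h2 := z_comm h1 hn.1
  rw [← mul_assoc, h0, mul_assoc, mul_assoc] at h2
  rwa [H.fpf hr ha (mul_left_cancel h2).symm, mul_one] at h1

theorem sq_Z (hv : v ∈ D) (h0 : n * v = v * n) (hn : n ∈ GF F G) : v * v ∈ ZG X := by
  obtain ⟨j, e⟩ := D_pow h hv
  have key : ∀ (j : ℕ) (v : Y), v ∈ D → n * v = v * n → (v * v) ^ 2 ^ j ∈ ZG X → v * v ∈ ZG X := fun j => by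
    induction j with
    | zero => exact fun v _ _ e => by rwa [pow_zero, pow_one] at e
    | succ j ih =>
      intro v hv h0 e
      have h1 : n * (v * v) = v * v * n := by rw [← mul_assoc, h0, mul_assoc, h0, mul_assoc]
      have h2 := ih _ (mul_mem hv hv) h1 (by rwa [pow_succ', pow_mul, sq] at e)
      by_contra h3
      obtain ⟨y, hy, -, h4⟩ := h.ani _ (mul_mem hv hv) h2 fun e => h3 (inv_Z h H hr (mul_mem hv hv) e h1 hn)
      exact h4 (sq_comm h H hv hy)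
  exact key j v hv h0 (by rw [← sq, ← pow_mul, mul_comm, pow_mul, e, one_pow]; exact one_mem _)

include hn hu

theorem dec (hd : d ∈ D) : ∃ a ∈ Aq X α β, ∃ v ∈ D, n * v = v * n ∧ d = a * v := by
  have := h.lz.fin
  have : Finite (Aq X α β) := Finite.Set.subset (GF F G : Set Y) fun _ => Aq_GF
  have key : ∀ a b : Y, n * a * n⁻¹ * a⁻¹ = n * b * n⁻¹ * b⁻¹ → n * (a⁻¹ * b) = a⁻¹ * b * n := fun a b e => by
    calc n * (a⁻¹ * b) = n * a⁻¹ * n⁻¹ * (n * a * n⁻¹ * a⁻¹) * (n * b * n⁻¹ * b⁻¹)⁻¹ * n * b := by rw [e]; group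
      _ = a⁻¹ * b * (b⁻¹ * (b * n * b⁻¹) * b) := by group
      _ = _ := by group
  obtain ⟨a, e⟩ := Finite.injective_iff_surjective.1 (show Function.Injective fun a : Aq X α β =>
    (⟨_, dl_A h H hn hu (A_le h H a.2)⟩ : Aq X α β) from fun a b e => Subtype.ext (inv_mul_eq_one.1
      (H.fpf hr (mul_mem (inv_mem a.2) b.2) (key _ _ (congrArg Subtype.val e))))) ⟨_, dl_A h H hn hu hd⟩
  exact ⟨a, a.2, _, mul_mem (inv_mem (A_le h H a.2)) hd, key _ _ (congrArg Subtype.val e), (mul_inv_cancel_left _ _).symm⟩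

end Cfsg.Agent.KM.E2.S1
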