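import Cfsg.Agent.KM.E2.S1c

/-!
# KM, `l = 2`, `E₇` : the quaternion factor (helper34)
-/

set_option autoImplicit false
set_option linter.unusedSectionVars false
set_option maxHeartbeats 200000

namespace Cfsg.Agent.KM.E2.S1

open Cfsg Cfsg.Lie Cfsg.Agent.DL Cfsg.Agent.Nodes.Reps Cfsg.Agent.Nodes.BNOf Matrix Subgroup Cfsg.Agent.KM.Ht
open Cfsg.Agent.KM.Tor Cfsg.Agent.BpExc.Zc Cfsg.Agent.TO.X5 Cfsg.Agent.Nodes.Coroot
open Cfsg.Agent.KM.Ev (Pe Lp ord_neg Lp_comm exists_Zp ct_sq χ_ct_iff)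

variable {p : ℕ} [Fact p.Prime] {k : Type} [Field k] [CharP k p] {Y : Type} [Group Y] {N : Type} [Fintype N]
  [DecidableEq N] {ρ : Y →* GL N k} {F : MulAut Y} {G : Subgroup Y} [IsAlgClosed k] {X : Datum p ρ F G}
  {α β : X.I → ℤ} {a z g n d v x y : Y} {D C Γ : Subgroup Y}

theorem pm_one {s : kˣ} {Q : ℤ} (h4 : ¬ 4 ∣ Q - 1) (h1 : s = s ^ Q) {j : ℕ} (h2 : s ^ 2 ^ j = 1) :
    ∃ i : Fin 2, s = (-1) ^ (i : ℕ) := by
  obtain ⟨i, -, e⟩ := (Nat.dvd_prime_pow Nat.prime_two).1 (orderOf_dvd_of_pow_eq_one h2)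
  have h3 : (orderOf s : ℤ) ∣ Q - 1 := orderOf_dvd_iff_zpow_eq_one.2 (by rw [_root_.zpow_sub, ← h1, zpow_one, mul_inv_cancel])
  have h5 : i ≤ 1 := by
    by_contra h5
    refine h4 (dvd_trans ?_ h3)
    rw [e]
    exact_mod_cast pow_dvd_pow 2 (show 2 ≤ i by omega)
  have h6 : s ^ 2 = 1 := orderOf_dvd_iff_pow_eq_one.1 (e ▸ (pow_dvd_pow 2 h5).trans (by rw [pow_one]))
  rcases sq_eq_one_iff.1 (show (s : k) ^ 2 = 1 by rw [← Units.val_pow_eq_pow_val, h6, Units.val_one]) with h7 | h7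
  exacts [⟨0, Units.ext (by simpa using h7)⟩, ⟨1, Units.ext (by simpa using h7)⟩]

variable (h : Sp X D C Γ α β) (H : AB X α β) (hr : Ac X α β n 0 1 (-1) (-1)) (hn : n ∈ GF F G)
  (hu : Un n (St X α β) (Lp X {α, β}))
include h H

theorem conj_x (hx : x ∈ D) (h1 : x * x ∈ ZG X) (h2 : x * x ≠ 1) (hy : y ∈ D) (h3 : x * y ≠ y * x) : y * x * y⁻¹ = x⁻¹ := by
  have h4 := z_eq H.hp H.l (((h.lz.mem y).1 (h.lz.DC hy)).2 x hx) h1
    (fun e => h3 (by rw [mul_inv_eq_one, mul_inv_eq_iff_eq_mul] at e; exact e.symm)) h2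
  rw [mul_inv_eq_iff_eq_mul] at h4
  rw [h4, eq_inv_iff_mul_eq_one, mul_assoc, z_sq H.l h1]

include hr hn hu

theorem exists_xy : ∃ x ∈ D, ∃ y ∈ D, x * x ∈ ZG X ∧ x * x ≠ 1 ∧ y * y ∈ ZG X ∧ x * y ≠ y * x ∧ n * x = x * n := by
  obtain ⟨x0, h0, h1, h2⟩ := h.nab
  obtain ⟨a, ha, x, hx, h3, rfl⟩ := dec h H hn hu hr h0
  have h4 := sq_Z h H hr hx h3 hn
  have h5 : a * x * (a * x) = a * a * (x * x) := by rw [mul_assoc, ← mul_assoc x, ← H.sl ha.1 (h.le hx)]; group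
  rw [h5] at h1 h2
  have h6 : x * x ≠ 1 := by rwa [H.eq_one (mul_mem ha.1 ha.1) ((mul_mem_cancel_right h4).1 h1), one_mul] at h2
  obtain ⟨y, hy, h7, h8⟩ := h.ani x hx h4 h6
  exact ⟨x, hx, y, hy, h4, h6, h7, h8, h3⟩

theorem cen_x (hx : x ∈ D) (h1 : x * x ∈ ZG X) (h2 : x * x ≠ 1) (hy : y ∈ D) (h0 : y * y ∈ ZG X) (h3 : x * y ≠ y * x)
    (h4 : n * x = x * n) (hd : d ∈ D) (e : d * x = x * d) : ∃ a ∈ Aq X α β, ∃ i : Fin 4, d = a * x ^ (i : ℕ) := by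
  obtain ⟨a, ha, v, hv, h5, rfl⟩ := dec h H hn hu hr hd
  rw [← mul_assoc, ← H.sl ha.1 (h.le hx), mul_assoc, mul_assoc, mul_right_inj] at e
  have key : ∀ w ∈ D, w * w = 1 → n * w = w * n → w = 1 ∨ w = x * x := fun w hw h6 h7 =>
    or_iff_not_imp_left.2 fun h8 => z_eq H.hp H.l (inv_Z h H hr hw h6 h7 hn) h1 h8 h2
  refine ⟨a, ha, ?_⟩
  rcases h.four x hx y hy h1 h0 h3 v hv (sq_Z h H hr hv h5 hn) with h6 | h6 | h6 | h6
  · rcases key v hv h6 h5 with h7 | h7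
    exacts [⟨0, by simp [h7]⟩, ⟨2, by simp [h7, sq]⟩]
  · rcases key _ (mul_mem hv hx) h6 (by rw [← mul_assoc, h5, mul_assoc, h4, mul_assoc]) with h7 | h7
    · refine ⟨3, congrArg (a * ·) (mul_right_cancel (b := x) (h7.trans ?_))⟩
      rw [← z_sq H.l h1]
      simp [pow_succ, mul_assoc]
    · exact ⟨1, by simp [mul_right_cancel h7]⟩
  · have h7 := inv_comm h H (mul_mem hv hy) h6 hx
    rw [← mul_assoc, ← e, mul_assoc, mul_assoc] at h7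
    exact (h3 (mul_left_cancel h7).symm).elim
  · have h7 := inv_comm h H (mul_mem (mul_mem hv hx) hy) h6 hx
    rw [← mul_assoc, ← mul_assoc, ← e, mul_assoc, mul_assoc (v * x)] at h7
    exact (h3 (mul_left_cancel h7).symm).elim

theorem q4 {Q : ℤ} (hF : ∀ s t, F (ph X α β s t) = ph X α β (s ^ Q) (t ^ Q)) : 4 ∣ Q - 1 := by
  by_contra h4
  obtain ⟨x, hx, y, hy, h1, h2, h0, h3, h5⟩ := exists_xy h H hr hn hu
  let f : (Fin 2 × Fin 2) × Fin 4 × Fin 2 → Y := fun i =>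
    ph X α β ((-1) ^ (i.1.1 : ℕ)) ((-1) ^ (i.1.2 : ℕ)) * x ^ (i.2.1 : ℕ) * y⁻¹ ^ (i.2.2 : ℕ)
  have key : ∀ d ∈ D, d * x = x * d → ∃ i : (Fin 2 × Fin 2) × Fin 4, d = f (i.1, i.2, 0) := fun d hd e => by
    obtain ⟨a, ⟨h6, h7, j, h8⟩, m, rfl⟩ := cen_x h H hr hn hu hx h1 h2 hy h0 h3 h5 hd e
    obtain ⟨s, t, rfl⟩ := exists_ph h6
    rw [hF] at h7
    rw [← ph_pow] at h8
    obtain ⟨i, rfl⟩ := pm_one h4 (H.ext h7).1.symm (H.inj (h8 ▸ one_mem _)).1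
    obtain ⟨i', rfl⟩ := pm_one h4 (H.ext h7).2.symm (H.inj (h8 ▸ one_mem _)).2
    exact ⟨((i, i'), m), by simp [f]⟩
  have h6 : (D : Set Y) ⊆ Set.range f := fun d hd => by
    by_cases e : d * x = x * d
    · obtain ⟨i, rfl⟩ := key d hd e
      exact ⟨_, rfl⟩
    · have h7 := conj_x h H hx h1 h2 hy h3
      have h8 := conj_x h H hx h1 h2 hd (Ne.symm e)
      obtain ⟨i, h9⟩ := key _ (mul_mem hd hy) (by
        calc d * y * x = d * (y * x * y⁻¹) * y := by group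
          _ = (d * x * d⁻¹)⁻¹ * (d * y) := by rw [h7]; group
          _ = _ := by rw [h8, inv_inv])
      exact ⟨(i.1, i.2, 1), by rw [eq_mul_inv_of_mul_eq h9]; simp [f]⟩
  have h7 := (Set.ncard_le_ncard h6 (Set.finite_range f)).trans
    (Set.image_univ (f := f) ▸ Set.ncard_image_le (s := Set.univ) (f := f))
  rw [Set.ncard_univ, Nat.card_eq_fintype_card] at h7
  exact absurd (h.big.trans_le h7) (by simp)

end Cfsg.Agent.KM.E2.S1
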