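import Cfsg.Agent.KM.E2.Tool
import Cfsg.Agent.KM.Ev.Two
import Cfsg.Agent.KM.Tor.E6a
import Cfsg.Agent.H458.CC.AbsWeil

/-!
# KM, `l = 2`, type `E₇` : the torus of two coroots (helper5)

* `Ze J χ ζ` : the central character; `mem_St`, `St_comm`, `kap`; `Cx` (the part of `Sq` which is used), `Cx.conj`.
-/

set_option autoImplicit false
set_option linter.unusedSectionVars false

namespace Cfsg.Agent.KM.E2.S2

open Cfsg Cfsg.Lie Cfsg.Agent.DL Cfsg.Agent.Nodes.Reps Cfsg.Agent.Nodes.BNOf Matrix Subgroup Cfsg.Agent.KM.Ht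
open Cfsg.Agent.KM.Tor Cfsg.Agent.BpExc.Zc Cfsg.Agent.Nodes.Coroot
open Cfsg.Agent.TO.X5 (ct Lg ct_mem conj_ct ct_mul χ_ct ct_neg)
open Cfsg.Agent.KM.Ev (Pe Lp Lp_comm Lp_le_G)

section Grp

variable {Y : Type} [Group Y] {J : Subgroup Y} {χ : Y → ℂ} {ζ : Y → ℂˣ} {s t : Y}

/-- the centre of `J` -/
def Zj (J : Subgroup Y) : Subgroup Y := J ⊓ centralizer J

/-- the central character -/
structure Ze (J : Subgroup Y) (χ : Y → ℂ) (ζ : Y → ℂˣ) : Prop where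
  ne : χ 1 ≠ 0
  ev : ∀ z ∈ Zj J, ∀ g ∈ J, χ (z * g) = ζ z * χ g

theorem exists_ze (h : IsIrrCharacter J fun g => χ g) : ∃ ζ, Ze J χ ζ := by
  classical
  obtain ⟨η, hη⟩ := H458.CC.AbsWeil.exists_central ((Zj J).subgroupOf J) (fun z hz g => Subtype.ext (hz.2 g g.2).symm) h
  refine ⟨fun z => if h : z ∈ Zj J then η ⟨⟨z, h.1⟩, h⟩ else 1, (Characters.Central.irr_one_ne_zero h :), fun z hz g hg => ?_⟩
  simp only [dif_pos hz]
  exact hη ⟨⟨z, hz.1⟩, hz⟩ ⟨g, hg⟩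

theorem Ze.val (h : Ze J χ ζ) (hs : s ∈ Zj J) : χ s = ζ s * χ 1 := by rw [← h.ev s hs 1 (one_mem _), mul_one]

theorem Ze.mul (h : Ze J χ ζ) (hs : s ∈ Zj J) (ht : t ∈ Zj J) : ζ (s * t) = ζ s * ζ t :=
  Units.ext (mul_right_cancel₀ h.ne (by rw [← h.val (mul_mem hs ht), h.ev s hs t ht.1, h.val ht, Units.val_mul, mul_assoc]))

theorem Ze.one (h : Ze J χ ζ) : ζ 1 = 1 := Units.ext (mul_right_cancel₀ h.ne (by rw [← h.val (one_mem _), Units.val_one, one_mul]))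

theorem Ze.inj (h : Ze J χ ζ) (hs : s ∈ Zj J) (ht : t ∈ Zj J) (e : χ s = χ t) : ζ s = ζ t :=
  Units.ext (mul_right_cancel₀ h.ne (by rw [← h.val hs, ← h.val ht, e]))

theorem Ze.cube (h : Ze J χ ζ) (hs : s ∈ Zj J) : ζ (s ^ 3) = ζ s ^ 3 := by
  rw [pow_three, pow_three, h.mul hs (mul_mem hs hs), h.mul hs hs]

/-- the twisting character -/
theorem Ze.exists_nu (h : Ze J χ ζ) {b : Y} (hb : ∀ g ∈ J, b * g * b⁻¹ * g⁻¹ ∈ Zj J) (hi : ∀ g ∈ J, χ (b * g * b⁻¹) = χ g) :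
    ∃ ν : J →* ℂˣ, (∀ g, ν g = ζ (b * g * b⁻¹ * (g : Y)⁻¹)) ∧ ∀ g, ν g * χ g = χ g := by
  refine ⟨MonoidHom.mk' (fun g => ζ (b * g * b⁻¹ * (g : Y)⁻¹)) fun g g' => ?_, fun _ => rfl, fun g => ?_⟩
  · rw [← h.mul (hb g g.2) (hb g' g'.2), mul_assoc _ (g : Y)⁻¹, (hb g' g'.2).2 _ (inv_mem g.2), coe_mul]
    congr 1
    group
  · rw [MonoidHom.mk'_apply, ← h.ev _ (hb g g.2) g g.2, inv_mul_cancel_right, hi g g.2]

end Grp

variable {p : ℕ} [Fact p.Prime] {k : Type} [Field k] [CharP k p] {Y : Type} [Group Y] {N : Type} [Fintype N]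
  [DecidableEq N] {ρ : Y →* GL N k} {F : MulAut Y} {G : Subgroup Y} [IsAlgClosed k] {X : Datum p ρ F G}
  {a α β : X.I → ℤ} {s t g m b x y : Y} {c d ι : kˣ} {e : ℕ} {v w : X.W} {ε : ℤ}

theorem ct_one (a : X.I → ℤ) : ct X a 1 = 1 := by rw [ct, map_one, map_one]

theorem ct_inv (a : X.I → ℤ) (c : kˣ) : ct X a c⁻¹ = (ct X a c)⁻¹ := by rw [ct, map_inv, map_inv, ct]

theorem ct_pow (a : X.I → ℤ) (c : kˣ) (n : ℕ) : ct X a (c ^ n) = ct X a c ^ n := by rw [ct, map_pow, map_pow, ct]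

theorem χ_ct' (ha : X.Rt a) (b : X.I → ℤ) (c : kˣ) : X.χ b (ct X a c) = (c ^ pr X b a : kˣ) := by rw [χ_ct ha, pr_eq ha]

theorem ct_St (c d : kˣ) : ct X α c * ct X β d ∈ St X α β :=
  mul_mem (subset_closure (.inl ⟨c, rfl⟩)) (subset_closure (.inr ⟨d, rfl⟩))

theorem mem_St (h : s ∈ St X α β) : ∃ c d, s = ct X α c * ct X β d := by
  induction h using closure_induction with
  | mem _ h =>
    rcases h with ⟨c, rfl⟩ | ⟨d, rfl⟩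
    exacts [⟨c, 1, by rw [ct_one, mul_one]⟩, ⟨1, d, by rw [ct_one, one_mul]⟩]
  | one => exact ⟨1, 1, by rw [ct_one, ct_one, mul_one]⟩
  | mul _ _ _ _ h h' =>
    obtain ⟨c, d, rfl⟩ := h
    obtain ⟨c', d', rfl⟩ := h'
    exact ⟨c * c', d * d', by
      rw [ct_mul, ct_mul, mul_assoc, ← mul_assoc (ct X β d), X.T_comm (ct_mem β d) (ct_mem α c'), mul_assoc, mul_assoc]⟩
  | inv _ _ h =>
    obtain ⟨c, d, rfl⟩ := h
    exact ⟨c⁻¹, d⁻¹, by rw [ct_inv, ct_inv, ← _root_.mul_inv_rev, X.T_comm (ct_mem β d) (ct_mem α c)]⟩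

theorem St_T (h : s ∈ St X α β) : s ∈ X.T :=
  let ⟨c, d, e⟩ := mem_St h
  e ▸ mul_mem (ct_mem α c) (ct_mem β d)

theorem St_comm (ha : X.Rt α) (hb : X.Rt β) (h : s ∈ St X α β) (hg : g ∈ Lp X {α, β}) : g * s = s * g := by
  obtain ⟨c, d, rfl⟩ := mem_St h
  rw [← mul_assoc, ← Lp_comm ha (.inl rfl) hg, mul_assoc, ← Lp_comm hb (.inr rfl) hg, mul_assoc]

theorem rf_conj (ha : X.Rt a) (hm : X.Rp (X.rf a) m) (ht : t ∈ X.T) (h : X.χ a t = c) : m * t * m⁻¹ = t * ct X a c⁻¹ := by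
  obtain ⟨u, rfl⟩ := (X.mem_T t).1 ht
  rw [X.χ_τ] at h
  rw [X.conj_τ_rf ha hm, map_mul, map_inv, Units.ext h, ct_inv, ct]

/-- the commutator with the element of order three -/
theorem kap (ha : X.Rt α) (hb : X.Rt β) (ab : pr X α β = -1) (h : X.Rp (X.rf α * X.rf β) b) (ht : t ∈ X.T)
    (h1 : X.χ α t = c) (h2 : X.χ β t = d) : b * t * b⁻¹ * t⁻¹ = ct X α (c * d)⁻¹ * ct X β d⁻¹ := by
  obtain ⟨m, hm, -⟩ := X.exists_rp (X.rf α)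
  obtain ⟨n, hn, -⟩ := X.exists_rp (X.rf β)
  have h3 : b * t * b⁻¹ = m * (n * t * n⁻¹) * m⁻¹ := by
    obtain ⟨u, rfl⟩ := (X.mem_T t).1 ht
    rw [X.conj_τ h, X.conj_τ hn, X.conj_τ hm, X.Wm_mul, mon_mul]
  rw [h3, rf_conj hb hn ht h2, rf_conj ha hm (mul_mem ht (ct_mem _ _)) (c := c * d) (by
    rw [X.χ_mul _ ht (ct_mem _ _), h1, χ_ct' hb, ab, _root_.zpow_neg_one, inv_inv, Units.val_mul]),
    mul_assoc t, X.T_comm ht (mul_mem (ct_mem _ _) (ct_mem _ _)), mul_inv_cancel_right, X.T_comm (ct_mem _ _) (ct_mem _ _)]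

theorem sq_four (h : orderOf ι = 4) : ι ^ 2 = -1 := by
  have h1 : ((ι ^ 2 : kˣ) : k) * (ι ^ 2 : kˣ) = 1 := by
    rw [← Units.val_mul, ← pow_add, show 2 + 2 = orderOf ι from h.symm, pow_orderOf_eq_one, Units.val_one]
  exact Units.ext ((mul_self_eq_one_iff.1 h1).resolve_left fun e =>
    absurd (h ▸ orderOf_dvd_of_pow_eq_one (Units.ext e)) (by decide))

theorem act_eq (L : LS X) (hp : p ≠ 2) (hι : orderOf ι = 4) (ha : X.Rt a) (hm : X.Rp v m)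
    (h : m * ct X a ι = ct X a ι * m) : X.act v a = a := by
  have h1 := conj_ct hm ha ι
  rw [h, mul_inv_cancel_right] at h1
  have h2 : ct X a (-1) = ct X (X.act v a) (-1) := by rw [← sq_four hι, ct_pow, ct_pow, h1]
  refine (L.ct_inj hp ha (ha.act v) (by rw [← h2, Ev.ct_sq]; exact one_mem _)).resolve_right fun e => L.ct_not hp ha ?_
  rw [show X.act v a = -a from e, ct_neg ha, ct_inv, ← mul_eq_one_iff_eq_inv, ← sq, ← ct_pow, sq_four hι] at h1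
  exact h1 ▸ one_mem _

theorem F_cen {Z : Set Y} (hZ : Z ⊆ X.T) (hF : ∀ z ∈ Z, F z ∈ Z) (h : g ∈ X.cen Z) : F g ∈ X.cen Z := by
  obtain ⟨u, hu, t, ht, rfl⟩ := (X.mem_TS X.Sz_root).1 h
  rw [map_mul]
  exact mul_mem (X.S_le_cen _ (X.F_mem_S X.Sz_root (fun _ => X.g_mem_Sz hZ hF) hu)) (X.T_le_cen _ (X.F_mem_T ht))

variable (X) in
/-- the data which are used -/
structure Cx (α β : X.I → ℤ) (e : ℕ) (w : X.W) (ε : ℤ) (b x y : Y) : Prop where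
  hp : p ≠ 2
  l7 : L7 X
  ra : X.Rt α
  rb : X.Rt β
  ab : pr X α β = -1
  inn : Inn X e w
  sg : ε = 1 ∨ ε = -1
  wa : X.act w α = ε • α
  wb : X.act w β = ε • β
  q4 : 4 ∣ ε * (p : ℤ) ^ e - 1
  bF : F b = b
  br : X.Rp (X.rf α * X.rf β) b
  bS : ∀ s ∈ X.S (Pe X {α, β}), b * s = s * b
  xF : F x = x
  xL : x ∈ Lp X {α, β}
  yL : y ∈ Lp X {α, β}
  xZ : x * x ∈ ZG X
  x1 : x * x ≠ 1
  yx : y * x * y⁻¹ = x⁻¹
  bx : b * x = x * b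

variable (X α β ι) in
/-- two elements of order four -/
def Z2 : Set Y := (fun a => ct X a ι) '' {α, β}

theorem Z2_T : Z2 X α β ι ⊆ X.T := fun _ ⟨_, _, e⟩ => e ▸ ct_mem _ _

namespace Cx

variable (h : Cx X α β e w ε b x y)
include h

theorem ba : pr X β α = -1 := (h.l7.symm h.rb h.ra).trans h.ab

theorem rt : ∀ a ∈ ({α, β} : Set (X.I → ℤ)), X.Rt a := by
  rintro _ (rfl | rfl)
  exacts [h.ra, h.rb]

theorem wab : ∀ a ∈ ({α, β} : Set (X.I → ℤ)), X.act w a = ε • a := by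
  rintro _ (rfl | rfl)
  exacts [h.wa, h.wb]

theorem sz2 (hι : orderOf ι = 4) : X.Sz (Z2 X α β ι) = Pe X {α, β} :=
  Ev.sz_ct (fun a ha => h.l7.lg (h.rt a ha)) (by omega)

theorem cen2 (hι : orderOf ι = 4) : X.cen (Z2 X α β ι) = Lp X {α, β} := by rw [Datum.cen, h.sz2 hι, Lp]

theorem x4 : x ^ 2 ^ 2 = 1 := by
  have h1 := ZG_comm h.xZ (Lp_le_G h.yL)
  have h2 : y * (x * x) * y⁻¹ = x⁻¹ * x⁻¹ := by rw [← h.yx]; group
  rw [h1, mul_inv_cancel_right] at h2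
  calc _ = x * x * (x * x) := by
        rw [show 2 ^ 2 = 4 from rfl]
        simp only [pow_succ, pow_zero, one_mul, mul_assoc]
    _ = 1 := by nth_rw 1 [h2]; group

theorem exists_i : ∃ ι : kˣ, orderOf ι = 4 := exists_prim p k fun e =>
  h.hp ((Nat.prime_dvd_prime_iff_eq Fact.out Nat.prime_two).1 ((Fact.out : p.Prime).dvd_of_dvd_pow (n := 2) e))

theorem St_J (hs : s ∈ St X α β) (hF : F s = s) : s ∈ Zj (Jz X α β x) :=
  ⟨⟨⟨⟨X.T_le_G (St_T hs), hF⟩, le_sup_left (a := X.T) (St_T hs)⟩,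
    mem_centralizer_singleton_iff.2 (St_comm h.ra h.rb hs h.xL).symm⟩, fun _ hg => St_comm h.ra h.rb hs hg.1.2⟩

theorem kap_St (hg : g ∈ Lp X {α, β}) : b * g * b⁻¹ * g⁻¹ ∈ St X α β := by
  obtain ⟨u, hu, t, ht, rfl⟩ := (X.mem_TS fun _ h => h.1).1 hg
  have h1 := kap h.ra h.rb h.ab h.br ht (c := Units.mk0 _ (X.χ_ne_zero α t)) (d := Units.mk0 _ (X.χ_ne_zero β t)) rfl rfl
  rw [show b * (u * t) * b⁻¹ * (u * t)⁻¹ = b * u * b⁻¹ * (b * t * b⁻¹ * t⁻¹) * u⁻¹ by group, h.bS u hu, mul_inv_cancel_right, h1,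
    St_comm h.ra h.rb (ct_St _ _) (le_sup_right (a := X.T) hu), mul_inv_cancel_right]
  exact ct_St _ _

theorem kap_J (hg : g ∈ Jz X α β x) : b * g * b⁻¹ * g⁻¹ ∈ St X α β ∧ F (b * g * b⁻¹ * g⁻¹) = b * g * b⁻¹ * g⁻¹ :=
  ⟨h.kap_St hg.1.2, by simp only [map_mul, map_inv, h.bF, (mem_GF.1 hg.1.1).2]⟩

variable (hFR : BoxFR)
include hFR

theorem F_ct (ha : a ∈ ({α, β} : Set (X.I → ℤ))) (c : kˣ) : F (ct X a c) = ct X a (c ^ (ε * (p : ℤ) ^ e)) :=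
  (((hFR X e w h.l7.toLS h.inn).2 ε h.sg).2 a (h.rt a ha) (h.wab a ha)).1 c

theorem fix_ct (ha : a ∈ ({α, β} : Set (X.I → ℤ))) (hc : c ^ (ε * (p : ℤ) ^ e - 1) = 1) : F (ct X a c) = ct X a c := by
  rw [_root_.zpow_sub_one, mul_inv_eq_one] at hc
  rw [h.F_ct hFR ha, hc]

theorem fix_Z2 (hι : orderOf ι = 4) : ∀ z ∈ Z2 X α β ι, F z = z := fun _ ⟨_, ha, e⟩ =>
  e ▸ h.fix_ct hFR ha (orderOf_dvd_iff_zpow_eq_one.1 (hι ▸ h.q4))

theorem of_fix (hF : F (ct X α c * ct X β d) = ct X α c * ct X β d) :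
    c ^ (ε * (p : ℤ) ^ e - 1) = 1 ∧ d ^ (ε * (p : ℤ) ^ e - 1) = 1 := by
  rw [map_mul, h.F_ct hFR (.inl rfl), h.F_ct hFR (.inr rfl)] at hF
  obtain ⟨a, h1, h2, h3⟩ := h.l7.du α β h.ra h.rb h.ab
  obtain ⟨a', k1, k2, k3⟩ := h.l7.du β α h.rb h.ra h.ba
  have h4 := congrArg (X.χ a) hF
  have h5 := congrArg (X.χ a') hF
  simp only [X.χ_mul _ (ct_mem _ _) (ct_mem _ _), χ_ct' h.ra, χ_ct' h.rb, h.l7.symm h1 h.ra, h.l7.symm h1 h.rb, h.l7.symm k1 h.ra,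
    h.l7.symm k1 h.rb, h2, h3, k2, k3, zpow_one, zpow_zero, Units.val_one, mul_one, one_mul, Units.val_inj] at h4 h5
  simp only [_root_.zpow_sub_one, h4, h5, mul_inv_cancel, and_self]

/-! ### change of the frame -/

variable (hg : g ∈ Lp X {α, β}) (hN : g⁻¹ * F g ∈ X.NN)

omit hFR in
theorem ct_conj' (ha : a ∈ ({α, β} : Set (X.I → ℤ))) : ct (X.conj (Lp_le_G hg) hN) a = ct X a := funext fun c => by
  rw [ct_conj, ← Lp_comm (h.rt a ha) ha hg, mul_inv_cancel_right]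

omit hFR in
theorem St_conj : St (X.conj (Lp_le_G hg) hN) α β = St X α β := by
  unfold St
  rw [h.ct_conj' hg hN (.inl rfl), h.ct_conj' hg hN (.inr rfl)]

omit h hFR in
theorem Lp_conj' : Lp (X.conj (Lp_le_G hg) hN) {α, β} = Lp X {α, β} :=
  (Lp_conj _ hN _).trans (Subgroup.ext fun _ => mem_cj.trans
    ((Subgroup.mul_mem_cancel_right _ hg).trans (Subgroup.mul_mem_cancel_left _ (inv_mem hg))))

omit h hFR in
theorem Jz_conj : Jz (X.conj (Lp_le_G hg) hN) α β x = Jz X α β x := by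
  unfold Jz
  rw [Lp_conj' hg hN]

theorem conj : Cx (X.conj (Lp_le_G hg) hN) α β e (X.pr (g⁻¹ * F g) * w) ε b x y := by
  obtain ⟨ι, hι⟩ := h.exists_i
  have h1 : F g ∈ Lp X {α, β} := h.cen2 hι ▸ F_cen Z2_T (fun z hz => (h.fix_Z2 hFR hι z hz).symm ▸ hz) (h.cen2 hι ▸ hg)
  have h2 : ∀ a ∈ ({α, β} : Set (X.I → ℤ)), X.act (X.pr (g⁻¹ * F g) * w) a = ε • a := fun a ha => by
    rw [act_mul', h.wab a ha, TW.a_smul, act_eq h.l7.toLS h.hp hι (h.rt a ha) (X.rp_pr hN)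
      (Lp_comm (h.rt a ha) ha (mul_mem (inv_mem hg) h1) ι).symm]
  obtain ⟨u, hu, t, ht, h3⟩ := (X.mem_TS fun _ h => h.1).1 hg
  have h4 : g⁻¹ * b * g = t⁻¹ * b * t := by rw [h3, _root_.mul_inv_rev, mul_assoc, mul_assoc, ← mul_assoc b, h.bS u hu]; group
  refine ⟨h.hp, h.l7.conj _ hN, h.ra, h.rb, by rw [pr_conj]; exact h.ab, h.inn.conj _ hN, h.sg, h2 α (.inl rfl), h2 β (.inr rfl),
    h.q4, h.bF, ?_, fun s hs => ?_, h.xF, (Lp_conj' hg hN).ge h.xL, (Lp_conj' hg hN).ge h.yL, (ZG_conj _ hN).ge h.xZ, h.x1,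
    h.yx, h.bx⟩
  · rw [show b = g * (t⁻¹ * b * t) * g⁻¹ by rw [← h4]; group, X.conj_rp_iff]
    have h5 := ((rp_of_mem (inv_mem ht)).mul h.br).mul_mem_right ht
    rwa [one_mul] at h5
  · have h5 : t * (g⁻¹ * s * g) * t⁻¹ ∈ X.S (Pe X {α, β}) :=
      X.conj_mem_S_of_T (fun _ h => h.1) ht (mem_cj.1 ((X.conj_S (Lp_le_G hg) hN _).le hs))
    rw [h3, show t * ((u * t)⁻¹ * s * (u * t)) * t⁻¹ = u⁻¹ * s * u by group] at h5
    exact h.bS s ((Subgroup.mul_mem_cancel_left _ (inv_mem hu)).1 ((Subgroup.mul_mem_cancel_right _ hu).1 h5))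

end Cx

end Cfsg.Agent.KM.E2.S2
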